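import Mathlib
import Cfsg.Agent.FUS.EssSmall
import Cfsg.Agent.FUS.ResistRk2
import Cfsg.Agent.PLOC.ClassTwo

/-!
# Eigenvalues of automorphisms on sections of prime order
-/

set_option autoImplicit false

namespace CL.EigC
open Subgroup Cfsg CL.Fus CL.TV CL.EssSm
open scoped commutatorElement

variable {G : Type*} [Group G] {p : ℕ} {τ : MulAut G} {A B : Subgroup G} {a b c : ℤ}

/-- `τ` acts on the section `A / B` as the `c`-th power map. -/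
def Ev (τ : MulAut G) (A B : Subgroup G) (c : ℤ) : Prop := ∀ y ∈ A, (y ^ c)⁻¹ * τ y ∈ B

theorem Ev.congr (h : Ev τ A B a) (hp : ∀ y ∈ A, y ^ p ∈ B) (e : (a : ZMod p) = b) : Ev τ A B b := by
  intro y hy
  obtain ⟨k, hk⟩ := (ZMod.intCast_eq_intCast_iff_dvd_sub a b p).1 e
  have : (y ^ b)⁻¹ * τ y = ((y ^ p) ^ k)⁻¹ * ((y ^ a)⁻¹ * τ y) := by
    rw [← zpow_natCast, ← zpow_mul, ← hk]; group
  exact this ▸ mul_mem (inv_mem (zpow_mem (hp y hy) k)) (h y hy)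

theorem Ev.mul_mem (h : Ev τ A B (-1)) {y : G} (hy : y ∈ A) : y * τ y ∈ B := by simpa using h y hy

theorem Ev.triv (h : Ev τ A B 1) {y : G} (hy : y ∈ A) : y⁻¹ * τ y ∈ B := by simpa using h y hy

variable [hp : Fact p.Prime]

theorem Ev.eq (h : Ev τ A B a) {y : G} (hy : y ∈ A) (hyB : y ∉ B) (hp : y ^ p ∈ B)
    (h' : (y ^ b)⁻¹ * τ y ∈ B) : (a : ZMod p) = b := by
  by_contra e
  refine hyB (mem_of_zpow_mem (c := b - a) hp ?_ (by push_cast; exact sub_ne_zero.2 (Ne.symm e)))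
  have := B.mul_mem (h y hy) (B.inv_mem h')
  rwa [show (y ^ a)⁻¹ * τ y * ((y ^ b)⁻¹ * τ y)⁻¹ = y ^ (b - a) by group] at this

theorem exists_ev [B.Normal] (h : B.relIndex A = p) (hA : ∀ y ∈ A, τ y ∈ A) (hB : ∀ y, τ y ∈ B ↔ y ∈ B) :
    ∃ c : ℤ, (c : ZMod p) ≠ 0 ∧ Ev τ A B c := by
  have hc : Nat.card (A.map (QuotientGroup.mk' B)) = p := by rwa [← relIndex_ker, QuotientGroup.ker_mk']
  obtain ⟨x, hx, hxB⟩ := SetLike.not_le_iff_exists.1 fun e : A ≤ B => hp.out.one_lt.ne' (h ▸ relIndex_eq_one.2 e)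
  have h1 : (x : G ⧸ B) ≠ 1 := mt (QuotientGroup.eq_one_iff x).1 hxB
  have key : ∀ y ∈ A, ∃ n : ℤ, (x : G ⧸ B) ^ n = y := fun y hy =>
    mem_zpowers_of_card_prime hc ⟨x, hx, rfl⟩ h1 ⟨y, hy, rfl⟩
  obtain ⟨c, hc'⟩ := key _ (hA x hx)
  refine ⟨c, fun e => hxB ((hB x).1 ((QuotientGroup.eq_one_iff _).1 ?_)), fun y hy => ?_⟩
  · obtain ⟨k, rfl⟩ := (ZMod.intCast_zmod_eq_zero_iff_dvd c p).1 e
    rw [← hc', zpow_mul, zpow_natCast, ← QuotientGroup.mk_pow,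
      (QuotientGroup.eq_one_iff _).2 (h ▸ pow_relIndex_mem B hx), one_zpow]
  · obtain ⟨n, hn⟩ := key y hy
    have h2 : (x ^ n)⁻¹ * y ∈ B := QuotientGroup.eq.1 hn
    have h3 := QuotientGroup.eq.2 (show (τ (x ^ n))⁻¹ * τ y ∈ B by rw [← map_inv, ← map_mul]; exact (hB _).2 h2)
    refine QuotientGroup.eq.1 ?_
    rw [← h3, map_zpow, QuotientGroup.mk_zpow, QuotientGroup.mk_zpow, ← hc', ← hn, ← zpow_mul, ← zpow_mul, mul_comm]

theorem exists_ev_char [A.Characteristic] [hB : B.Characteristic] (h : B.relIndex A = p) (τ : MulAut G) :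
    ∃ c : ℤ, (c : ZMod p) ≠ 0 ∧ Ev τ A B c :=
  exists_ev h (fun y hy => characteristic_iff_le_comap.1 ‹_› τ hy) fun y => by
    rw [← SetLike.ext_iff.1 (characteristic_iff_comap_eq.1 hB τ) y]; rfl

theorem Ev.of_elt [B.Normal] (h : B.relIndex A = p) (hA : ∀ y ∈ A, τ y ∈ A) (hB : ∀ y, τ y ∈ B ↔ y ∈ B)
    {y : G} (hy : y ∈ A) (hyB : y ∉ B) (h' : (y ^ b)⁻¹ * τ y ∈ B) : Ev τ A B b := by
  obtain ⟨c, -, hc⟩ := exists_ev h hA hB
  exact hc.congr (fun y hy => h ▸ pow_relIndex_mem B hy) (hc.eq hy hyB (h ▸ pow_relIndex_mem B hy) h')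

/-- The commutator map multiplies eigenvalues. -/
theorem Ev.rel {X Y D N : Subgroup G} [N.Normal] (h1 : Ev τ X A a) (h2 : Ev τ Y B b) (h3 : Ev τ D N c)
    (hBY : B ≤ Y) (hXY : ⁅X, Y⁆ ≤ D) (hD : ⁅D, (⊤ : Subgroup G)⁆ ≤ N) (hA : ⁅A, Y⁆ ≤ N) (hB : ⁅X, B⁆ ≤ N)
    (hp : ∀ d ∈ D, d ^ p ∈ N) (hne : ¬ ⁅X, Y⁆ ≤ N) : (c : ZMod p) = a * b := by
  simp only [commutator_le, not_forall] at hXY hD hA hB hne
  obtain ⟨x, hx, y, hy, hne⟩ := hne
  rw [← Int.cast_mul]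
  refine h3.eq (hXY x hx y hy) hne (hp _ (hXY x hx y hy)) (QuotientGroup.eq.1 ?_)
  have e1 : τ x = x ^ a * ((x ^ a)⁻¹ * τ x) := by group
  have e2 : τ y = y ^ b * ((y ^ b)⁻¹ * τ y) := by group
  have hy' : τ y ∈ Y := e2 ▸ Y.mul_mem (zpow_mem hy b) (hBY (h2 y hy))
  have hc : ∀ x ∈ X, ∀ y ∈ Y, ∀ g : G, Commute (g : G ⧸ N) ⁅(x : G ⧸ N), (y : G ⧸ N)⁆ := fun x hx y hy g =>
    (commutatorElement_eq_one_iff_commute.1 ((QuotientGroup.eq_one_iff _).2 (hD _ (hXY x hx y hy) g trivial))).symm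
  have h4 : ⁅(((x ^ a)⁻¹ * τ x : G) : G ⧸ N), ((τ y : G) : G ⧸ N)⁆ = 1 :=
    (QuotientGroup.eq_one_iff _).2 (hA _ (h1 x hx) _ hy')
  have h5 : ⁅((x ^ a : G) : G ⧸ N), (((y ^ b)⁻¹ * τ y : G) : G ⧸ N)⁆ = 1 :=
    (QuotientGroup.eq_one_iff _).2 (hB _ (zpow_mem hx a) _ (h2 y hy))
  rw [map_commutatorElement]
  change ⁅(x : G ⧸ N), (y : G ⧸ N)⁆ ^ (a * b) = ⁅((τ x : G) : G ⧸ N), ((τ y : G) : G ⧸ N)⁆
  rw [e1, QuotientGroup.mk_mul, PG.commutator_mul_left_of_commute (by rw [h4]; exact Commute.one_right _), h4,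
    one_mul, e2, QuotientGroup.mk_mul, commutatorElement_mul_right_eq_mul_conj, h5,
    QuotientGroup.mk_zpow, QuotientGroup.mk_zpow, PG.commutator_zpow_left (by
      simpa using hc x hx _ (zpow_mem hy b) x), PG.commutator_zpow_right (hc x hx y hy y), ← zpow_mul, mul_comm b]
  simp

theorem sub_one_dvd {n : ℕ} (h : ∀ a : ZMod p, a ≠ 0 → a ^ n = 1) : p - 1 ∣ n := by
  rw [← ZMod.card_units p, ← Nat.card_eq_fintype_card, ← IsCyclic.exponent_eq_card]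
  exact Monoid.exponent_dvd_of_forall_pow_eq_one fun u => Units.ext (by simpa using h u u.ne_zero)

theorem exists_int_inv {a : ZMod p} (ha : a ≠ 0) : ∃ s t : ℤ, (s : ZMod p) = a ∧ (s : ZMod p) * t = 1 :=
  ⟨(a.cast : ℤ), ((a⁻¹).cast : ℤ), by simp, by simp [ha]⟩

variable [Finite G]

/-- A group of automorphisms acting as a `p'`-group on `G / G'`. -/
def PPrime (p : ℕ) (Γ : Subgroup (MulAut G)) : Prop :=
  ∀ γ ∈ Γ, ∃ m : ℕ, m.Coprime p ∧ γ ^ m ∈ trivOn (commutator G) ⊤ le_top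

theorem PPrime.triv {Γ : Subgroup (MulAut G)} (h : PPrime p Γ) (hG : IsPGroup p G) {γ : MulAut G} (hγ : γ ∈ Γ)
    (h1 : commutator G ≤ B) (h2 : B ≤ A) (t1 : γ ∈ trivOn _ _ h1) (t2 : γ ∈ trivOn _ _ h2)
    (t3 : γ ∈ trivOn A ⊤ le_top) : γ ∈ trivOn (commutator G) ⊤ le_top := by
  obtain ⟨m, hm, h3⟩ := h γ hγ
  obtain ⟨k, hk⟩ := exists_pow_coprime_order (p := p) γ
  have hco : CopOn p ⊤ (γ ^ p ^ k : MulAut G) := ⟨_, hk, fun x _ =>
    (smul_iterate_apply (γ ^ p ^ k) _ x).trans (by rw [pow_orderOf_eq_one, one_smul])⟩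
  have hT := hG.to_subgroup ⊤
  have hf : IsHomOn ⊤ (γ ^ p ^ k : MulAut G) := fun x _ y _ => map_mul _ x y
  have h4 : γ ^ p ^ k ∈ trivOn (commutator G) ⊤ le_top := hco.trivMod hT hf (fun _ _ => trivial) h1
    (fun y hy => pow_mem t1 _ y hy.2) (hco.trivMod hT hf (fun _ _ => trivial) h2
      (fun y hy => pow_mem t2 _ y hy.2) (pow_mem t3 _))
  obtain ⟨u, v, huv⟩ := Nat.isCoprime_iff_coprime.2 (hm.pow_right k)
  rw [← zpow_one γ, ← huv, zpow_add, mul_comm u, mul_comm v, zpow_mul, zpow_mul, zpow_natCast, zpow_natCast]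
  exact mul_mem (zpow_mem h3 u) (zpow_mem h4 v)

theorem commutator_mem_trivOn [A.Characteristic] [B.Characteristic] (hBA : B ≤ A) (h : B.relIndex A ∣ p)
    (σ τ : MulAut G) : ⁅σ, τ⁆ ∈ trivOn B A hBA := by
  have hA : ∀ σ : MulAut G, ∀ y ∈ A, σ y ∈ A := fun σ y hy => characteristic_iff_le_comap.1 ‹_› σ hy
  have hB : ∀ σ : MulAut G, ∀ y ∈ B, σ y ∈ B := fun σ y hy => characteristic_iff_le_comap.1 ‹_› σ hy
  rcases (Nat.dvd_prime hp.out).1 h with h | h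
  · exact fun y hy => relIndex_eq_one.1 h (mul_mem (inv_mem hy) (hA _ y hy))
  obtain ⟨a, -, ha⟩ := exists_ev_char h σ
  obtain ⟨b, -, hb⟩ := exists_ev_char h τ
  have key : ∀ {σ τ : MulAut G} {a b : ℤ}, Ev σ A B a → Ev τ A B b → ∀ y ∈ A, (y ^ (a * b))⁻¹ * σ (τ y) ∈ B :=
    fun {σ τ a b} ha hb y hy => by
      have := B.mul_mem (ha _ (zpow_mem hy b)) (hB σ _ (hb y hy))
      rwa [← zpow_mul, map_mul, map_inv, mul_assoc, mul_inv_cancel_left, mul_comm b] at this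
  intro y hy
  have hy' := hA (σ⁻¹ * τ⁻¹) y hy
  have := B.mul_mem (B.inv_mem (key hb ha _ hy')) (mul_comm a b ▸ key ha hb _ hy')
  simpa [commutatorElement_def, mul_assoc] using this

/-- An invariant homomorphism to the abelianization. -/
theorem exists_invariant_hom {Γ : Subgroup (MulAut G)} (h : PPrime p Γ) (hG : IsPGroup p G) (hp2 : p ≠ 2)
    {C L N : Subgroup G} [C.Characteristic] [L.Characteristic] (h1 : commutator G ≤ L) (h2 : L ≤ C)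
    (i1 : L.relIndex C ∣ p) (i2 : C.index ∣ p) (hL : ∀ τ ∈ Γ, τ ∈ trivOn _ _ h1) {σ : MulAut G} (hσ : σ ∈ Γ)
    (s1 : ∀ y, y * σ y ∈ N) (s2 : ∀ y ∈ N, y * σ y ∈ L) (hne : ¬ L ≤ commutator G) :
    ∃ θ : G →* Abelianization G, (∀ τ ∈ Γ, ∀ y, θ (τ y) = θ y) ∧ θ.ker ≠ ⊤ := by
  have hof : ∀ {x y : G}, x⁻¹ * y ∈ commutator G → Abelianization.of x = Abelianization.of y :=
    fun h => QuotientGroup.eq.2 h
  let ψ : G →* Abelianization G := Abelianization.of * Abelianization.of.comp σ.toMonoidHom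
  have hψ : ∀ y, ψ y = Abelianization.of (y * σ y) := fun y => (map_mul _ _ _).symm
  have hc : ∀ τ ∈ Γ, ∀ y, Abelianization.of (σ (τ y)) = Abelianization.of (τ (σ y)) := fun τ hτ y => by
    have hm : ⁅τ, σ⁆ ∈ Γ := mul_mem (mul_mem (mul_mem hτ hσ) (inv_mem hτ)) (inv_mem hσ)
    have := h.triv hG hm h1 h2 (hL _ hm) (commutator_mem_trivOn h2 i1 τ σ)
      (commutator_mem_trivOn (p := p) le_top (by rwa [relIndex_top_right]) τ σ) (σ (τ y)) trivial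
    exact hof (by simpa [commutatorElement_def] using this)
  have hτ : ∀ τ : MulAut G, ∀ x y, Abelianization.of x = Abelianization.of y →
      Abelianization.of (τ x) = Abelianization.of (τ y) := fun τ x y e => hof (by
    rw [← map_inv, ← map_mul]; exact characteristic_iff_le_comap.1 inferInstance τ (QuotientGroup.eq.1 e))
  refine ⟨ψ * ψ.comp σ.toMonoidHom, fun τ hτΓ y => ?_, fun e => hne fun d hd => ?_⟩
  · have h3 : ∀ y, (ψ * ψ.comp σ.toMonoidHom) y = Abelianization.of (y * σ y * σ (y * σ y)) := fun y =>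
      (map_mul ψ y (σ y)).symm.trans (hψ _)
    rw [h3, h3, hof (hL τ hτΓ _ (s2 _ (s1 y)))]
    simp only [map_mul, hc τ hτΓ, hτ σ _ _ (hc τ hτΓ y)]
  · have h3 : ψ d * ψ (σ d) = 1 := e.ge (mem_top d)
    have h4 := (hof (hL σ hσ d hd)).symm
    have h5 := hτ σ _ _ h4
    simp only [hψ, map_mul, h4, h5] at h3
    obtain ⟨k, hk⟩ := hG d
    have h6 : Abelianization.of d ^ 2 ^ 2 = 1 := by rw [← h3, pow_two 2, pow_mul, pow_two, pow_two]
    have h7 : Abelianization.of d ^ p ^ k = 1 := by rw [← map_pow, hk, map_one]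
    have := pow_gcd_eq_one.2 ⟨h6, h7⟩
    rw [(((Nat.coprime_primes Nat.prime_two hp.out).2 hp2.symm).pow 2 k).gcd_eq_one, pow_one] at this
    exact (QuotientGroup.eq_one_iff d).1 this

end CL.EigC
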