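import Mathlib
import Cfsg.Agent.FUS.EigCalc
import Cfsg.Agent.FUS.CenterFus
import Cfsg.Agent.FUS.Frattini

/-!
# Rank two sections of radical subgroups, extension of automorphisms to `S`, focal control
-/

set_option autoImplicit false

namespace CL.EssSm
open Subgroup Cfsg Cfsg.FusionSystem CL.Fus CL.TV CL.QuadCent CL.EigC
open scoped commutatorElement

section rad
variable {V : Type*} [Group V] {p : ℕ} {G : Subgroup (MulAut V)} {u : MulAut V} [Finite V] [hp : Fact p.Prime]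

namespace Rad
variable (h : Rad p G u) {A : Subgroup V} [A.Normal] (h1 : frattini V ≤ A) (hA : Inv G A)
  (i1 : (frattini V).relIndex A ∣ p) (i2 : A.index = p ^ 2)
include h

omit [Finite V] hp in
theorem pu_quot : IsPGroup p (zpowers (quotHom G.subtype A hA ⟨u, h.mem⟩)) := by
  obtain ⟨k, hk⟩ := isPGroup_zpowers_iff.1 h.pu
  exact isPGroup_zpowers_iff.2 ⟨k, by
    rw [← map_pow, show (⟨u, h.mem⟩ : G) ^ p ^ k = 1 from Subtype.ext hk, map_one]⟩

include h1 i1

theorem quot_ne_one : quotHom G.subtype A hA ⟨u, h.mem⟩ ≠ 1 := fun e =>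
  h.notMem (h.mem_inn h1 le_top hA (inv_of_char G ⊤) h.mem
    (triv_of_relIndex_dvd h.mem h.pu (inv_of_char G _) hA i1)
    (fun y _ => QuotientGroup.eq.1 (congrArg (· (y : V ⧸ A)) e).symm) fun _ => trivial)

include i2

theorem exists_move : ∃ g : G, ∃ y, quotHom G.subtype A hA ⟨u, h.mem⟩ y = y ∧
    quotHom G.subtype A hA ⟨u, h.mem⟩ (quotHom G.subtype A hA g y) ≠ quotHom G.subtype A hA g y := by
  by_contra! H
  have hu1 := h.quot_ne_one h1 hA i1
  have hc := card_fixAut i2 hu1 (h.pu_quot hA)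
  have := h.irr h1 hA i1 i2.dvd (M := (fixAut (quotHom G.subtype A hA ⟨u, h.mem⟩)).comap (QuotientGroup.mk' A))
    (fun y hy => by rw [mem_comap, QuotientGroup.mk'_apply, (QuotientGroup.eq_one_iff y).2 hy]; exact one_mem _)
    (fun g y hy => H g y hy) fun e => hu1 (MulEquiv.ext fun x => QuotientGroup.induction_on x fun x => e.ge (mem_top x))
  refine hp.out.one_lt.ne' (hc ▸ card_eq_one.2 (eq_bot_iff.2 fun x => QuotientGroup.induction_on x fun x hx => ?_))
  exact (QuotientGroup.eq_one_iff x).2 (this.le hx)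

include hA in
theorem exists_inv : ∃ w ∈ G, ∀ y, y * w y ∈ A := by
  obtain ⟨g, hg⟩ := h.exists_move h1 hA i1 i2
  obtain ⟨h2, h3⟩ := exists_diag_of_transv i2 (fun x => QuotientGroup.induction_on x fun x =>
    (QuotientGroup.eq_one_iff _).2 (h1 (PG.pow_mem_frattini h.pg x))) (h.quot_ne_one h1 hA i1) (h.pu_quot hA) hg
  obtain ⟨w, hw, h4, -⟩ := h3 (-1) (-1) (by simp)
  obtain ⟨w, rfl⟩ : w ∈ (quotHom G.subtype A hA).range := (closure_le _).2 (by
    rintro _ (rfl | rfl)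
    exacts [⟨_, rfl⟩, ⟨g * ⟨u, h.mem⟩ * g⁻¹, by simp⟩]) hw
  have := IsPGroup.isMulCommutative_of_card_eq_prime_sq i2
  refine ⟨w, w.2, fun y => (QuotientGroup.eq_one_iff _).1 ?_⟩
  obtain ⟨a, b, ha, hb, e⟩ := h2 y
  change (y : V ⧸ A) * quotHom G.subtype A hA w y = 1
  rw [e, map_mul, (h4 a ha).1, (h4 b hb).2, zpow_neg_one, zpow_neg_one, mul_comm' a⁻¹, ← mul_inv_rev, mul_inv_cancel]

include hA in
/-- A subgroup lying over `A` with index `p` is conjugate to one stabilized by `u`. -/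
theorem exists_conj_stab {E : Subgroup V} (hAE : A ≤ E) (hE : A.relIndex E = p) :
    ∃ γ ∈ G, ∀ x ∈ E, γ (u (γ⁻¹ x)) ∈ E := by
  by_cases hu : ∀ x ∈ E, u x ∈ E
  · exact ⟨1, one_mem _, hu⟩
  push Not at hu
  obtain ⟨e, he, hue⟩ := hu
  obtain ⟨g, y, hy, hgy⟩ := h.exists_move h1 hA i1 i2
  set ρ := quotHom G.subtype A hA
  set v := ρ ⟨u, h.mem⟩ with hv
  have hexp : ∀ x : V ⧸ A, x ^ p = 1 := fun x => QuotientGroup.induction_on x fun x =>
    (QuotientGroup.eq_one_iff _).2 (h1 (PG.pow_mem_frattini h.pg x))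
  have := IsPGroup.isMulCommutative_of_card_eq_prime_sq i2
  have he1 : v e ≠ e := fun h2 => hue (by simpa using mul_mem he (hAE (QuotientGroup.eq.1 h2.symm)))
  have hz := inv_mul_mem_fixAut i2 (h.quot_ne_one h1 hA i1) (h.pu_quot hA) (e : V ⧸ A)
  obtain ⟨m, n, hmn⟩ := exists_zpow_mul_zpow i2 (fun h2 => he1 (inv_mul_eq_one.1 h2).symm)
    (fun h2 => he1 (zpowers_le.2 hz h2)) (ρ g y)
  have hn : (n : ZMod p) ≠ 0 := fun h2 => hgy (by
    rw [hmn, zpow_congr (hexp _) (h2.trans Int.cast_zero.symm), zpow_zero, mul_one, map_zpow, mem_fixAut.1 hz])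
  have hact : Act ((e : V ⧸ A)⁻¹ * v e) e v 1 1 0 1 :=
    ⟨by simpa using mem_fixAut.1 hz, by rw [zpow_one, zpow_one, mul_comm', mul_inv_cancel_left]⟩
  obtain ⟨k, hk⟩ := exists_nat_mul_eq hn m
  have h2 : (v ^ k) ((e : V ⧸ A) ^ n) = ρ g y := by
    have := (hact.pow_upper (mul_comm' _ _) k).apply (mul_comm' _ _) 0 n
    rw [zpow_zero, one_mul] at this
    rw [this, hmn, zpow_congr (hexp _) (a' := m) (by rw [← hk]; push_cast; ring)]
    simp
  refine ⟨((⟨u, h.mem⟩ ^ k)⁻¹ * g : G), Subtype.prop _, fun x hx => ?_⟩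
  generalize hγ : ((⟨u, h.mem⟩ ^ k)⁻¹ * g : G) = γ
  have h3 : ρ γ y = (e : V ⧸ A) ^ n := by rw [← hγ, map_mul, map_inv, map_pow, MulAut.mul_apply, ← h2]; simp [hv]
  obtain ⟨j, hj⟩ := mem_zpowers_of_card_prime (p := p) (M := E.map (QuotientGroup.mk' A))
    (by rwa [← relIndex_ker, QuotientGroup.ker_mk']) ⟨_, zpow_mem he n, h3.symm⟩
    (fun h4 => hgy (by rw [(ρ γ).injective (h4.trans (map_one _).symm), map_one, map_one])) ⟨x, hx, rfl⟩
  have h4 : (ρ γ) (v (ρ γ⁻¹ x)) = x := by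
    change _ = (x : V ⧸ A) at hj
    rw [← hj]
    simp [map_zpow, hy]
  simpa using mul_mem hx (hAE (QuotientGroup.eq.1 h4.symm))

omit [A.Normal] i2 in
theorem commutator_mem_inn [A.Characteristic] {w γ : MulAut V} (hw : w ∈ G) (hγ : γ ∈ G) (hi : ∀ y, y * w y ∈ A) :
    ⁅w, γ⁆ ∈ Inn V :=
  h.mem_inn h1 le_top (inv_of_char G A) (inv_of_char G ⊤)
    (mul_mem (mul_mem (mul_mem hw hγ) (inv_mem hw)) (inv_mem hγ)) (commutator_mem_trivOn h1 i1 w γ)
    (fun y _ => by
      have := mul_mem (inv_mem (inv_of_char G A ⟨γ, hγ⟩ _ (hi (w⁻¹ (γ⁻¹ y))))) (hi (γ (w⁻¹ (γ⁻¹ y))))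
      simpa [commutatorElement_def, mul_assoc] using this) fun _ => trivial

end Rad

theorem Rad.genES_of_card (h : Rad p G u) (hV : Nat.card V ∣ p ^ 4) (na : ¬ IsMulCommutative V) :
    GenES p V ∧ (center V).index = p ^ 2 := by
  obtain ⟨n, hn, hV⟩ := (Nat.dvd_prime_pow hp.out).1 hV
  have hD : Nat.card (commutator V) ≠ 1 := fun e => na ((commutator_eq_bot_iff V).1 (card_eq_one.1 e))
  by_cases h3 : n = 3
  · have hE := isExtraspecial_of_card (h3 ▸ hV) na
    have := (center V).card_mul_index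
    rw [hE.2, hV, h3, pow_succ' p 2, Nat.mul_right_inj hp.out.ne_zero] at this
    exact ⟨⟨h.pg, hE.1.2.1.trans hE.1.2.2.symm, hE.1.2.2 ▸ hE.2⟩, this⟩
  by_cases h4 : n = 4
  · subst h4
    obtain ⟨i, hΦ⟩ := (h.pg.to_subgroup (frattini V)).exists_card_eq
    have h0 := (frattini V).card_mul_index
    have h2 := card_dvd_of_le (PG.commutator_le_frattini h.pg)
    rw [hΦ, hV] at h0
    rcases i with _ | _ | i
    · exact (hD (Nat.dvd_one.1 (h2.trans hΦ.dvd))).elim
    · rw [zero_add, pow_one] at hΦ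
      have h5 := ((Nat.dvd_prime hp.out).1 (hΦ ▸ h2)).resolve_left hD
      exact ⟨⟨h.pg, (Subgroup.eq_of_le_of_card_ge (PG.commutator_le_frattini h.pg) (hΦ.trans h5.symm).le).symm, h5⟩,
        (Cfsg.Agent.S4584.result p hV).1 h5⟩
    · exact (na (h.comm_of_card_four hV (Dvd.intro_left (p ^ i)
        (Nat.eq_of_mul_eq_mul_left (pow_pos hp.out.pos 2) (by rw [← pow_add, ← h0]; ring))))).elim
  refine (na ?_).elim
  rcases n with _ | _ | _ | n
  · have := Finite.card_le_one_iff_subsingleton.1 hV.le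
    exact ⟨⟨fun _ _ => Subsingleton.elim _ _⟩⟩
  · have := isCyclic_of_prime_card (hV.trans (pow_one p))
    infer_instance
  · exact IsPGroup.isMulCommutative_of_card_eq_prime_sq hV
  · omega

omit [Finite V] in
theorem relIndex_center_dvd (hG : GenES p V) (hV : Nat.card V ∣ p ^ 4) (i2 : (center V).index = p ^ 2) :
    (frattini V).relIndex (center V) ∣ p := by
  have h1 := card_eq_of_relIndex (hG.frat.le.trans hG.le_center) rfl
  rw [← (center V).card_mul_index, i2, h1, hG.frat, hG.card, mul_assoc, ← pow_succ', pow_succ' p 3] at hV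
  rw [hG.frat]
  exact Nat.dvd_of_mul_dvd_mul_right (pow_pos hp.out.pos 3) hV

/-- The central involution of the automizer of a small nonabelian radical subgroup. -/
theorem Rad.exists_invol (h : Rad p G u) (hV : Nat.card V ∣ p ^ 4) (na : ¬ IsMulCommutative V) :
    ∃ w ∈ G, (∀ γ ∈ G, ⁅w, γ⁆ ∈ Inn V) ∧ ∀ k ∈ G, ∀ t ∈ G, IsPGroup p (zpowers t) → ∀ y,
      k (y⁻¹ * t y) * w (k (y⁻¹ * t y)) ∈ commutator V := by
  obtain ⟨hG, i2⟩ := h.genES_of_card hV na
  have h1 := hG.frat.le.trans hG.le_center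
  have i1 := relIndex_center_dvd hG hV i2
  obtain ⟨w, hw, hi⟩ := h.exists_inv h1 (inv_of_char G _) i1 i2
  refine ⟨w, hw, fun γ hγ => h.commutator_mem_inn h1 i1 hw hγ hi, fun k hk t ht pt y => ?_⟩
  have hof : ∀ {x y : V}, x⁻¹ * y ∈ commutator V → Abelianization.of x = Abelianization.of y :=
    fun h => QuotientGroup.eq.2 h
  have hc : ∀ γ ∈ G, ∀ x, Abelianization.of (w (γ x)) = Abelianization.of (γ (w x)) := fun γ hγ x => by
    obtain ⟨g, hg⟩ := h.commutator_mem_inn h1 i1 hw hγ hi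
    have := congrArg (fun σ : MulAut V => Abelianization.of (σ (γ (w x)))) hg
    simpa [commutatorElement_def] using this.symm
  have h2 : y⁻¹ * t y * w (y⁻¹ * t y) ∈ commutator V := (QuotientGroup.eq_one_iff _).1 (by
    have := hof (hG.frat ▸ triv_of_relIndex_dvd ht pt (inv_of_char G _) (inv_of_char G _) i1 _ (hi y))
    change Abelianization.of _ = 1
    simp only [map_mul, map_inv, hc t ht] at this ⊢
    rw [mul_mul_mul_comm, ← this, ← mul_inv, inv_mul_cancel])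
  refine (QuotientGroup.eq_one_iff _).1 ?_
  change Abelianization.of _ = 1
  rw [map_mul, hc k hk, ← map_mul, ← map_mul]
  exact (QuotientGroup.eq_one_iff _).2 (inv_of_char G _ ⟨k, hk⟩ _ h2)

end rad

variable {Ω : Type*} [Group Ω] {p : ℕ} {S : Subgroup Ω} {F : FusionSystem S} [Finite S] [hp : Fact p.Prime]
  (hS : IsPGroup p S) (hF : F.IsSaturated p)
include hS hF

theorem rad_of_essential {H : Subgroup Ω} (hH : F.IsEssential p H) {x : Ω} (hx : x ∈ S)
    (hn : x ∈ normalizer (H : Set Ω)) (hxH : x ∉ H) : Rad p (F.autGroup H) (cjAut H x hn) :=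
  ⟨isPGroup_of_le hS hH.1.1, cjAut_mem_autGroup F hH.1.1 hx hn, isPGroup_zpowers_cjAut hS hx hn, fun e => hxH
    ((cjAut_mem_inn_iff hH.1.1 (centralizerIn_le_of_isCentric hH.1) hx hn).1 e), (isRadical_of_essential hS hF hH).2⟩

theorem exists_extend_top_of_not_le {P : Subgroup Ω} (h : ∀ R, F.IsEssential p R → ¬ P ≤ R) {f : Ω → Ω}
    (hf : Mor F P f) : ∃ g, Mor F S g ∧ Set.EqOn g f P := by
  refine alperin_ind hS hF (motive := fun f => ∃ g, Mor F S g ∧ Set.EqOn g f P)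
    ⟨id, mor_id F le_rfl, fun _ _ => rfl⟩ (fun f g ⟨k, hk, e⟩ e' => ⟨k, hk, e.trans e'⟩) ?_ hf
  rintro f R g hf ⟨k, hk, e⟩ (rfl | hR) hg - hm
  · exact ⟨g ∘ k, hg.comp hk fun _ hx => hk.map_mem hx, fun x hx => congrArg g (e hx)⟩
  · obtain ⟨γ, hγ, e'⟩ := hk.exists_aut hk.img_top
    refine (h _ (essential_img_aut (inv_mem hγ) hR) fun x hx => ?_).elim
    rw [← autFun_inv_autFun γ (hf.le hx), e' (hf.le hx), e hx]
    exact mem_img_of_mem _ (hm x hx)

theorem exists_top_of_normalizes {E : Subgroup Ω} (hE : F.IsCentric E)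
    (h : ∀ R, F.IsEssential p R → ¬ normalizerIn S E ≤ R) {w : MulAut E} (hw : w ∈ F.autGroup E)
    (hn : ∀ t ∈ autInducedBy S E, w * t * w⁻¹ ∈ autInducedBy S E) :
    ∃ g, Mor F S g ∧ Set.EqOn g (autFun w) E := by
  obtain ⟨f, hf, e⟩ := exists_extend_of_isCentric hS hF (mor_autFun hE.1 hw) hE
  obtain ⟨g, hg, e'⟩ := exists_extend_top_of_not_le hS hF h (hf.mono fun x hx =>
    (mem_Nphi_autFun_iff hE.1 hw).2 ⟨hx.1, hx.2, hn _ (cjAut_mem_autInducedBy hx.1 hx.2)⟩)
  exact ⟨g, hg, fun x hx => (e' (le_normalizerIn hE.1 hx)).trans (e hx)⟩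

/-- A homomorphism invariant under `Aut_F(S)` and killing `[R, O^{p'}(Aut_F(R))]` kills the focal subgroup. -/
theorem focal_le_ker {A : Type*} [Group A] (θ : Ω →* A) (htop : ∀ g, Mor F S g → ∀ y ∈ S, θ (g y) = θ y)
    (hess : ∀ R, F.IsEssential p R → ∀ k ∈ F.autGroup R, ∀ t ∈ autInducedBy S R, ∀ y ∈ R,
      θ (autFun k (y⁻¹ * autFun t y)) = 1) : F.focalSubgroup ≤ θ.ker := by
  let B : ∀ R : Subgroup Ω, Subgroup (MulAut R) := fun R =>
    { carrier := {α | α ∈ F.autGroup R ∧ ∀ k ∈ F.autGroup R, ∀ y ∈ R, θ (autFun k (autFun α y)) = θ (autFun k y)}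
      one_mem' := ⟨one_mem _, fun k _ y hy => by rw [autFun_one hy]⟩
      mul_mem' := fun {a b} ha hb => ⟨mul_mem ha.1 hb.1, fun k hk y hy => by
        rw [autFun_mul _ _ hy, ha.2 k hk _ (autFun_mem b hy), hb.2 k hk y hy]⟩
      inv_mem' := fun {a} ha => ⟨inv_mem ha.1, fun k hk y hy => by
        rw [← ha.2 k hk _ (autFun_mem a⁻¹ hy), autFun_autFun_inv a hy]⟩ }
  refine focal_le_iff.2 fun P f hf x hx => ?_
  rw [MonoidHom.mem_ker, map_mul, map_inv, inv_mul_eq_one, eq_comm]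
  refine alperin_ind_gen hS hF B (fun R hR => ⟨fun _ h => h.1, autGroup_le_extAut_sup_of_normal hS hF hR
    (fun t ht => ⟨autInducedBy_le_autGroup F hR.1.1 ht, fun k hk y hy => ?_⟩) (fun _ h => h.1)
    (Fus.le_normalizer_of_conj_mem fun a ha g hg => ⟨mul_mem (mul_mem hg ha.1) (inv_mem hg), fun k hk y hy => ?_⟩)⟩)
    (motive := fun f => θ (f x) = θ x) rfl (fun f g h e => e hx ▸ h)
    (fun f g hf h hg => (htop g hg _ (hf.map_mem hx)).trans h) (fun f R β hβ _ h _ hm => ?_) hf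
  · have := hess R hR k hk t ht y hy
    rwa [(isHomOn_autFun k).map_mul (inv_mem hy) (autFun_mem t hy), (isHomOn_autFun k).map_inv hy, map_mul, map_inv,
      inv_mul_eq_one, eq_comm] at this
  · have h2 := autFun_mem g⁻¹ hy
    rw [autFun_mul _ _ hy, autFun_mul _ _ h2, ← autFun_mul _ _ (autFun_mem a h2), ha.2 _ (mul_mem hk hg) _ h2,
      autFun_mul _ _ h2, autFun_autFun_inv g hy]
  · have := hβ.2 1 (one_mem _) _ (hm x hx)
    rw [autFun_one (autFun_mem β (hm x hx)), autFun_one (hm x hx)] at this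
    exact this.trans h

/-- The normalizer of a fully normalized subgroup `E` is not essential if it is small and `E / Z(N)` has order `p`. -/
theorem not_essential_normalizerIn {E : Subgroup Ω} (hE : F.IsFullyNormalized E)
    (hV : Nat.card (normalizerIn S E) ∣ p ^ 4) (na : ¬ IsMulCommutative (normalizerIn S E))
    (h1 : center (normalizerIn S E) ≤ E.subgroupOf _)
    (h2 : (center (normalizerIn S E)).relIndex (E.subgroupOf _) = p) : ¬ F.IsEssential p (normalizerIn S E) := by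
  intro hN
  set N := normalizerIn S E with hNdef
  have := finite_of_le hN.1.1
  obtain ⟨s, hs, hsN⟩ := SetLike.exists_of_lt (lt_normalizerIn hS (lt_of_essential hS hF hN))
  have h := rad_of_essential hS hF hN hs.1 hs.2 hsN
  obtain ⟨hG, i2⟩ := h.genES_of_card hV na
  obtain ⟨γ, hγ, h3⟩ := h.exists_conj_stab (hG.frat.le.trans hG.le_center) (inv_of_char _ _)
    (relIndex_center_dvd hG hV i2) i2 h1 h2
  have hEN : E ≤ N := le_normalizerIn hE.1
  have hm := mor_autFun hN.1.1 (inv_mem hγ)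
  have hfin := finite_of_le (hm.mono hEN).img_le
  have key : ∀ t ∈ S, (∀ x ∈ E, autFun γ (cj t (autFun γ⁻¹ x)) ∈ E) → t ∈ normalizer (N : Set Ω) →
      t ∈ normalizerIn S (img (autFun γ⁻¹) E) := fun t ht h4 hn => ⟨ht, mem_normalizer_of_cj_mem fun y hy => by
    obtain ⟨x, hx, rfl⟩ := (hm.mono hEN).mem_img.1 hy
    rw [← autFun_inv_autFun γ (cj_mem_of_mem_normalizer hn (autFun_mem γ⁻¹ (hEN hx)))]
    exact mem_img_of_mem _ (h4 x hx)⟩
  have h5 : N < normalizerIn S (img (autFun γ⁻¹) E) := lt_of_le_of_ne (fun t ht => key t ht.1 (fun x hx => by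
    rw [(isHomOn_autFun γ).map_cj ht (autFun_mem _ (hEN hx)), autFun_autFun_inv γ (hEN hx)]
    exact cj_mem_of_mem_normalizer (autFun_mem γ ht).2 hx) (le_normalizer ht)) fun e => hsN (e.ge (key s hs.1
      (fun x hx => by
        have := h3 ⟨x, hEN hx⟩ hx
        rwa [mem_subgroupOf, ← autFun_coe, cjAut_apply, ← autFun_coe] at this) hs.2))
  exact (Fus.card_lt_of_lt h5 (normalizerIn_le _ _)).not_ge (hE.2 _ (hm.mono hEN).isConj)

end CL.EssSm
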