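import Cfsg.Agent.FUS.Transfer

/-!
Norm maps on abelian normal subgroups of fusion systems.
-/

set_option autoImplicit false

namespace CL.Fus

open Cfsg Cfsg.FusionSystem
open scoped IsMulCommutative

theorem exists_normHom {V : Type*} [CommGroup V] (G T : Subgroup (MulAut V)) [Finite G] :
    ∃ N : V →* V, (∀ v, (∀ t ∈ T, t v = v) → ∀ g ∈ G, g (N v) = N v) ∧
      ∀ W : Subgroup V, ∀ v, (∀ g ∈ G, v⁻¹ * g v ∈ W) → (v ^ T.relIndex G)⁻¹ * N v ∈ W := by
  have := Fintype.ofFinite (G ⧸ T.subgroupOf G)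
  refine ⟨MonoidHom.mk' (fun v => ∏ q : G ⧸ T.subgroupOf G, q.out.1 v) fun a b => by
    simp only [map_mul, Finset.prod_mul_distrib], fun v hv g hg => ?_, fun W v hW => ?_⟩
  · change g (∏ q : G ⧸ T.subgroupOf G, q.out.1 v) = ∏ q : G ⧸ T.subgroupOf G, q.out.1 v
    rw [map_prod, ← Equiv.prod_comp (MulAction.toPerm (⟨g, hg⟩ : G)) fun q : G ⧸ T.subgroupOf G => q.out.1 v]
    refine Finset.prod_congr rfl fun q _ => ?_
    have h1 : ((⟨g, hg⟩ : G) • q).out⁻¹ * (⟨g, hg⟩ * q.out) ∈ T.subgroupOf G := QuotientGroup.eq.1 (by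
      rw [QuotientGroup.out_eq', ← smul_eq_mul, MulAction.Quotient.mk_smul_out])
    exact (MulEquiv.symm_apply_eq _).1 (hv _ h1)
  · change _ * ∏ q : G ⧸ T.subgroupOf G, q.out.1 v ∈ W
    rw [show T.relIndex G = Fintype.card (G ⧸ T.subgroupOf G) from Nat.card_eq_fintype_card, ← inv_pow,
      ← Finset.card_univ, ← Finset.prod_const, ← Finset.prod_mul_distrib]
    exact W.prod_mem fun q _ => hW _ q.out.2

variable {Ω : Type*} [Group Ω] {S V : Subgroup Ω} [Finite S] {F : FusionSystem S} {p : ℕ}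

theorem normal_centralizerIn_self (h : F.IsNormal V) : F.IsNormal (centralizerIn V V) :=
  normal_of_invariant h (centralizerIn_le V V) fun _ hg e => hg.img_eq_self_of_le (centralizerIn_le V V)
    fun _ hx => ⟨e ▸ mem_img_of_mem _ hx.1, e ▸ hg.map_mem_centralizer le_rfl hx.1 hx.2⟩

omit [Finite S] in
theorem mem_of_pow_mem_of_not_dvd [Fact p.Prime] (hS : IsPGroup p S) {H : Subgroup Ω} {x : Ω} (hx : x ∈ S) {m : ℕ}
    (hm : ¬ p ∣ m) (h : x ^ m ∈ H) : x ∈ H := by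
  obtain ⟨k, hk⟩ := hS ⟨x, hx⟩
  obtain ⟨j, hj⟩ := exists_pow_eq_self_of_coprime (x := x) (n := m) (Nat.Coprime.coprime_dvd_right
    (orderOf_dvd_of_pow_eq_one (congrArg Subtype.val hk)) (Nat.Coprime.pow_right k
      ((Nat.Prime.coprime_iff_not_dvd Fact.out).2 hm).symm))
  exact hj ▸ pow_mem h j

variable [Fact p.Prime] (hS : IsPGroup p S) (hF : F.IsSaturated p)
include hS hF

theorem mem_center_of_normal (hV : F.IsNormal V) {z : Ω} (hz : z ∈ V) (h : ∀ α ∈ F.autGroup V, autFun α z = z) :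
    z ∈ F.center :=
  (mem_center_iff_fix hS hF).2 ⟨hV.1 hz, fun P f hf hP => by
    obtain ⟨g, hg, e, e'⟩ := normal_ext hV hf
    obtain ⟨α, hα, e''⟩ := hg.exists_aut_restrict le_sup_right e'
    rw [← e hP, ← e'' hz, h α hα]⟩

theorem isNormal_top_of_comm (hab : ∀ x ∈ S, ∀ y ∈ S, x * y = y * x) : F.IsNormal S :=
  isNormal_top_of_no_essential hS hF fun _ hR => (lt_of_essential hS hF hR).not_ge fun s hs =>
    centralizerIn_le_of_isCentric hR.1 ⟨hs, fun x hx => hab x (hR.1.1 hx) s hs⟩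

theorem exists_norm (hV : F.IsNormal V) (hab : ∀ x ∈ V, ∀ y ∈ V, x * y = y * x) :
    ∃ (N : Ω → Ω) (m : ℕ), ¬ p ∣ m ∧ IsHomOn V N ∧ (∀ v ∈ V, N v ∈ V) ∧
      (∀ v ∈ V, v ∈ Subgroup.centralizer (S : Set Ω) → N v ∈ F.center) ∧
      ∀ W : Subgroup Ω, ∀ v ∈ V, (∀ α ∈ F.autGroup V, v⁻¹ * autFun α v ∈ W) → (v ^ m)⁻¹ * N v ∈ W := by
  have : IsMulCommutative V := ⟨⟨fun a b => Subtype.ext (hab _ a.2 _ b.2)⟩⟩
  have := finite_mulAut hV.1
  obtain ⟨N, h1, h2⟩ := exists_normHom (F.autGroup V) (autInducedBy S V)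
  refine ⟨homFn (V.subtype.comp N), _, (sylIn_of_fullyNormalized hS hF
    (fullyNormalized_of_normal F hV.1 (sc_le_normalizer (sc_of_normal hV)))).not_dvd_relIndex, isHomOn_homFn _,
    fun v hv => ?_, fun v hv hc => ?_, fun W v hv h => ?_⟩ <;> rw [homFn_of_mem _ hv]
  · exact (N ⟨v, hv⟩).2
  · refine mem_center_of_normal hS hF hV (N ⟨v, hv⟩).2 fun α hα => (autFun_coe α _).trans
      (congrArg Subtype.val (h1 _ (fun t ht => Subtype.ext ?_) α hα))
    obtain ⟨s, hs, e⟩ := mem_autInducedBy_iff.1 ht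
    rw [← autFun_of_mem t hv, e hv, cj_eq_self_iff]
    exact hc s hs
  · exact h2 (W.subgroupOf V) ⟨v, hv⟩ fun g hg => by
      have := h g hg
      rwa [autFun_of_mem g hv] at this

theorem exists_center_complement (hZ : S ⊓ Subgroup.centralizer (S : Set Ω) ≤ F.core) :
    ∃ K : Subgroup Ω, K ≤ S ⊓ Subgroup.centralizer (S : Set Ω) ∧ F.center ⊓ K = ⊥ ∧
      F.center ⊔ K = S ⊓ Subgroup.centralizer (S : Set Ω) := by
  have hV := normal_centralizerIn_self (core_normal F)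
  obtain ⟨N, m, hm, hN, h1, h2, h3⟩ := exists_norm hS hF hV fun x hx y hy => hy.2 x hx.1
  have hZV : S ⊓ Subgroup.centralizer (S : Set Ω) ≤ centralizerIn F.core F.core := fun x hx =>
    ⟨hZ hx, Subgroup.centralizer_le (core_le F) hx.2⟩
  have hc : F.center ≤ S ⊓ Subgroup.centralizer (S : Set Ω) :=
    le_inf (center_le F) (Subgroup.le_centralizer_iff.1 (central_le_centralizer (center_central F)))
  have h4 : ∀ z ∈ F.center, N z = z ^ m := fun z hz => (inv_mul_eq_one.1 (h3 ⊥ z (hZV (hc hz)) fun α hα => by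
    rw [central_fix (center_central F) (mor_autFun hV.1 hα) (hZV (hc hz)) hz, inv_mul_cancel]
    exact one_mem _)).symm
  refine ⟨(hN.mono hZV).preim ⊥, IsHomOn.preim_le _ _, eq_bot_iff.2 fun z hz =>
    mem_of_pow_mem_of_not_dvd hS (center_le F hz.1) hm (h4 z hz.1 ▸ hz.2.2),
    le_antisymm (sup_le hc (IsHomOn.preim_le _ _)) fun z hz => mem_of_pow_mem_of_not_dvd hS hz.1 hm ?_⟩
  have h5 := h2 z (hZV hz) hz.2
  rw [← mul_inv_cancel_left (N z) (z ^ m)]
  refine Subgroup.mul_mem_sup h5 ⟨mul_mem (inv_mem (hc h5)) (pow_mem hz m), ?_⟩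
  rw [hN.map_mul (inv_mem (hZV (hc h5))) (pow_mem (hZV hz) m), hN.map_inv (hZV (hc h5)), h4 _ h5,
    hN.map_pow (hZV hz), inv_mul_cancel]
  exact one_mem _

end CL.Fus
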