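import Mathlib
import Cfsg.Agent.FUS.MetaResist
import Cfsg.Agent.FUS.NormMap

/-!
Automorphisms of order prime to `p` of abelian `p`-groups with distinct invariants.
-/

set_option autoImplicit false

namespace CL.Fus

open Subgroup Cfsg Cfsg.FusionSystem
open scoped commutatorElement

variable {p : ℕ}

/-- `(p-1)`-st powers and commutators in `p'`-subgroups of `A` are trivial -/
def PCTriv (p : ℕ) (A : Type*) [Group A] : Prop :=
  ∀ H : Subgroup A, (Nat.card H).Coprime p → ∀ γ, PowOrComm p H γ → γ = 1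

theorem PowOrComm.map {A B : Type*} [Group A] [Group B] (f : A →* B) {H : Subgroup A} {γ : A}
    (h : PowOrComm p H γ) : PowOrComm p (H.map f) (f γ) := by
  rcases h with ⟨α, hα, rfl⟩ | ⟨α, hα, β, hβ, rfl⟩
  · exact Or.inl ⟨_, mem_map_of_mem f hα, map_pow _ _ _⟩
  · exact Or.inr ⟨_, mem_map_of_mem f hα, _, mem_map_of_mem f hβ, map_commutatorElement _ _ _⟩

theorem PCTriv.of_injective {A B : Type*} [Group A] [Group B] (h : PCTriv p B) (f : A →* B)
    (hf : Function.Injective f) : PCTriv p A := fun H hH γ hγ =>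
  hf ((h (H.map f) (by rwa [card_map_of_injective hf]) _ (hγ.map f)).trans f.map_one.symm)

theorem PCTriv.congr {A B : Type*} [Group A] [Group B] (h : PCTriv p (MulAut A)) (e : A ≃* B) :
    PCTriv p (MulAut B) := h.of_injective (MulAut.congr e.symm).toMonoidHom (MulAut.congr e.symm).injective

theorem PCTriv.of_prod {A B : Type*} [Group A] [Group B] (h : PCTriv p (MulAut (A × B))) : PCTriv p (MulAut A) :=
  h.of_injective (MonoidHom.mk' (fun σ => σ.prodCongr (MulEquiv.refl B)) fun _ _ => rfl) fun σ τ e =>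
    MulEquiv.ext fun a => congrArg (fun f : MulAut (A × B) => (f (a, 1)).1) e

theorem PCTriv.eq_one_two {A : Type*} [Group A] (h : PCTriv 2 A) {α : A} (hα : (orderOf α).Coprime 2) : α = 1 :=
  h (zpowers α) (by rwa [Nat.card_zpowers]) α (powOrComm_two (mem_zpowers α))

variable [hp : Fact p.Prime]

theorem not_pcTriv_prod {C : Type*} [CommGroup C] [Finite C] [Nontrivial C] (hC : IsPGroup p C) :
    ¬ PCTriv p (MulAut (C × C)) := fun h => by
  obtain ⟨c, hc⟩ := exists_ne (1 : C)
  by_cases h2 : p = 2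
  · subst h2
    let σ : MulAut (C × C) :=
      { toFun := fun x => (x.2, (x.1 * x.2)⁻¹)
        invFun := fun x => ((x.1 * x.2)⁻¹, x.1)
        left_inv := fun x => by simp
        right_inv := fun x => by simp
        map_mul' := fun x y => by simp [mul_comm, mul_left_comm, mul_assoc] }
    have h3 : σ ^ 3 = 1 := MulEquiv.ext fun x => by simp [σ, pow_succ, MulAut.mul_apply]
    have := h.eq_one_two (Nat.Coprime.coprime_dvd_left (orderOf_dvd_of_pow_eq_one h3) (by norm_num))
    exact hc (congrArg (fun f : MulAut (C × C) => (f (c, 1)).1) this).symm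
  let ρ : MulAut (C × C) :=
    { toFun := fun x => (x.2⁻¹, x.1)
      invFun := fun x => (x.2, x.1⁻¹)
      left_inv := fun x => by simp
      right_inv := fun x => by simp
      map_mul' := fun x y => by simp [mul_comm] }
  let τ : MulAut (C × C) := MulEquiv.prodComm
  have h1 : IsPGroup 2 (zpowers ρ) := isPGroup_zpowers_iff.2 ⟨2, MulEquiv.ext fun x => by
    simp [ρ, pow_succ, MulAut.mul_apply]⟩
  have h3 : IsPGroup 2 (zpowers τ) := isPGroup_zpowers_iff.2 ⟨1, MulEquiv.ext fun x => by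
    simp [τ, pow_succ, MulAut.mul_apply]⟩
  have h4 : τ * ρ * τ⁻¹ = ρ⁻¹ := MulEquiv.ext fun x => rfl
  obtain ⟨k, hk⟩ := (h1.to_sup_of_normal_left' h3 (zpowers_le.2 (mem_normalizer_of_cj_mem (by
    rintro _ ⟨n, rfl⟩
    rw [cj_apply, ← conj_zpow, h4]
    exact zpow_mem (inv_mem (mem_zpowers ρ)) n)))).exists_card_eq
  have := h _ (hk ▸ ((Nat.coprime_primes Nat.prime_two hp.out).2 (Ne.symm h2)).pow_left k) _
    (Or.inr ⟨ρ, mem_sup_left (mem_zpowers ρ), τ, mem_sup_right (mem_zpowers τ), rfl⟩)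
  have h5 : c⁻¹ = c := congrArg (fun f : MulAut (C × C) => (f (c, 1)).1) this
  refine hc (eq_one_of_isPGroup_of_coprime (hC.to_subgroup ⊤) (mem_top c) (Nat.Coprime.coprime_dvd_left
    (orderOf_dvd_of_pow_eq_one (n := 2) ?_) ((Nat.coprime_primes Nat.prime_two hp.out).2 (Ne.symm h2))))
  rw [pow_two, mul_eq_one_iff_eq_inv, h5]

theorem pcTriv_of_chain {Ω : Type*} [Group Ω] {R : Subgroup Ω} [Finite R] (hR : IsPGroup p R) (K : ℕ → Subgroup R)
    [∀ m, (K m).Characteristic] (h0 : K 0 ≤ frattini R) (h : ∀ m, (K m).relIndex (K (m + 1)) ∣ p) {N : ℕ}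
    (hN : K N = ⊤) : PCTriv p (MulAut R) := fun H hH γ hγ => by
  have hc := hH.coprime_dvd_left (orderOf_dvd_natCard _ hγ.mem)
  have key : ∀ n, (∀ x ∈ R, x⁻¹ * autFun γ x ∈ (K n).map R.subtype) →
      ∀ x ∈ R, x⁻¹ * autFun γ x ∈ (K 0).map R.subtype := fun n => by
    induction n with
    | zero => exact id
    | succ n ih =>
      exact fun h1 => ih fun x hx => inv_mul_mem_of_coprime hR hc
        ((map_subtype_le _).trans (le_normalizer_map_of_normal _)) h1 (fun y _ => hγ.trivMod (map_subtype_le _)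
          (autInv_map_of_char H _) (autInv_map_of_char H _) ((map_subtype_le _).trans (le_normalizer_map_of_normal _))
          (by rw [relIndex_map_map_of_injective _ _ R.subtype_injective]; exact h n) y) hx
  refine MC.eq_one_of_frattini hR hc fun x => h0 ((mem_map_iff_mem R.subtype_injective).1 ?_)
  have := key N (fun y hy => ⟨⟨_, mul_mem (inv_mem hy) (autFun_mem γ hy)⟩, hN.ge (mem_top _), rfl⟩) x x.2
  rwa [autFun_coe] at this

/-- `Ω_m(G) Φ(G)` in an abelian group -/
def omPhi (p : ℕ) (G : Type*) [CommGroup G] (m : ℕ) : Subgroup G :=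
  (powMonoidHom (p ^ m)).ker ⊔ (powMonoidHom p).range

omit hp in
theorem char_omPhi {G : Type*} [CommGroup G] (m : ℕ) : (omPhi p G m).Characteristic :=
  characteristic_iff_map_le.2 fun φ => by
    rw [omPhi, Subgroup.map_sup]
    refine sup_le_sup ?_ ?_
    · rintro _ ⟨x, hx, rfl⟩
      exact (map_pow φ x _).symm.trans ((congrArg φ hx).trans (map_one φ))
    · rintro _ ⟨_, ⟨x, rfl⟩, rfl⟩
      exact ⟨φ x, (map_pow φ x _).symm⟩

omit hp in
theorem relIndex_dvd_of_le_of_normal {G : Type*} [Group G] (H : Subgroup G) [H.Normal] {K L : Subgroup G}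
    (h : K ≤ L) : H.relIndex K ∣ H.relIndex L := by
  have := card_dvd_of_le (map_mono (f := QuotientGroup.mk' H) h)
  rwa [← relIndex_ker, ← relIndex_ker, QuotientGroup.ker_mk'] at this

theorem relIndex_omPhi_dvd {G ι : Type*} [CommGroup G] [Finite ι] {a : ι → ℕ} (ha : Function.Injective a)
    (e : G ≃* ∀ i, Multiplicative (ZMod (p ^ a i))) (m : ℕ) : (omPhi p G m).relIndex (omPhi p G (m + 1)) ∣ p := by
  classical
  haveI := Fintype.ofFinite ι
  let f : ∀ i, Multiplicative (ZMod (p ^ a i)) →* G := fun i =>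
    e.symm.toMonoidHom.comp (MonoidHom.mulSingle (fun i => Multiplicative (ZMod (p ^ a i))) i)
  obtain ⟨x, hx⟩ : ∃ x : G, ∀ i, a i = m + 1 → f i (Multiplicative.ofAdd 1) = x := by
    by_cases h : ∃ i, a i = m + 1
    · obtain ⟨i, hi⟩ := h
      exact ⟨_, fun j hj => by obtain rfl := ha (hj.trans hi.symm); rfl⟩
    · exact ⟨1, fun i hi => (h ⟨i, hi⟩).elim⟩
  refine (relIndex_dvd_of_le_of_normal _ (K := omPhi p G (m + 1)) (L := omPhi p G m ⊔ zpowers x)
    (sup_le (fun g hg => ?_) (le_sup_right.trans le_sup_left))).trans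
    (MC.relIndex_sup_zpowers_dvd_of_pow_mem ((normalizer_eq_top _).ge (mem_top x)) (mem_sup_right ⟨x, rfl⟩))
  have e1 : g = ∏ i, f i (e g i) := by
    conv_lhs => rw [← e.symm_apply_apply g, ← Finset.univ_prod_mulSingle (e g), map_prod]
    rfl
  rw [e1]
  refine prod_mem fun i _ => ?_
  have h1 : e g i ^ p ^ (m + 1) = 1 := by
    rw [← Pi.pow_apply, ← map_pow, show g ^ p ^ (m + 1) = 1 from hg, map_one, Pi.one_apply]
  have ho : orderOf (Multiplicative.ofAdd (1 : ZMod (p ^ a i))) = p ^ a i := by simp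
  obtain ⟨r, hr⟩ : e g i ∈ zpowers (Multiplicative.ofAdd (1 : ZMod (p ^ a i))) :=
    ⟨(e g i).toAdd.cast, by simp [← ofAdd_zsmul]⟩
  rw [← hr] at h1 ⊢
  dsimp only at h1 ⊢
  rcases lt_trichotomy (a i) (m + 1) with h | h | h
  · rw [map_zpow]
    refine mem_sup_left (mem_sup_left (zpow_mem ?_ r))
    rw [MonoidHom.mem_ker, powMonoidHom_apply, ← map_pow, orderOf_dvd_iff_pow_eq_one.1 (ho.dvd.trans (pow_dvd_pow p (by omega))), map_one]
  · rw [map_zpow, hx i h]
    exact mem_sup_right (zpow_mem_zpowers x r)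
  · by_cases hd : (p : ℤ) ∣ r
    · obtain ⟨s, rfl⟩ := hd
      exact mem_sup_left (mem_sup_right ⟨f i (Multiplicative.ofAdd 1 ^ s), by
        rw [powMonoidHom_apply, ← map_pow, mul_comm, zpow_mul, zpow_natCast]⟩)
    · obtain ⟨s, hs⟩ := PCyc.mem_zpowers_zpow_of_not_dvd hp.out ho hd
      have : p ^ a i ∣ p ^ (m + 1) := ho.symm.dvd.trans <| orderOf_dvd_of_pow_eq_one (by
        rw [← hs, ← zpow_natCast, ← zpow_mul, mul_comm, zpow_mul, zpow_natCast, h1, one_zpow])
      exact absurd ((Nat.pow_dvd_pow_iff_le_right hp.out.one_lt).1 this) h.not_ge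

variable {Ω : Type*} [Group Ω] {S : Subgroup Ω} [Finite S]

theorem pcTriv_of_pi (hS : IsPGroup p S) {ι : Type*} [Finite ι] {a : ι → ℕ} (ha : Function.Injective a)
    (e : S ≃* ∀ i, Multiplicative (ZMod (p ^ a i))) : PCTriv p (MulAut S) := by
  letI : CommGroup S := { (inferInstance : Group S) with
    mul_comm := fun x y => e.injective (by rw [map_mul, map_mul, mul_comm]) }
  obtain ⟨N, hN⟩ := hS.exists_card_eq
  haveI := char_omPhi (p := p) (G := S)
  refine pcTriv_of_chain hS (omPhi p S) (sup_le (fun g hg => ?_) ?_) (relIndex_omPhi_dvd ha e) (N := N)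
    (eq_top_iff.2 fun g _ => mem_sup_left (show g ^ _ = 1 from hN ▸ pow_card_eq_one'))
  · rw [show g = 1 from (pow_one g).symm.trans hg]; exact one_mem _
  · rintro _ ⟨g, rfl⟩
    exact PG.pow_mem_frattini hS g

theorem pcTriv_iff_of_comm (hS : IsPGroup p S) (hab : IsMulCommutative S) : PCTriv p (MulAut S) ↔
    ¬ ∃ (n : ℕ) (H : Type) (_ : CommGroup H), 0 < n ∧
      Nonempty (S ≃* (Multiplicative (ZMod (p ^ n)) × Multiplicative (ZMod (p ^ n))) × H) := by
  refine ⟨fun h ⟨n, H, _, hn, ⟨e⟩⟩ => ?_, fun h => ?_⟩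
  · haveI : Fact (1 < p ^ n) := ⟨Nat.one_lt_pow hn.ne' hp.out.one_lt⟩
    exact not_pcTriv_prod (IsPGroup.of_card (n := n) (by simp)) (h.congr e).of_prod
  classical
  letI : CommGroup S := { (inferInstance : Group S) with mul_comm := mul_comm' }
  obtain ⟨ι, _, n, h1, ⟨e⟩⟩ := CommGroup.equiv_prod_multiplicative_zmod_of_finite S
  have h2 : ∀ i, ∃ a, n i = p ^ a := fun i => by
    haveI : NeZero (n i) := ⟨(zero_lt_one.trans (h1 i)).ne'⟩
    obtain ⟨a, ha⟩ := ((hS.of_equiv e).of_surjective (Pi.evalMonoidHom _ i)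
      (Function.surjective_eval i)).exists_card_eq
    exact ⟨a, by simpa using ha⟩
  choose a ha using h2
  obtain rfl : n = fun i => p ^ a i := funext ha
  refine pcTriv_of_pi hS (a := a) (fun i j hij => by_contra fun hne => h ⟨a i, ∀ k : {k // k ≠ i ∧ k ≠ j},
    Multiplicative (ZMod (p ^ a k)), inferInstance, Nat.pos_of_ne_zero fun e => by simpa [e] using h1 i,
    ⟨e.trans (MulEquiv.trans ?_ (((MulEquiv.refl _).prodCongr (AddEquiv.toMultiplicative
      (ZMod.ringEquivCongr (congrArg (p ^ ·) hij.symm)).toAddEquiv)).prodCongr (MulEquiv.refl _)))⟩⟩) e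
  exact
    { toFun := fun f => ((f i, f j), fun k => f k)
      invFun := fun x k => if h : k = i then h ▸ x.1.1 else if h' : k = j then h' ▸ x.1.2 else x.2 ⟨k, h, h'⟩
      left_inv := fun f => funext fun k => by
        dsimp only
        split_ifs with h h'
        · subst h; rfl
        · subst h'; rfl
        · rfl
      right_inv := fun x => by
        ext k
        · simp
        · simp [Ne.symm hne]
        · simp [k.2.1, k.2.2]
      map_mul' := fun _ _ => rfl }

end CL.Fus
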