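import Mathlib
import Cfsg.Agent.FUS.EigCalc
import Cfsg.Agent.FGS.AbelMax

/-!
# Groups of order `p⁵` without abelian maximal subgroup: torus arguments
-/

set_option autoImplicit false

namespace CL.EigC
open Subgroup Cfsg CL.Fus CL.TV CL.EssSm
open scoped commutatorElement

variable {G : Type*} [Group G] {p : ℕ} {τ : MulAut G} {A B : Subgroup G}

theorem ev_zpowers {e : G} {a : ℤ} (h : τ e = e ^ a) : Ev τ (zpowers e) ⊥ a := by
  rintro _ ⟨n, rfl⟩
  rw [mem_bot, map_zpow, h, ← zpow_mul, ← zpow_mul, mul_comm n, inv_mul_cancel]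

/-- `τ` stabilizes `A`. -/
def Stab (τ : MulAut G) (A : Subgroup G) : Prop := ∀ y, τ y ∈ A ↔ y ∈ A

theorem Stab.maps (h : Stab τ A) : ∀ y ∈ A, τ y ∈ A := fun y => (h y).2

theorem Stab.normalizer (h : Stab τ A) : Stab τ (normalizer (A : Set G)) := fun y => by
  rw [mem_normalizer_iff, mem_normalizer_iff, τ.surjective.forall]
  exact forall_congr' fun x => by rw [← map_inv, ← map_mul, ← map_mul, h, h]

theorem Stab.centralizer (h : Stab τ A) : Stab τ (centralizer (A : Set G)) := fun y => by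
  rw [mem_centralizer_iff, mem_centralizer_iff, τ.surjective.forall]
  exact forall_congr' fun x => by rw [← map_mul, ← map_mul, SetLike.mem_coe, h, τ.injective.eq_iff]; rfl

theorem Stab.step [A.Normal] (h : Stab τ A) : Stab τ A.upperCentralSeriesStep := fun y => by
  rw [Subgroup.mem_upperCentralSeriesStep, Subgroup.mem_upperCentralSeriesStep, τ.surjective.forall]
  exact forall_congr' fun x => by rw [← map_commutatorElement, h]

theorem stab_of_maps [Finite G] (h : ∀ y ∈ A, τ y ∈ A) : Stab τ A := fun y => ⟨fun hy => by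
  obtain ⟨x, hx, e⟩ := (Subgroup.eq_of_le_of_card_ge (map_le_iff_le_comap.2 h : A.map τ.toMonoidHom ≤ A)
    (card_map_of_injective τ.injective).ge).ge hy
  exact τ.injective e ▸ hx, h y⟩

instance normal_step [A.Normal] : A.upperCentralSeriesStep.Normal :=
  Subgroup.upperCentralSeriesStep_eq_comap_center A ▸ inferInstance

theorem le_step_iff [A.Normal] : B ≤ A.upperCentralSeriesStep ↔ ⁅B, (⊤ : Subgroup G)⁆ ≤ A :=
  ⟨fun h => commutator_le.2 fun _ hx y _ => h hx y, fun h x hx y => commutator_le.1 h x hx y trivial⟩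

variable [hp : Fact p.Prime]

theorem index_of_card {k m : ℕ} (hG : Nat.card G = p ^ (k + m)) (h : Nat.card A = p ^ k) : A.index = p ^ m := by
  have := A.card_mul_index
  rwa [h, hG, pow_add, Nat.mul_right_inj (pow_pos hp.out.pos k).ne'] at this

theorem card_of_index {k m : ℕ} (hG : Nat.card G = p ^ (k + m)) (h : A.index = p ^ m) : Nat.card A = p ^ k := by
  have := A.card_mul_index
  rwa [h, hG, pow_add, Nat.mul_left_inj (pow_pos hp.out.pos m).ne'] at this

variable [Finite G]

omit hp in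
theorem relIndex_of_card {k : ℕ} (hBA : B ≤ A) (hA : Nat.card A = p ^ (k + 1)) (hB : Nat.card B = p ^ k) :
    B.relIndex A = p := relIndex_eq_of_card hBA (by rw [hA, hB, pow_succ'])

theorem index_eq_of_le (hG : IsPGroup p G) (h : A.index ≤ p) (hne : A ≠ ⊤) : A.index = p := by
  obtain ⟨k, hk⟩ := hG.index A
  rcases k with _ | k
  · exact absurd (index_eq_one.1 hk) hne
  · exact h.antisymm (hk ▸ Nat.le_self_pow k.succ_ne_zero p)

theorem card_commutator_eq (hA : Nat.card A = p ^ 4) (na : ¬ IsMulCommutative A) (hBA : B ≤ A)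
    (hB : Nat.card B = p ^ 2) (hc : B ≤ centralizer (A : Set G)) : Nat.card (⁅A, A⁆ : Subgroup G) = p := by
  have h1 : B.subgroupOf A ≤ center A := fun x hx => mem_center_iff.2 fun y => Subtype.ext (hc hx y y.2)
  have h2 := index_dvd_of_le h1
  rw [index_of_card (k := 2) (m := 2) hA ((Nat.card_congr (subgroupOfEquivOfLe hBA).toEquiv).trans hB)] at h2
  obtain ⟨i, hi, e⟩ := (Nat.dvd_prime_pow hp.out).1 h2
  rw [← map_subtype_commutator, card_subtype]
  refine (Cfsg.Agent.S4584.result p hA).2 ?_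
  rcases i with _ | _ | _ | i
  · exact (na (center_eq_top_iff.1 (index_eq_one.1 e))).elim
  · have : IsCyclic (A ⧸ center A) := isCyclic_of_prime_card (p := p) (e.trans (pow_one p))
    exact (na ((QuotientGroup.mk' (center A)).isMulCommutative_of_isCyclic_of_ker_le_center
      (QuotientGroup.ker_mk' _).le)).elim
  · exact e
  · omega

omit [Finite G] hp in
theorem commutator_eq_bot_of_le (h : A ≤ centralizer (B : Set G)) : ⁅A, B⁆ ≤ ⊥ :=
  (commutator_eq_bot_iff_le_centralizer.2 h).le

omit [Finite G] hp in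
theorem center_commutator : ⁅center G, (⊤ : Subgroup G)⁆ ≤ ⊥ := commutator_eq_bot_of_le (center_le_centralizer _)

theorem card_le_mul {T : Subgroup G} {x : G} (h : ∀ y ∈ A, ⁅y, x⁆ ∈ T) :
    Nat.card A ≤ Nat.card (centralizer {x} ⊓ A : Subgroup G) * Nat.card T :=
  (PG.card_eq_card_inf_mul_relIndex (centralizer {x}) A).trans_le
    (Nat.mul_le_mul_left _ (PG.relIndex_centralizer_le_card A T x h))

variable (hG : Nat.card G = p ^ 5) (hab : ∀ A : Subgroup G, IsMulCommutative A → A.index ≠ p)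
  {Γ : Subgroup (MulAut G)} (hΓ : PPrime p Γ) (hp2 : p ≠ 2)
include hG hab hΓ hp2

theorem case_pearl (hp7 : p ≠ 7) {x e : G} (hx : Nat.card (centralizer ({x} : Set G)) = p ^ 2) (he : e ∈ center G)
    (he1 : e ≠ 1) (tor : ∀ a b : ℤ, (a : ZMod p) * b = 1 → ∃ σ ∈ Γ, σ e = e ^ a ∧ σ x = x ^ b) :
    ∃ θ : G →* Abelianization G, (∀ τ ∈ Γ, ∀ y, θ (τ y) = θ y) ∧ θ.ker ≠ ⊤ := by
  have hP : IsPGroup p G := .of_card hG
  have h1 := hp.out.one_lt
  have hlt : ∀ {m n : ℕ}, m < n → p ^ m < p ^ n := fun h => Nat.pow_lt_pow_right h1 h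
  have hxC : x ∈ centralizer ({x} : Set G) := mem_centralizer_singleton_iff.2 rfl
  have hCx : ∀ {H : Subgroup G}, x ∉ H → Nat.card (centralizer {x} ⊓ H : Subgroup G) ≤ p ^ 1 := fun hH =>
    PG.card_le_pow_of_lt hP (lt_of_le_of_ne inf_le_left fun e => hH (e.ge hxC).2) hx.le
  have hcnt : ∀ {T : Subgroup G}, (∀ y, ⁅y, x⁆ ∈ T) → p ^ 3 ≤ Nat.card T := fun h => by
    have := card_le_mul (A := ⊤) fun y _ => h y
    rw [card_top, hG, inf_top_eq, hx, pow_add p 2 3] at this
    exact Nat.le_of_mul_le_mul_left this (pow_pos hp.out.pos 2)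
  have := hP.nontrivial_iff_card.2 ⟨5, by omega, hG⟩
  have hY2 : Nat.card (commutator G) = p ^ 3 := by
    refine le_antisymm (not_lt.1 fun h => ?_) (hcnt fun y => commutator_mem_commutator trivial trivial)
    have h2 := PG.card_le_pow_of_lt hP (PG.commutator_ne_top hP).lt_top (card_top.trans hG).le
    obtain ⟨k, hk⟩ := PG.card_eq_pow hP (commutator G)
    rw [hk, Nat.pow_lt_pow_iff_right h1] at h
    rw [hk, Nat.pow_le_pow_iff_right h1] at h2
    have : IsCyclic (G ⧸ commutator G) := isCyclic_of_prime_card (p := p)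
      ((index_of_card (m := 1) (hG.trans (by congr 1; omega)) hk).trans (pow_one p))
    have := PG.isCyclic_of_quotient_le_frattini (PG.commutator_le_frattini hP)
    rw [(commutator_eq_bot_iff G).2 inferInstance, card_bot, eq_comm, Nat.pow_eq_one] at hk
    omega
  set Y := ⁅commutator G, (⊤ : Subgroup G)⁆ with hY
  have hYle : Y ≤ commutator G := commutator_le_left _ _
  have hY3' := PG.card_commutator_top_le hP (commutator G) hY2.le
  have hx2 : x ∉ commutator G := fun h => (hlt (by omega : 2 < 3)).not_ge ((hcnt fun y => by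
    rw [← commutatorElement_inv]; exact inv_mem (commutator_mem_commutator h trivial)).trans hY3')
  have hY3 : Nat.card Y = p ^ 2 := hY3'.antisymm (by
    have := (card_le_mul (A := commutator G) (x := x) fun y hy => commutator_mem_commutator hy (mem_top x)).trans
      (Nat.mul_le_mul_right _ (hCx hx2))
    rw [hY2, pow_add p 1 2] at this
    exact Nat.le_of_mul_le_mul_left this (pow_pos hp.out.pos 1))
  set K := centralizer (Y : Set G) with hK
  have hxK : x ∉ K := fun h => (hlt (by omega : 1 < 2)).not_ge (hY3.ge.trans ((Subgroup.card_le_of_le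
    (le_inf (fun y hy => mem_centralizer_singleton_iff.2 (h y hy)) hYle)).trans (hCx hx2)))
  have hKi : K.index = p := index_eq_of_le hP (PG.index_centralizer_le hP Y hY3.le) fun e => hxK (e.ge trivial)
  have hKc : Nat.card K = p ^ 4 := card_of_index (m := 1) hG (hKi.trans (pow_one p).symm)
  have hKn : ¬ IsMulCommutative K := fun h => hab K h hKi
  have h2K : commutator G ≤ K := PG.commutator_le_coatom hP (PG.isCoatom_of_index_eq_prime hp.out hKi)
  have hZc : Nat.card (center G) = p ^ 1 := ((Subgroup.card_le_of_le (le_inf (center_le_centralizer _)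
    (center_le_centralizer _))).trans (hCx hxK)).antisymm (PG.pow_succ_le_card_of_lt hP
      (bot_lt_iff_ne_bot.2 fun h => he1 (h.le he)) (by simp))
  have h4Z : ⁅Y, (⊤ : Subgroup G)⁆ ≤ center G :=
    PG.le_center_of_card_le hP _ ((PG.card_commutator_top_le hP Y hY3.le).trans (pow_one p).le)
  have h4 : ¬ ⁅(⊤ : Subgroup G), Y⁆ ≤ ⊥ := fun h => hxK (commutator_eq_bot_iff_le_centralizer.1 (eq_bot_iff.2 h) trivial)
  have hZY : center G ≤ Y := by
    rw [← Subgroup.eq_of_le_of_card_ge h4Z (hZc.trans_le (PG.pow_succ_le_card_of_lt hP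
      (bot_lt_iff_ne_bot.2 fun h => h4 ((commutator_comm_le _ _).trans h.le)) (by simp)))]
    exact commutator_le_left _ _
  have hYK : Y ≤ centralizer (K : Set G) := le_centralizer_iff.1 le_rfl
  have hKK : ⁅K, K⁆ ≤ center G :=
    PG.le_center_of_card_le hP _ (card_commutator_eq hKc hKn (hYle.trans h2K) hY3 hYK).le
  have i1 : K.relIndex ⊤ = p := by rwa [relIndex_top_right]
  have i2 := relIndex_of_card h2K hKc hY2
  have i3 := relIndex_of_card hYle hY2 hY3
  have i4 := relIndex_of_card hZY hY3 hZc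
  have i5 := relIndex_of_card bot_le hZc (card_bot.trans (pow_zero p).symm)
  have rel : ∀ (τ : MulAut G) {a b : ℤ}, Ev τ ⊤ K b → Ev τ (center G) ⊥ a → (a : ZMod p) = b ^ 5 ∧
      ∃ m : ℤ, Ev τ K (commutator G) m ∧ (m : ZMod p) = b ^ 2 := fun τ a b hb ha => by
    obtain ⟨m, -, hm⟩ := exists_ev_char i2 τ
    obtain ⟨n, hn0, hn⟩ := exists_ev_char i3 τ
    obtain ⟨k, -, hk⟩ := exists_ev_char i4 τ
    have r1 := hb.rel hm hn h2K (commutator_mono le_top le_top) le_rfl (hKK.trans hZY) (commutator_comm_le _ _)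
      (fun d hd => i3 ▸ pow_relIndex_mem Y hd) fun h => (hlt (by omega : 3 < 4)).not_ge (by
        have := (card_le_mul (A := K) (x := x) fun y hy => ((commutator_comm_le _ _).trans h)
          (commutator_mem_commutator hy (mem_top x))).trans (Nat.mul_le_mul_right _ (hCx hxK))
        rwa [hKc, hY3, ← pow_add] at this)
    have r2 := hb.rel hn hk hYle (commutator_comm_le _ _) h4Z ((commutator_mono le_rfl h2K).trans hKK)
      ((commutator_comm_le _ _).trans h4Z) (fun d hd => i4 ▸ pow_relIndex_mem _ hd) fun h =>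
        (hlt (by omega : 1 < 2)).not_ge (hY3.ge.trans ((Subgroup.card_le_of_le ((commutator_comm_le _ _).trans h)).trans hZc.le))
    have r3 := hb.rel hk ha hZY ((commutator_comm_le _ _).trans h4Z) center_commutator (commutator_eq_bot_of_le le_rfl)
      ((commutator_comm_le _ _).trans center_commutator) (fun d hd => i5 ▸ pow_relIndex_mem _ hd) h4
    have r4 := hm.rel hn ha hYle ((commutator_mono le_rfl h2K).trans hKK) center_commutator
      (commutator_eq_bot_of_le (AbM.le_centralizer (AbM.isMulCommutative_of_relIndex_prime hp.out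
        (hYK.trans (centralizer_le h2K)) i3))) (commutator_eq_bot_of_le le_rfl)
      (fun d hd => i5 ▸ pow_relIndex_mem _ hd) fun h => hKn (AbM.isMulCommutative_of_relIndex_prime hp.out
        (le_centralizer_iff.1 (commutator_eq_bot_iff_le_centralizer.1 (eq_bot_iff.2 h))) i2)
    have r5 : (m : ZMod p) = b ^ 2 := mul_right_cancel₀ hn0 (by rw [← r4, r3, r2]; ring)
    exact ⟨by rw [r3, r2, r1, r5]; ring, m, hm, r5⟩
  have tor' : ∀ a b : ℤ, (a : ZMod p) * b = 1 → ∃ σ ∈ Γ, Ev σ ⊤ K b ∧ Ev σ (center G) ⊥ a := fun a b h => by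
    obtain ⟨σ, hσ, s1, s2⟩ := tor a b h
    exact ⟨σ, hσ, .of_elt i1 (fun _ _ => trivial) (stab_of_maps (inv_of_char ⊤ K ⟨σ, trivial⟩)) trivial hxK
      (by simp [s2]), .of_elt i5 (inv_of_char ⊤ _ ⟨σ, trivial⟩) (by simp) he he1 (by simp [s1])⟩
  have h6 : p - 1 ∣ 6 := sub_one_dvd fun b hb => by
    obtain ⟨s, t, rfl, hst⟩ := exists_int_inv hb
    obtain ⟨σ, -, s1, s2⟩ := tor' t s (mul_comm (s : ZMod p) _ ▸ hst)
    rw [← hst, (rel σ s1 s2).1]; ring
  obtain rfl : p = 3 := by
    have := Nat.le_of_dvd (by omega) h6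
    have h7 := hp.out
    have : p ≤ 7 := by omega
    interval_cases p <;> first | rfl | omega | exact absurd h7 (by decide)
  obtain ⟨σ, hσ, s1, -⟩ := tor' (-1) (-1) (by simp)
  refine exists_invariant_hom hΓ hP hp2 h2K le_rfl (by simp) hKi.dvd (fun τ _ => ?_) hσ
    (fun y => s1.mul_mem trivial) (fun y _ => s1.mul_mem trivial) fun h => (hlt (by omega : 3 < 4)).not_ge
      (hKc.ge.trans ((Subgroup.card_le_of_le h).trans hY2.le))
  obtain ⟨b, hb0, hb⟩ := exists_ev_char i1 τ
  obtain ⟨a, -, ha⟩ := exists_ev_char i5 τ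
  obtain ⟨-, m, hm, e⟩ := rel τ hb ha
  exact fun y hy => (hm.congr (fun y hy => i2 ▸ pow_relIndex_mem _ hy)
    (e.trans ((ZMod.pow_card_sub_one_eq_one hb0).trans Int.cast_one.symm))).triv hy

theorem case_cube {E : Subgroup G} (hE : Nat.card E = p ^ 3)
    (hCE : centralizer (E : Set G) ≤ E) (hN : (normalizer (E : Set G)).index = p)
    (hD : Nat.card (centralizer (normalizer (E : Set G) : Set G)) = p ^ 2) {e e' d : G}
    (he : e ∈ ⁅normalizer (E : Set G), normalizer (E : Set G)⁆) (he1 : e ≠ 1) (he' : e' ∈ E)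
    (he'D : e' ∉ centralizer (normalizer (E : Set G) : Set G))
    (hd : d ∈ centralizer (normalizer (E : Set G) : Set G)) (hde : d ∉ zpowers e)
    (tor : ∀ a b : ℤ, (a : ZMod p) * b = 1 →
      ∃ σ ∈ Γ, (∀ y ∈ E, σ y ∈ E) ∧ σ e = e ^ a ∧ σ e' = e' ^ b ∧ σ d = d) :
    ∃ θ : G →* Abelianization G, (∀ τ ∈ Γ, ∀ y, θ (τ y) = θ y) ∧ θ.ker ≠ ⊤ := by
  have hP : IsPGroup p G := .of_card hG
  have h1 := hp.out.one_lt
  have hlt : ∀ {m n : ℕ}, m < n → ∀ {A B : Subgroup G}, Nat.card A = p ^ n → Nat.card B = p ^ m → ¬ A ≤ B :=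
    fun h _ _ hA hB e => (Nat.pow_lt_pow_right h1 h).not_ge (hA.ge.trans ((Subgroup.card_le_of_le e).trans hB.le))
  set N := normalizer (E : Set G) with hNdef
  have := PG.normal_of_index_eq hP hN
  set D := centralizer (N : Set G) with hDdef
  have hEN : E ≤ N := le_normalizer
  have hDE : D ≤ E := (centralizer_le hEN).trans hCE
  have hNc : Nat.card N = p ^ 4 := card_of_index (m := 1) hG (hN.trans (pow_one p).symm)
  have hNN : Nat.card (⁅N, N⁆ : Subgroup G) = p :=
    card_commutator_eq hNc (fun h => hab N h hN) (hDE.trans hEN) hD le_rfl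
  have hZe : zpowers e = ⁅N, N⁆ := le_antisymm (zpowers_le.2 he) fun y hy => mem_zpowers_of_card_prime hNN he he1 hy
  set Z := zpowers e with hZdef
  have hZc : Nat.card Z = p ^ 1 := by rw [hZe, hNN, pow_one]
  have hZn : Z.Normal := hZe ▸ inferInstance
  have hZ : Z ≤ center G := PG.le_center_of_card_le hP Z (hZc.trans (pow_one p)).le
  have hZD : Z ≤ D := hZ.trans (center_le_centralizer _)
  have hZ0 : ⁅Z, (⊤ : Subgroup G)⁆ ≤ ⊥ := (commutator_mono hZ le_rfl).trans center_commutator
  have hEn : ¬ E.Normal := fun h => h1.ne' (by rw [← hN, hNdef, normalizer_eq_top, index_top])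
  have hGD : ¬ commutator G ≤ D := fun h => hEn (Normal.of_commutator_le _ (h.trans hDE))
  set L := D.upperCentralSeriesStep with hLdef
  have hLD : ⁅L, (⊤ : Subgroup G)⁆ ≤ D := le_step_iff.1 le_rfl
  have hDL : D ≤ L := le_step_iff.2 (commutator_le_left _ _)
  have hLc : Nat.card L = p ^ 3 := by
    refine card_of_index (m := 2) hG ?_
    have hq : Nat.card (G ⧸ D) = p ^ 3 := index_of_card (k := 2) hG hD
    rw [hLdef, Subgroup.upperCentralSeriesStep_eq_comap_center, index_comap_of_surjective _ (QuotientGroup.mk'_surjective D)]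
    exact index_of_card (k := 1) hq ((isExtraspecial_of_card hq fun h =>
      hGD (Normal.quotient_commutative_iff_commutator_le.1 h)).2.trans (pow_one p).symm)
  have hLN : L ≤ N := fun y hy => mem_normalizer_of_cj_mem fun x hx => by
    rw [cj, PG.conj_eq_commutator_mul]; exact mul_mem (hDE (hy x)) hx
  have iDL := relIndex_of_card hDL hLc hD
  have iDE := relIndex_of_card hDE hE hD
  have iZD := relIndex_of_card hZD hD hZc
  have iZ := relIndex_of_card bot_le hZc (card_bot.trans (pow_zero p).symm)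
  have iN : N.relIndex ⊤ = p := by rwa [relIndex_top_right]
  have hLab := AbM.isMulCommutative_of_relIndex_prime hp.out (centralizer_le hLN) iDL
  have hLE : ¬ L ≤ E := fun h => hEn (Subgroup.eq_of_le_of_card_ge h (hE.trans hLc.symm).le ▸ inferInstance)
  have he'L : e' ∉ L := fun h => hLE (Subgroup.eq_of_le_of_card_ge (by
    rw [← PG.sup_zpowers_eq_of_card hp.out hDE (by rw [hE, hD, pow_succ']) he' he'D]
    exact sup_le hDL (zpowers_le.2 h)) (hLc.trans hE.symm).le).ge
  have hGL : commutator G ≤ L := commutator_le.2 fun x _ y _ => commutator_le_of_relIndex_sq (P := ⊤)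
    (by rw [relIndex_top_right]; exact index_of_card (k := 3) hG hLc) trivial trivial
  have hDZ : ⁅D, (⊤ : Subgroup G)⁆ ≤ Z := le_step_iff.1 fun y hy g => by
    have := PG.le_center_of_card_le (hP.to_quotient Z) (D.map (QuotientGroup.mk' Z)) (by
      rw [← relIndex_ker, QuotientGroup.ker_mk', iZD]) ⟨y, hy, rfl⟩
    exact (QuotientGroup.eq_one_iff _).1 (commutatorElement_eq_one_iff_mul_comm.2 (mem_center_iff.1 this g).symm)
  have hND : ⁅N, D⁆ ≤ ⊥ := commutator_eq_bot_of_le (le_centralizer_iff.1 le_rfl)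
  have tor' : ∀ a b : ℤ, (a : ZMod p) * b = 1 → ∃ σ ∈ Γ, ∃ l k : ℤ, Ev σ ⊤ N l ∧ Ev σ L D k ∧ Ev σ D Z 1 ∧
      Ev σ Z ⊥ a ∧ Ev σ N L b ∧ (l : ZMod p) = a ^ 3 ∧ (k : ZMod p) = a ^ 2 := fun a b h => by
    obtain ⟨σ, hσ, s0, s1, s2, s3⟩ := tor a b h
    have tE := stab_of_maps s0
    have tN : Stab σ N := tE.normalizer
    have tD : Stab σ D := tN.centralizer
    have tL : Stab σ L := tD.step
    have vZ := ev_zpowers s1
    have tZ : Stab σ Z := stab_of_maps (by rintro _ ⟨n, rfl⟩; rw [map_zpow, s1]; exact zpow_mem (zpow_mem (mem_zpowers e) a) n)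
    obtain ⟨l, -, hl⟩ := exists_ev iN (fun _ _ => trivial) tN
    obtain ⟨k, -, hk⟩ := exists_ev iDL tL.maps tD
    have vE : Ev σ E D b := .of_elt iDE s0 tD he' he'D (by simp [s2])
    have r1 := hl.rel vE hk hDE ((commutator_mono le_top le_top).trans hGL) hLD
      ((commutator_mono le_rfl hEN).trans (hZe.ge.trans hZD)) (commutator_le_right _ _)
      (fun d hd => iDL ▸ pow_relIndex_mem _ hd) fun h => he'L (le_step_iff.2 ((commutator_comm_le _ _).trans h) he')
    have r2 := vE.rel hk vZ hDL ((commutator_mono hEN hLN).trans hZe.ge) hZ0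
      ((commutator_comm_le _ _).trans ((commutator_mono hLN le_rfl).trans hND)) ((commutator_mono hEN le_rfl).trans hND)
      (fun d hd => iZ ▸ pow_relIndex_mem _ hd) fun h => hLE ((le_centralizer_iff.1
        (commutator_eq_bot_iff_le_centralizer.1 (eq_bot_iff.2 h))).trans hCE)
    have r3 : (k : ZMod p) = a ^ 2 := by rw [← one_mul (k : ZMod p), ← h, mul_assoc, ← r2, pow_two]
    exact ⟨σ, hσ, l, k, hl, hk, .of_elt iZD tD.maps tZ hd hde (by simp [s3]), vZ,
      .of_elt (relIndex_of_card hLN hNc hLc) tN.maps tL (hEN he') he'L (by simp [s2]),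
      by rw [← mul_one (l : ZMod p), ← h, mul_left_comm, ← r1, r3]; ring, r3⟩
  obtain ⟨σ, hσ, l, k, s1, s2, s3, -, s5, el, ek⟩ := tor' (-1) (-1) (by simp)
  have hLZ : ⁅(⊤ : Subgroup G), L⁆ ≤ Z := by
    by_contra h
    have := s1.rel s2 s3 hDL ((commutator_comm_le _ _).trans hLD) hDZ ((commutator_mono le_rfl hLN).trans hZe.ge)
      ((commutator_comm_le _ _).trans hDZ) (fun d hd => iZD ▸ pow_relIndex_mem _ hd) h
    rw [el, ek] at this
    have h2 : ((2 : ℕ) : ZMod p) = 0 := by push_cast at this ⊢; linear_combination this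
    exact hp2 ((Nat.prime_dvd_prime_iff_eq hp.out Nat.prime_two).1 ((ZMod.natCast_eq_zero_iff 2 p).1 h2))
  have hCL : ∀ C : Subgroup G, L ≤ C → C.index = p → ¬ ⁅C, L⁆ ≤ ⊥ := fun C h hC e =>
    hab C (AbM.isMulCommutative_of_relIndex_prime hp.out (le_centralizer_iff.1
      (commutator_eq_bot_iff_le_centralizer.1 (eq_bot_iff.2 e))) (relIndex_of_card h
        (card_of_index (m := 1) hG (hC.trans (pow_one p).symm)) hLc)) hC
  have hD0 : ¬ ⁅(⊤ : Subgroup G), D⁆ ≤ ⊥ := fun h => by
    obtain ⟨y, hy, hyD⟩ := SetLike.not_le_iff_exists.1 (hlt (by omega : 2 < 3) hLc hD)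
    have hL := PG.sup_zpowers_eq_of_card hp.out hDL (by rw [hLc, hD, pow_succ']) hy hyD
    have hC : centralizer {y} ≤ centralizer (L : Set G) := by
      rw [← hL, PG.centralizer_sup_zpowers]
      exact le_inf (le_top.trans (commutator_eq_bot_iff_le_centralizer.1 (eq_bot_iff.2 h))) le_rfl
    refine hCL (centralizer {y}) (fun x hx => mem_centralizer_singleton_iff.2 (AbM.comm_of_mem hLab hx hy))
      (index_eq_of_le hP ?_ fun e => hyD (center_le_centralizer _ (mem_center_iff.2 fun g =>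
        mem_centralizer_singleton_iff.1 (e.ge trivial)))) (commutator_eq_bot_of_le hC)
    simpa [hZc] using PG.relIndex_centralizer_le_card ⊤ Z y fun x _ => hLZ (commutator_mem_commutator trivial hy)
  obtain rfl : p = 3 := by
    have h6 : p - 1 ∣ 2 := sub_one_dvd fun b hb => by
      obtain ⟨s, t, rfl, hst⟩ := exists_int_inv hb
      obtain ⟨σ, -, l, k, s1, -, s3, s4, -, el, -⟩ := tor' s t hst
      have := s1.rel s3 s4 hZD ((commutator_comm_le _ _).trans hDZ) hZ0 hND ((commutator_comm_le _ _).trans hZ0)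
        (fun d hd => iZ ▸ pow_relIndex_mem _ hd) hD0
      exact mul_left_cancel₀ hb (by rw [el] at this; push_cast at this; linear_combination -this)
    have := Nat.le_of_dvd (by omega) h6
    omega
  have hZZ : Z = center G := (PG.eq_or_eq_of_card hp.out hZ (center_le_centralizer (N : Set G))
    (by rw [hD, hZc]; rfl)).elim Eq.symm fun e => (hD0 ((commutator_comm_le _ _).trans ((commutator_mono e.ge le_rfl).trans center_commutator))).elim
  have hL2 : L = (center G).upperCentralSeriesStep := le_antisymm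
    (le_step_iff.2 ((commutator_comm_le _ _).trans (hZZ ▸ hLZ))) fun y hy g => center_le_centralizer _ (hy g)
  have : L.Characteristic := hL2 ▸ inferInstance
  have : Z.Characteristic := hZZ ▸ inferInstance
  have hZG : Z ≤ commutator G := hZe.le.trans (commutator_mono le_top le_top)
  have iZG : Z.relIndex (commutator G) = 3 := by
    have hq : Nat.card (G ⧸ center G) = 3 ^ 4 := index_of_card (k := 1) hG (hZZ ▸ hZc)
    have := (Cfsg.Agent.S4584.result 3 hq).2 (by
      rw [← index_comap_of_surjective _ (QuotientGroup.mk'_surjective _),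
        ← Subgroup.upperCentralSeriesStep_eq_comap_center, ← hL2]
      exact index_of_card (k := 3) hG hLc)
    rw [hZZ, ← QuotientGroup.ker_mk' (center G), relIndex_ker, _root_.commutator_def, map_commutator,
      map_top_of_surjective _ (QuotientGroup.mk'_surjective _)]
    exact this
  have hGc : Nat.card (commutator G) = 3 ^ 2 := (card_eq_of_relIndex hZG iZG).trans (by rw [hZc]; rfl)
  set C := centralizer (commutator G : Set G) with hCdef
  have hC0 : ¬ ⁅(⊤ : Subgroup G), commutator G⁆ ≤ ⊥ := fun h => hlt (by omega : 1 < 2) hGc (hZZ ▸ hZc)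
    (centralizer_eq_top_iff_subset.1 (eq_top_iff.2 (commutator_eq_bot_iff_le_centralizer.1 (eq_bot_iff.2 h))))
  have hCi : C.index = 3 := index_eq_of_le hP (PG.index_centralizer_le hP _ hGc.le) fun e =>
    hC0 (commutator_eq_bot_of_le e.ge)
  have hCc : Nat.card C = 3 ^ 4 := card_of_index (m := 1) hG hCi
  have hLC : L ≤ C := (AbM.le_centralizer hLab).trans (centralizer_le hGL)
  have iC : C.relIndex ⊤ = 3 := by rwa [relIndex_top_right]
  have iLC := relIndex_of_card hLC hCc hLc
  have iGL := relIndex_of_card hGL hLc hGc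
  have hCC : ⁅C, C⁆ ≤ Z := hZZ ▸ PG.le_center_of_card_le hP _ (card_commutator_eq hCc (fun h => hab C h hCi)
    (hGL.trans hLC) hGc (le_centralizer_iff.1 le_rfl)).le
  have hCG : ⁅C, commutator G⁆ ≤ ⊥ := commutator_eq_bot_of_le le_rfl
  refine exists_invariant_hom hΓ hP hp2 hGL hLC iLC.dvd hCi.dvd (fun τ _ => ?_) hσ
    (fun y => (s1.congr (fun y hy => iN ▸ pow_relIndex_mem _ hy) (b := -1) (el.trans (by push_cast; ring))).mul_mem trivial)
    (fun y hy => s5.mul_mem hy) (hlt (by omega : 2 < 3) hLc hGc)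
  obtain ⟨a, ha0, ha⟩ := exists_ev_char iC τ
  obtain ⟨b, hb0, hb⟩ := exists_ev_char iLC τ
  obtain ⟨c, -, hc⟩ := exists_ev_char iGL τ
  obtain ⟨m, -, hm⟩ := exists_ev_char iZG τ
  obtain ⟨n, -, hn⟩ := exists_ev_char iZ τ
  have hGZ := (commutator_mono le_rfl hGL).trans hLZ
  have r1 := ha.rel hb hm hLC (commutator_mono le_top le_top) ((commutator_comm_le _ _).trans hGZ) hCC hLZ
    (fun d hd => iZG ▸ pow_relIndex_mem _ hd) fun h => hlt (by omega : 3 < 4) hCc hLc
      (hL2 ▸ le_step_iff.2 ((commutator_comm_le _ _).trans (hZZ ▸ h)))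
  have r2 := ha.rel hm hn hZG hGZ hZ0 hCG ((commutator_comm_le _ _).trans hZ0)
    (fun d hd => iZ ▸ pow_relIndex_mem _ hd) hC0
  have r3 := hb.rel hc hn hGL ((commutator_mono le_top le_rfl).trans hLZ) hZ0
    (commutator_eq_bot_of_le (AbM.le_centralizer hLab)) hCG (fun d hd => iZ ▸ pow_relIndex_mem _ hd) (hCL C hLC hCi)
  have r4 := ZMod.pow_card_sub_one_eq_one ha0
  exact fun y hy => (hc.congr (fun y hy => iGL ▸ pow_relIndex_mem _ hy) (mul_left_cancel₀ hb0 (by
    rw [← r3, r2, r1, ← mul_assoc, ← pow_two, r4, Int.cast_one, mul_comm]))).triv hy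

end CL.EigC
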