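import Mathlib
import Cfsg.Agent.FUS.EssExt
import Cfsg.Agent.FUS.P5Grp
import Cfsg.Agent.FUS.OpPrime

/-!
# Saturated fusion systems on groups of order `p⁵`
-/

set_option autoImplicit false

namespace CL.EssSm
open Subgroup Cfsg Cfsg.FusionSystem CL.Fus CL.TV CL.EigC
open scoped commutatorElement

variable {G : Type*} [Group G] [Finite G] {p : ℕ} [hp : Fact p.Prime] {F : FusionSystem (⊤ : Subgroup G)}

/-- The automizer of the whole group as a group of automorphisms of `G`. -/
def topAut (F : FusionSystem (⊤ : Subgroup G)) : Subgroup (MulAut G) where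
  carrier := {σ | Mor F ⊤ σ}
  one_mem' := mor_id F le_rfl
  mul_mem' := fun ha hb => Mor.comp ha hb fun _ _ => trivial
  inv_mem' := fun {a} ha => by
    have := Mor.of_leftInv ha (g := (a⁻¹ : MulAut G)) fun x _ => a.symm_apply_apply x
    rwa [Mor.img_top ha] at this

omit hp in
theorem exists_topAut {g : G → G} (hg : Mor F ⊤ g) : ∃ σ ∈ topAut F, ∀ x, σ x = g x :=
  let ⟨σ, h⟩ := hg.exists_mulAut_top
  ⟨σ, hg.congr fun x _ => (h x).symm, h⟩

theorem pPrime_topAut (hG : IsPGroup p G) (hF : F.IsSaturated p) : PPrime p (topAut F) := fun γ hγ => by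
  obtain ⟨α, hα, e⟩ := Mor.exists_aut hγ (Mor.img_top hγ)
  obtain ⟨m, hm, h⟩ := exists_pow_mem_inn (hG.to_subgroup ⊤) hF hα
  obtain ⟨g, -, h⟩ := mem_inn_iff.1 h
  refine ⟨m, hm, fun y _ => ?_⟩
  have := h (mem_top y)
  rw [autFun_pow α m (mem_top y), iterate_eqOn (fun _ _ => mem_top _) e m (mem_top y)] at this
  rw [show (γ ^ m) y = cj g y from (smul_iterate_apply γ m y).symm.trans this]
  exact inv_mul_cj_mem le_rfl trivial trivial

omit [Finite G] hp in
theorem normalizerIn_top (E : Subgroup G) : normalizerIn ⊤ E = normalizer (E : Set G) := top_inf_eq _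

omit [Finite G] hp in
theorem centralizer_le_of_centric {E : Subgroup G} (h : F.IsCentric E) : centralizer (E : Set G) ≤ E :=
  fun _ hx => centralizerIn_le_of_isCentric h ⟨trivial, hx⟩

omit [Finite G] hp in
theorem map_center_eq (R : Subgroup G) : (center R).map R.subtype = R ⊓ centralizer (R : Set G) :=
  Subgroup.ext fun _ => AbM.mem_map_center_iff

variable (hG : Nat.card G = p ^ 5) (hF : F.IsSaturated p)
include hG

theorem le_card_center : p ^ 1 ≤ Nat.card (center G) := by
  have hP : IsPGroup p G := .of_card hG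
  have := hP.nontrivial_iff_card.2 ⟨5, by omega, hG⟩
  exact PG.pow_succ_le_card_of_lt hP ((nontrivial_iff_ne_bot _).1 hP.center_nontrivial).bot_lt (by simp)

include hF

theorem card_dvd_of_essential {R : Subgroup G} (hR : F.IsEssential p R) : Nat.card R ∣ p ^ 4 := by
  have hP : IsPGroup p G := .of_card hG
  obtain ⟨k, hk⟩ := PG.card_eq_pow hP R
  have := PG.card_le_pow_of_lt hP (lt_of_essential (hP.to_subgroup ⊤) hF hR) (card_top.trans hG).le
  rw [hk, Nat.pow_le_pow_iff_right hp.out.one_lt] at this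
  exact hk ▸ pow_dvd_pow p this

theorem genES_of_essential {R : Subgroup G} (hR : F.IsEssential p R) (na : ¬ IsMulCommutative R) :
    GenES p R ∧ Nat.card R = p ^ 2 * Nat.card (centralizer (R : Set G)) := by
  obtain ⟨u, h⟩ := exists_rad_of_essential ((IsPGroup.of_card hG).to_subgroup ⊤) hF hR
  obtain ⟨h1, h2⟩ := h.genES_of_card (card_dvd_of_essential hG hF hR) na
  rw [← inf_of_le_right (centralizer_le_of_centric hR.1), ← map_center_eq, card_subtype, ← h2, index_mul_card]
  exact ⟨h1, rfl⟩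

theorem card_of_lt_essential {E R : Subgroup G} (hR : F.IsEssential p R) (na : ¬ IsMulCommutative R) (h : E ≤ R)
    {k : ℕ} (hE : p ^ (k + 2) ≤ Nat.card R) : p ^ k ≤ Nat.card (centralizer (E : Set G)) := by
  rw [(genES_of_essential hG hF hR na).2, add_comm, pow_add] at hE
  exact (Nat.le_of_mul_le_mul_left hE (pow_pos hp.out.pos 2)).trans (Subgroup.card_le_of_le (centralizer_le h))

theorem autInv_center_of_essential {R : Subgroup G} (hR : F.IsEssential p R) (na : ¬ IsMulCommutative R) :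
    AutInv (F.autGroup R) (center G) := by
  have hP : IsPGroup p G := .of_card hG
  obtain ⟨h1, h2⟩ := genES_of_essential hG hF hR na
  have hC := centralizer_le_of_centric hR.1
  rcases (center_le_centralizer (R : Set G)).eq_or_lt with h | h
  · rw [h, ← inf_of_le_right hC, ← map_center_eq]
    exact autInv_map_of_char _ _
  have h4 := PG.pow_succ_le_card_of_lt hP h (le_card_center hG)
  have h5 := Nat.le_of_dvd (pow_pos hp.out.pos 4) (card_dvd_of_essential hG hF hR)
  have h6 : Nat.card R = p ^ 4 := h5.antisymm (h2 ▸ (pow_add p 2 2).trans_le (Nat.mul_le_mul_left _ h4))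
  have := PG.normal_of_index_eq hP ((index_of_card (m := 1) hG h6).trans (pow_one p))
  have h7 : Nat.card (⁅R, R⁆ : Subgroup G) = p := by rw [← map_subtype_commutator, card_subtype, h1.card]
  have h8 : Nat.card (centralizer (R : Set G)) ≤ p ^ 2 :=
    Nat.le_of_mul_le_mul_left (h2 ▸ h5.trans (pow_add p 2 2).le) (pow_pos hp.out.pos 2)
  rw [← Subgroup.eq_of_le_of_card_ge (PG.le_center_of_card_le hP _ h7.le)
    ((PG.card_le_pow_of_lt hP h h8).trans (h7.trans (pow_one p).symm).ge), ← map_subtype_commutator]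
  exact autInv_map_of_char _ _

theorem not_normalizer_le_of_na {R R' : Subgroup G} (hR : F.IsEssential p R) (na : ¬ IsMulCommutative R)
    (hR' : F.IsEssential p R') : ¬ normalizerIn ⊤ R ≤ R' := fun h => by
  have hP : IsPGroup p G := .of_card hG
  have h1 := (lt_normalizerIn (hP.to_subgroup ⊤) (lt_of_essential (hP.to_subgroup ⊤) hF hR)).trans_le h
  have h2 := PG.card_le_pow_of_lt hP h1 (Nat.le_of_dvd (pow_pos hp.out.pos 4) (card_dvd_of_essential hG hF hR'))
  have h3 := (genES_of_essential hG hF hR na).2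
  have h4 := (le_card_center hG).trans (Subgroup.card_le_of_le (center_le_centralizer (R : Set G)))
  have h5 := card_of_lt_essential hG hF hR' (fun h => na (isMulCommutative_of_le h h1.le)) h1.le (k := 2)
    (PG.pow_succ_le_card_of_lt hP h1 (h3 ▸ (pow_add p 2 1).trans_le (Nat.mul_le_mul_left _ h4)))
  exact (Nat.pow_lt_pow_right hp.out.one_lt (by omega : 3 < 2 + 2)).not_ge
    ((pow_add p 2 2).trans_le ((Nat.mul_le_mul_left _ h5).trans (h3 ▸ h2)))

variable (hab : ∀ A : Subgroup G, IsMulCommutative A → A.index ≠ p)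
include hab

theorem card_of_comm {E : Subgroup G} (hE : F.IsEssential p E) (hc : IsMulCommutative E) :
    (Nat.card E = p ^ 2 ∧ Nat.card (center G) = p ^ 1) ∨ Nat.card E = p ^ 3 := by
  have hP : IsPGroup p G := .of_card hG
  obtain ⟨k, hk, e⟩ := (Nat.dvd_prime_pow hp.out).1 (card_dvd_of_essential hG hF hE)
  have h1 := le_card_center hG
  have h2 : center G < E := lt_of_le_of_ne (center_le_of_top_or_essential (Or.inr hE)) fun h =>
    (lt_of_essential (hP.to_subgroup ⊤) hF hE).not_ge ((top_le_centralizer h.ge).trans (centralizer_le_of_centric hE.1))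
  have h3 := PG.pow_succ_le_card_of_lt hP h2 h1
  rw [e, Nat.pow_le_pow_iff_right hp.out.one_lt] at h3
  have h4 : k ≠ 4 := fun h => hab E hc ((index_of_card (m := 1) hG (h ▸ e)).trans (pow_one p))
  by_cases h5 : k = 3
  · exact Or.inr (h5 ▸ e)
  obtain rfl : k = 2 := by omega
  exact Or.inl ⟨e, (PG.card_le_pow_of_lt hP h2 e.le).antisymm h1⟩

theorem exists_transv {E : Subgroup G} (hE : F.IsEssential p E) (hc : IsMulCommutative E) :
    ∃ Z ≤ E, Z.relIndex E = p ∧ ∃ x ∈ normalizer (E : Set G), x ∉ E ∧ ∀ z ∈ Z, x * z = z * x := by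
  have hP : IsPGroup p G := .of_card hG
  have hlt := lt_normalizerIn (hP.to_subgroup ⊤) (lt_of_essential (hP.to_subgroup ⊤) hF hE)
  rw [normalizerIn_top] at hlt
  rcases card_of_comm hG hF hab hE hc with ⟨h1, h2⟩ | h1
  · obtain ⟨x, hx, hxE⟩ := SetLike.exists_of_lt hlt
    have hZ := center_le_of_top_or_essential (Or.inr hE)
    exact ⟨_, hZ, relIndex_of_card hZ h1 h2, x, hx, hxE, fun z hz => mem_center_iff.1 hz x⟩
  by_cases hn : normalizer (E : Set G) = ⊤
  · have := normalizer_eq_top_iff.1 hn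
    obtain ⟨B, _, hB, h2⟩ := PN.exists_normal_le_card_eq hP E 2 (h1 ▸ Nat.pow_le_pow_right hp.out.pos (by omega))
    obtain ⟨x, hx, hxE⟩ := SetLike.not_le_iff_exists.1 fun h : centralizer (B : Set G) ≤ E => by
      have := (Nat.le_of_dvd (Nat.pos_of_ne_zero index_ne_zero_of_finite) (index_dvd_of_le h)).trans
        (PG.index_centralizer_le hP B h2.le)
      rw [index_of_card (m := 2) hG h1] at this
      exact this.not_gt (by simpa using Nat.pow_lt_pow_right hp.out.one_lt one_lt_two)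
    exact ⟨B, hB, relIndex_of_card hB h1 h2, x, hn.ge trivial, hxE, fun z hz => (hx z hz).symm⟩
  have hN : Nat.card (normalizer (E : Set G)) = p ^ 4 := (PG.card_le_pow_of_lt hP (lt_top_iff_ne_top.2 hn)
    (card_top.trans hG).le).antisymm (PG.pow_succ_le_card_of_lt hP hlt h1.ge)
  have := PG.normal_of_index_eq hP ((index_of_card (m := 1) hG hN).trans (pow_one p))
  obtain ⟨s, -, hs⟩ := SetLike.exists_of_lt (lt_top_iff_ne_top.2 hn)
  have h2 : Nat.card (E.map (MulAut.conj s).toMonoidHom) = p ^ 3 := (card_map_of_injective (MulAut.conj s).injective).trans h1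
  have h3 : E.map (MulAut.conj s).toMonoidHom ≤ normalizer (E : Set G) := by
    rintro _ ⟨y, hy, rfl⟩; exact this.conj_mem y (hlt.le hy) s
  have h4 : ¬ E.map (MulAut.conj s).toMonoidHom ≤ E := fun h => hs (mem_normalizer_of_cj_mem fun y hy => h ⟨y, hy, rfl⟩)
  obtain ⟨x, hx, hxE⟩ := SetLike.not_le_iff_exists.1 h4
  refine ⟨_, inf_le_right, ?_, x, h3 hx, hxE, fun z hz => AbM.comm_of_mem inferInstance hx hz.1⟩
  rw [inf_relIndex_right]
  refine index_eq_of_le (hP.to_subgroup E) ((relIndex_le_of_le_right hlt.le index_ne_zero_of_finite).trans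
    (relIndex_of_card h3 hN h2).le) fun e => h4 (Subgroup.eq_of_le_of_card_ge (subgroupOf_eq_top.1 e) (h2.trans h1.symm).le).ge

theorem exists_torus {E : Subgroup G} (hE : F.IsEssential p E) (hc : IsMulCommutative E) :
    ∃ x e e' D, ∃ hx : x ∈ normalizer (E : Set G), x ∉ E ∧
      TvData F p E (centralizer (normalizer (E : Set G) : Set G)) x e e' D ∧
      (centralizer (normalizer (E : Set G) : Set G)).relIndex E = p ∧ E.relIndex (normalizer (E : Set G)) = p ∧
      (∀ t ∈ autInducedBy ⊤ E, t ∈ zpowers (cjAut E x hx)) ∧ ∀ a b : ℤ, (a : ZMod p) * b = 1 →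
        ∃ σ ∈ topAut F, (∀ y ∈ E, σ y ∈ E) ∧ σ e = e ^ a ∧ σ e' = e' ^ b ∧ ∀ d ∈ D, σ d = d := by
  have hP : IsPGroup p G := .of_card hG
  have hT := hP.to_subgroup ⊤
  have hC := centralizer_le_of_centric hE.1
  obtain ⟨Z, hZE, hZ, x, hx, hxE, hxZ⟩ := exists_transv hG hF hab hE hc
  obtain ⟨h1, e, e', D, h⟩ := exists_tvData hT hF hE hc hZE hZ trivial hx hxE hxZ
  have h2 := (relIndex_normalizerIn_of_card le_top hc (centralizerIn_le_of_isCentric hE.1)).symm.trans h1
  have h3 : ∀ t ∈ autInducedBy ⊤ E, t ∈ zpowers (cjAut E x hx) := fun t ht => mem_zpowers_of_card_prime h2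
    (cjAut_mem_autInducedBy (mem_top x) hx) (fun e => hxE (hC ((cjAut_eq_one_iff hx).1 e))) ht
  rw [normalizerIn_top] at h1
  have hN := card_eq_of_relIndex le_normalizer h1
  have h4 : centralizer (normalizer (E : Set G) : Set G) = Z :=
    (PG.eq_or_eq_of_card hp.out (by
      rw [← PG.sup_zpowers_eq_of_card hp.out le_normalizer hN hx hxE, PG.centralizer_sup_zpowers]
      exact le_inf (hZE.trans (AbM.le_centralizer hc)) fun z hz => mem_centralizer_singleton_iff.2 (hxZ z hz).symm)
      ((centralizer_le le_normalizer).trans hC) (card_eq_of_relIndex hZE hZ)).resolve_right fun e =>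
        hxE (hC (le_centralizer_iff.1 e.ge hx))
  have na : ¬ IsMulCommutative (normalizer (E : Set G)) := fun h => hxE (hC fun y hy => AbM.comm_of_mem h (le_normalizer hy) hx)
  have h5 : ∀ R, F.IsEssential p R → ¬ normalizerIn ⊤ E ≤ R := fun R hR hle => by
    have h6 := card_dvd_of_essential hG hF hR
    rcases hle.eq_or_lt with e | hlt
    · have h7 : center (normalizerIn ⊤ E) = Z.subgroupOf _ := by
        rw [← comap_map_eq_self_of_injective (subtype_injective _) (Subgroup.center _), map_center_eq, normalizerIn_top, h4]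
        exact inf_subgroupOf_left _ _
      exact not_essential_normalizerIn hT hF hE.2.1 (e ▸ h6) (normalizerIn_top E ▸ na) (h7 ▸ fun _ h => hZE h)
        (by rwa [h7, relIndex_subgroupOf (le_normalizerIn le_top)]) (e ▸ hR)
    · rw [normalizerIn_top] at hlt
      have h7 := PG.card_le_pow_of_lt hP hlt (Nat.le_of_dvd (pow_pos hp.out.pos 4) h6)
      rcases card_of_comm hG hF hab hE hc with ⟨h8, -⟩ | h8
      · have h9 := card_of_lt_essential hG hF hR (fun h => na (isMulCommutative_of_le h hlt.le)) le_rfl (k := 2)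
          (PG.pow_succ_le_card_of_lt hP hlt (by rw [hN, h8, pow_succ' p 2]))
        exact hxE (hC (le_centralizer_iff.1 (Subgroup.eq_of_le_of_card_ge ((centralizer_le
          (le_normalizer.trans hlt.le)).trans hC) (h8.trans_le h9)).ge (hlt.le hx)))
      · rw [hN, h8, ← pow_succ'] at h7
        exact h7.not_gt (Nat.pow_lt_pow_right hp.out.one_lt (by omega))
  refine ⟨x, e, e', D, hx, hxE, h4 ▸ h, h4 ▸ hZ, h1, h3, fun a b hab => ?_⟩
  obtain ⟨w, hw, w1, w2, w3, w4⟩ := h.diag a b hab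
  obtain ⟨g, hg, e1⟩ := exists_top_of_normalizes hT hF hE.1 h5 hw fun t ht => by
    obtain ⟨n, rfl⟩ := h3 t ht
    rw [← conj_zpow, w4 hx]
    exact zpow_mem (zpow_mem (cjAut_mem_autInducedBy (mem_top x) hx) _) n
  obtain ⟨σ, hσ, e2⟩ := exists_topAut hg
  exact ⟨σ, hσ, fun y hy => by rw [e2, e1 hy]; exact autFun_mem w hy, by rw [e2, e1 (hZE h.mem), w1],
    by rw [e2, e1 h.mem', w2], fun d hd => by rw [e2, e1 (hZE (h.le hd)), w3 d hd]⟩

theorem focal_le_of_invariant (hp2 : p ≠ 2) {A : Type*} [CommGroup A] (θ : G →* A)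
    (hθ : ∀ τ ∈ topAut F, ∀ y, θ (τ y) = θ y) : F.focalSubgroup ≤ θ.ker := by
  have hP : IsPGroup p G := .of_card hG
  have hT := hP.to_subgroup ⊤
  have key : ∀ τ ∈ topAut F, ∀ y, θ (y * τ y) = 1 → θ y = 1 := fun τ hτ y h => by
    obtain ⟨k, hk⟩ := hP y
    rw [map_mul, hθ τ hτ, ← pow_two] at h
    have := pow_gcd_eq_one.2 ⟨h, show θ y ^ p ^ k = 1 by rw [← map_pow, hk, map_one]⟩
    rwa [(((Nat.coprime_primes Nat.prime_two hp.out).2 hp2.symm).pow_right k).gcd_eq_one, pow_one] at this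
  refine focal_le_ker hT hF θ (fun g hg y _ => ?_) fun R hR k hk t ht y hy => ?_
  · obtain ⟨σ, hσ, e⟩ := exists_topAut hg
    rw [← e, hθ σ hσ]
  by_cases hc : IsMulCommutative R
  · obtain ⟨x, e, e', D, hx, hxE, h, -, -, h3, h4⟩ := exists_torus hG hF hab hR hc
    obtain ⟨σ, hσ, -, s1, s2, -⟩ := h4 (-1) (-1) (by simp)
    have he := (centralizer_le le_normalizer).trans (centralizer_le_of_centric hR.1) h.mem
    obtain ⟨n, hn⟩ := zpowers_le.2 (show cjAut R x hx ∈ trivAut R (zpowers e) from fun y hy =>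
      autFun_cjAut hx hy ▸ h.comm y hy) (h3 t ht) y hy
    rw [← hn, (isHomOn_autFun k).map_zpow he]
    exact zpow_mem ((sup_le (zpowers_le.2 (key σ hσ e (by simp [s1]))) (zpowers_le.2 (key σ hσ e' (by simp [s2]))) :
      _ ≤ θ.ker) (h.orb k hk)) n
  obtain ⟨u, h⟩ := exists_rad_of_essential hT hF hR
  obtain ⟨w, hw, w1, w2⟩ := h.exists_invol (card_dvd_of_essential hG hF hR) hc
  obtain ⟨g, hg, e1⟩ := exists_top_of_normalizes hT hF hR.1 (fun R' => not_normalizer_le_of_na hG hF hR hc) hw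
    fun t ht => by
      have := mul_mem (inn_le_autInducedBy le_top (w1 t (autInducedBy_le_autGroup F le_top ht))) ht
      rwa [commutatorElement_def, inv_mul_cancel_right] at this
  obtain ⟨σ, hσ, e2⟩ := exists_topAut hg
  have h5 := w2 k hk t (autInducedBy_le_autGroup F le_top ht)
    ((isPGroup_autInducedBy hT R).to_le (zpowers_le.2 ht)) ⟨y, hy⟩
  have h6 : autFun k (y⁻¹ * autFun t y) = k ((⟨y, hy⟩ : R)⁻¹ * t ⟨y, hy⟩) := by
    rw [← autFun_coe, coe_mul, ← autFun_coe]; rfl
  refine key σ hσ _ ?_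
  rw [h6, e2, e1 (Subtype.prop _), autFun_coe]
  exact Abelianization.commutator_subset_ker (θ.comp R.subtype) h5

theorem false_of_order_five (hp2 : p ≠ 2) (hp7 : p ≠ 7) (hcore : F.core = ⊥) (hfoc : F.focalSubgroup = ⊤) : False := by
  have hP : IsPGroup p G := .of_card hG
  have hT := hP.to_subgroup ⊤
  have := hP.nontrivial_iff_card.2 ⟨5, by omega, hG⟩
  obtain ⟨E, hE, hc⟩ : ∃ E, F.IsEssential p E ∧ IsMulCommutative E := by
    by_contra! H
    refine (nontrivial_iff_ne_bot _).1 hP.center_nontrivial (eq_bot_iff.2 ((le_core (normal_of_autInv hT hF fun R hR =>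
      ⟨center_le_of_top_or_essential hR, ?_⟩)).trans hcore.le))
    rcases hR with rfl | hR
    · exact fun α hα y _ hy => ((mor_autFun le_rfl hα).mem_iff_of_char _).2 hy
    · exact autInv_center_of_essential hG hF hR (H R hR)
  suffices ∃ θ : G →* Abelianization G, (∀ τ ∈ topAut F, ∀ y, θ (τ y) = θ y) ∧ θ.ker ≠ ⊤ from
    let ⟨θ, h1, h2⟩ := this
    h2 (eq_top_iff.2 (hfoc.ge.trans (focal_le_of_invariant hG hF hab hp2 θ h1)))
  obtain ⟨x, e, e', D, hx, hxE, h, h1, h2, -, h4⟩ := exists_torus hG hF hab hE hc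
  have hC := centralizer_le_of_centric hE.1
  have hZE := (centralizer_le le_normalizer).trans hC
  have h3 := card_eq_of_relIndex hZE h1
  have he1 : e ≠ 1 := fun h1 => hp.out.one_lt.ne (by rw [← h.ord, h1, orderOf_one])
  rcases card_of_comm hG hF hab hE hc with ⟨h5, h6⟩ | h5
  · have h7 := Subgroup.eq_of_le_of_card_ge (center_le_centralizer (normalizer (E : Set G) : Set G))
      (Nat.le_of_mul_le_mul_left (by rw [← h3, h5, h6, pow_succ']) hp.out.pos)
    refine case_pearl hG hab (pPrime_topAut hP hF) hp2 hp7 (x := e') (h5 ▸ congrArg (fun H : Subgroup G => Nat.card H) (le_antisymm ?_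
      fun y hy => mem_centralizer_singleton_iff.2 (AbM.comm_of_mem hc hy h.mem'))) (h7.ge h.mem) he1 fun a b hab =>
        let ⟨σ, hσ, _, s1, s2, _⟩ := h4 a b hab
        ⟨σ, hσ, s1, s2⟩
    refine le_trans ?_ hC
    rw [← PG.sup_zpowers_eq_of_card hp.out hZE h3 h.mem' h.notMem', PG.centralizer_sup_zpowers]
    exact le_inf (le_top.trans (top_le_centralizer h7.ge)) le_rfl
  have h6 : Nat.card (centralizer (normalizer (E : Set G) : Set G)) = p ^ 2 :=
    Nat.eq_of_mul_eq_mul_left hp.out.pos (by rw [← h3, h5, pow_succ'])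
  obtain ⟨d, hd, hd1⟩ := (bot_or_exists_ne_one D).resolve_left fun hD => by
    rw [h.eq_zpowers hD, Nat.card_zpowers, h.ord] at h6
    exact h6.not_lt (by simpa using Nat.pow_lt_pow_right hp.out.one_lt one_lt_two)
  obtain ⟨y, hy, h7⟩ : ∃ y ∈ E, y⁻¹ * cj x y ≠ 1 := by
    by_contra! H
    exact hxE (hC (mem_centralizer_iff_cj.2 fun y hy => (inv_mul_eq_one.1 (H y hy)).symm))
  exact case_cube hG hab (pPrime_topAut hP hF) hp2 h5 hC ((index_of_card (k := 4) (m := 1) hG (by
      rw [card_eq_of_relIndex le_normalizer h2, h5, ← pow_succ'])).trans (pow_one p)) h6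
    (zpowers_le.2 (inv_mul_cj_mem le_rfl hx (le_normalizer hy)) (mem_zpowers_of_card_prime
      (by rw [Nat.card_zpowers, h.ord]) (h.comm y hy) h7 (mem_zpowers e))) he1 h.mem' h.notMem' (h.le hd)
    (fun h8 => hd1 (h.zpow_mem_iff h8 hd)) fun a b hab =>
      let ⟨σ, hσ, s0, s1, s2, s3⟩ := h4 a b hab
      ⟨σ, hσ, s0, s1, s2, s3 d hd⟩

end CL.EssSm
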