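import Mathlib
import Cfsg.Agent.FUS.P5Fus
import Cfsg.Agent.PLOC.PNormal
import Cfsg.Agent.FGS.HallPetrescu

/-!
# Sectional rank three: elementary `p`-group tools
-/

set_option autoImplicit false

namespace CL.SR3
open Subgroup Cfsg CL.Fus
open scoped commutatorElement

variable {G : Type*} [Group G] {p : ℕ} {A B C M N X E R : Subgroup G}

/-- every elementary abelian section has order at most `p ^ 3` -/
def SR (p : ℕ) (G : Type*) [Group G] : Prop :=
  ∀ B C : Subgroup G, ⁅C, C⁆ ≤ B → (∀ y ∈ C, y ^ p ∈ B) → B.relIndex C ≤ p ^ 3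

theorem SR.of_sectional (h : SectionalPRankLE p 3 G) : SR p G := fun B C h1 h2 => by
  have hc : _root_.commutator C ≤ B.subgroupOf C := fun x hx =>
    h1 (map_subtype_commutator C ▸ mem_map_of_mem _ hx)
  have : (B.subgroupOf C).Normal := Subgroup.Normal.of_commutator_le _ hc
  have := h C (B.subgroupOf C) ⊤ ?_ fun a _ => ?_
  · rwa [card_top] at this
  · have := (Subgroup.Normal.quotient_commutative_iff_commutator_le).2 hc
    infer_instance
  · obtain ⟨a, rfl⟩ := QuotientGroup.mk_surjective a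
    exact (QuotientGroup.eq_one_iff _).2 (h2 a a.2)

theorem SR.comap (h : SR p G) {H : Type*} [Group H] {f : H →* G} (hf : Function.Injective f) : SR p H :=
  fun B C h1 h2 => by
    have := h (B.map f) (C.map f) (by rw [← map_commutator]; exact map_mono h1)
      (by rintro _ ⟨y, hy, rfl⟩; exact map_pow f y p ▸ mem_map_of_mem f (h2 y hy))
    rwa [relIndex_map_map_of_injective _ _ hf] at this

theorem SR.map (h : SR p G) {H : Type*} [Group H] {f : G →* H} (hf : Function.Surjective f) : SR p H :=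
  fun B C h1 h2 => by
    have := h (B.comap f) (C.comap f) (commutator_le.2 fun x hx y hy => by
      rw [mem_comap, map_commutatorElement]; exact commutator_le.1 h1 _ hx _ hy)
      fun y hy => by rw [mem_comap, map_pow]; exact h2 _ hy
    rwa [relIndex_comap, map_comap_eq_self_of_surjective hf] at this

theorem SR.card_le (h : SR p G) (hc : C ≤ centralizer (C : Set G)) (he : ∀ y ∈ C, y ^ p = 1) :
    Nat.card C ≤ p ^ 3 := by
  simpa using h ⊥ C (commutator_eq_bot_iff_le_centralizer.2 hc).le he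

/-- the elements centralizing `M` modulo `N` -/
def cm (M N : Subgroup G) [hN : N.Normal] : Subgroup G where
  carrier := {g | ∀ m ∈ M, ⁅m, g⁆ ∈ N}
  one_mem' := fun m _ => by simp
  mul_mem' := fun {a b} ha hb m hm => by
    convert N.mul_mem (ha m hm) (hN.conj_mem _ (hb m hm) a) using 1
    group
  inv_mem' := fun {a} ha m hm => by
    convert hN.conj_mem _ (N.inv_mem (ha m hm)) a⁻¹ using 1
    group

theorem mem_cm [N.Normal] {g : G} : g ∈ cm M N ↔ ∀ m ∈ M, ⁅m, g⁆ ∈ N := Iff.rfl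

theorem le_cm [N.Normal] : C ≤ cm M N ↔ ⁅M, C⁆ ≤ N :=
  ⟨fun h => commutator_le.2 fun m hm _ hc => h hc m hm, fun h c hc m hm => commutator_le.1 h m hm c hc⟩

theorem le_cm' [N.Normal] : C ≤ cm M N ↔ ⁅C, M⁆ ≤ N := by rw [le_cm, Subgroup.commutator_comm]

instance normal_cm [hN : N.Normal] [hM : M.Normal] : (cm M N).Normal := ⟨fun a ha g m hm => by
  convert hN.conj_mem _ (ha _ (hM.conj_mem m hm g⁻¹)) g using 1
  group⟩

theorem sup_comm_le [N.Normal] (h1 : ⁅A, C⁆ ≤ N) (h2 : ⁅B, C⁆ ≤ N) : ⁅A ⊔ B, C⁆ ≤ N :=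
  le_cm'.1 (sup_le (le_cm'.2 h1) (le_cm'.2 h2))

theorem comm_sup_le [N.Normal] (h1 : ⁅C, A⁆ ≤ N) (h2 : ⁅C, B⁆ ≤ N) : ⁅C, A ⊔ B⁆ ≤ N :=
  le_cm.1 (sup_le (le_cm.2 h1) (le_cm.2 h2))

theorem comm_zpowers_le [N.Normal] {x : G} (h : ∀ c ∈ C, ⁅c, x⁆ ∈ N) : ⁅C, zpowers x⁆ ≤ N :=
  le_cm.1 (zpowers_le_of_mem h)

theorem comm_mem_swap {x y : G} (h : ⁅x, y⁆ ∈ N) : ⁅y, x⁆ ∈ N := by
  rw [← commutatorElement_inv]; exact inv_mem h

theorem comm_le_swap (h : ⁅A, B⁆ ≤ N) : ⁅B, A⁆ ≤ N := Subgroup.commutator_comm A B ▸ h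

theorem comm_le_top (h : ⁅A, (⊤ : Subgroup G)⁆ ≤ N) : ⁅A, B⁆ ≤ N := (commutator_mono le_rfl le_top).trans h

theorem comm_sup_zpowers_le [N.Normal] {x : G} (h : ⁅A, A⁆ ≤ N) (hx : ∀ a ∈ A, ⁅a, x⁆ ∈ N) :
    ⁅A ⊔ zpowers x, A ⊔ zpowers x⁆ ≤ N :=
  sup_comm_le (comm_sup_le h (comm_zpowers_le hx)) (comm_sup_le (comm_le_swap (comm_zpowers_le hx))
    ((commutator_eq_bot_iff_le_centralizer.2 (le_centralizer _)).le.trans bot_le))

/-- the elements centralizing `x` modulo `N` -/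
def ce (x : G) (N : Subgroup G) [N.Normal] : Subgroup G :=
  (centralizer {QuotientGroup.mk' N x}).comap (QuotientGroup.mk' N)

theorem mem_ce [N.Normal] {x g : G} : g ∈ ce x N ↔ ⁅g, x⁆ ∈ N := by
  rw [ce, mem_comap, mem_centralizer_singleton_iff, ← commutatorElement_eq_one_iff_mul_comm,
    ← map_commutatorElement]
  exact QuotientGroup.eq_one_iff _

theorem normal_of_comm_le (h : ⁅A, (⊤ : Subgroup G)⁆ ≤ A) : A.Normal := ⟨fun a ha g => by
  convert A.mul_mem (comm_mem_swap (commutator_le.1 h a ha g trivial)) ha using 1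
  group⟩

theorem inv_mul_cj_iff [hN : N.Normal] {x y : G} : y⁻¹ * cj x y ∈ N ↔ ⁅y, x⁆ ∈ N :=
  ⟨fun h => by
    convert N.inv_mem (hN.conj_mem _ h y) using 1
    rw [cj]; group, fun h => by
    convert hN.conj_mem _ (N.inv_mem h) y⁻¹ using 1
    rw [cj]; group⟩

theorem mul_pow_mem (hp : Odd p) {a b : G} (ha : a ∈ normalizer (N : Set G)) (hb : b ∈ normalizer (N : Set G))
    (h1 : ⁅a, ⁅b, a⁆⁆ ∈ N) (h2 : ⁅b, ⁅b, a⁆⁆ ∈ N) (h3 : ⁅b, a⁆ ^ p ∈ N) :
    (a ^ p * b ^ p)⁻¹ * (a * b) ^ p ∈ N := by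
  let π := QuotientGroup.mk' (N.subgroupOf (normalizer (N : Set G)))
  have k : ∀ {x : normalizer (N : Set G)}, π x = 1 ↔ (x : G) ∈ N := QuotientGroup.eq_one_iff _
  have := PG.mul_pow_of_odd (x := π ⟨a, ha⟩) (y := π ⟨b, hb⟩) (n := p)
    (commutatorElement_eq_one_iff_commute.1 (by simp only [← map_commutatorElement]; exact k.2 h1))
    (commutatorElement_eq_one_iff_commute.1 (by simp only [← map_commutatorElement]; exact k.2 h2)) hp
    (by rw [← map_commutatorElement, ← map_pow]; exact k.2 h3)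
  refine (k (x := (⟨a, ha⟩ ^ p * ⟨b, hb⟩ ^ p)⁻¹ * (⟨a, ha⟩ * ⟨b, hb⟩) ^ p)).1 ?_
  simp only [map_mul, map_inv, map_pow, this, inv_mul_cancel]

theorem pow_mem_sup [N.Normal] (hc : ⁅A, B⁆ ≤ N) (hA : ∀ a ∈ A, a ^ p ∈ N) (hB : ∀ a ∈ B, a ^ p ∈ N)
    (hAA : ⁅A, A⁆ ≤ N) (hBB : ⁅B, B⁆ ≤ N) : ∀ y ∈ A ⊔ B, y ^ p ∈ N := fun y hy => by
  let π := QuotientGroup.mk' N
  have k : ∀ {X : Subgroup G}, (∀ a ∈ X, a ^ p ∈ N) → ∀ x ∈ X.map π, x ^ p = 1 := by
    rintro X h _ ⟨x, hx, rfl⟩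
    exact (QuotientGroup.eq_one_iff (x ^ p)).2 (h x hx)
  refine (QuotientGroup.eq_one_iff (y ^ p)).1 (PG.pow_eq_one_of_mem_sup (M := A.map π) (N := B.map π) ?_
    (k hA) (k hB) (map_sup A B π ▸ mem_map_of_mem π hy))
  rw [← Subgroup.map_sup, ← le_centralizer_iff_isMulCommutative, ← commutator_eq_bot_iff_le_centralizer,
    ← map_commutator, Subgroup.map_eq_bot_iff, QuotientGroup.ker_mk']
  exact sup_comm_le (comm_sup_le hAA hc) (comm_sup_le (comm_le_swap hc) hBB)

theorem pow_mem_zpowers {x : G} (h : x ^ p ∈ N) : ∀ y ∈ zpowers x, y ^ p ∈ N := by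
  rintro _ ⟨n, rfl⟩
  rw [← zpow_natCast, ← zpow_mul, mul_comm, zpow_mul, zpow_natCast]
  exact zpow_mem h n

theorem comm_zpowers_self {x : G} : ⁅zpowers x, zpowers x⁆ ≤ N :=
  (commutator_eq_bot_iff_le_centralizer.2 (le_centralizer _)).le.trans bot_le

/-- the Frattini subgroup of a subgroup -/
abbrev Ph (E : Subgroup G) : Subgroup G := (frattini E).map E.subtype

theorem Ph_le (E : Subgroup G) : Ph E ≤ E := map_subtype_le _

theorem relIndex_Ph (E : Subgroup G) : (Ph E).relIndex E = (frattini E).index := by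
  rw [relIndex, subgroupOf, comap_map_eq_self_of_injective E.subtype_injective]

theorem le_of_le_sup_Ph [Finite E] (hX : X ≤ E) (h : E ≤ X ⊔ Ph E) : E ≤ X := by
  have : X.subgroupOf E = ⊤ := frattini_nongenerating (map_injective E.subtype_injective (by
    rw [Subgroup.map_sup, map_subgroupOf_eq_of_le hX, ← MonoidHom.range_eq_map, range_subtype]
    exact (sup_le hX (Ph_le E)).antisymm h))
  exact subgroupOf_eq_top.1 this

variable [hp : Fact p.Prime]

theorem eq_sup_zpowers (hBA : B ≤ A) (h : B.relIndex A = p) {x : G} (hx : x ∈ A) (hxB : x ∉ B) :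
    B ⊔ zpowers x = A := PCyc.sup_zpowers_eq_of_relIndex_prime hp.out hBA h hx hxB

theorem top_eq_sup_zpowers (h : E.index = p) {x : G} (hx : x ∉ E) : E ⊔ zpowers x = ⊤ :=
  eq_sup_zpowers le_top (relIndex_top_right E ▸ h) trivial hx

theorem eq_or_eq (h : B.relIndex A = p) (h1 : B ≤ X) (h2 : X ≤ A) : X = B ∨ X = A := by
  by_cases h3 : X ≤ B
  · exact .inl (h3.antisymm h1)
  · obtain ⟨x, hx, hxB⟩ := SetLike.not_le_iff_exists.1 h3
    exact .inr (h2.antisymm ((eq_sup_zpowers (h1.trans h2) h (h2 hx) hxB).ge.trans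
      (sup_le h1 (zpowers_le_of_mem hx))))

theorem le_of_not_le (h : B.relIndex A = p) (h1 : B ≤ A) (h2 : B ≤ X) {x : G} (hx : x ∈ A) (hxB : x ∉ B)
    (hxX : x ∈ X) : A ≤ X := (eq_sup_zpowers h1 h hx hxB).ge.trans (sup_le h2 (zpowers_le_of_mem hxX))

theorem eq_top_of_not_mem (h : E.index = p) (h2 : E ≤ X) {x : G} (hx : x ∉ E) (hxX : x ∈ X) : X = ⊤ :=
  top_le_iff.1 (le_of_not_le (relIndex_top_right E ▸ h) le_top h2 trivial hx hxX)

theorem not_le_of_relIndex (h : B.relIndex A = p) : ¬ A ≤ B := fun e =>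
  hp.out.ne_one (h.symm.trans (relIndex_eq_one.2 e))

theorem exists_not_mem (h : B.relIndex A = p) : ∃ x ∈ A, x ∉ B :=
  SetLike.not_le_iff_exists.1 (not_le_of_relIndex h)

theorem eq_of_le_of_relIndex (h1 : B.relIndex A = p) (h2 : C.relIndex A = p) (h : B ≤ C) (hC : C ≤ A) : C = B :=
  (eq_or_eq h1 h hC).resolve_right fun e => not_le_of_relIndex h2 e.ge

theorem not_le_of_ne (hE : E.index = p) (hR : R.index = p) (h : E ≠ R) : ¬ E ≤ R := fun e =>
  h (eq_of_le_of_relIndex (relIndex_top_right E ▸ hE) (relIndex_top_right R ▸ hR) e le_top).symm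

theorem sup_eq_top (hE : E.index = p) (hR : R.index = p) (h : E ≠ R) : E ⊔ R = ⊤ :=
  have ⟨_, hx, hxE⟩ := SetLike.not_le_iff_exists.1 (not_le_of_ne hR hE h.symm)
  eq_top_of_not_mem hE le_sup_left hxE (mem_sup_right hx)

theorem mem_center_of (hE : E.index = p) {x z : G} (hx : x ∉ E) (h1 : z ∈ centralizer (E : Set G))
    (h2 : x * z = z * x) : z ∈ center G := mem_center_iff.2 fun g => mem_centralizer_singleton_iff.1
  ((eq_top_of_not_mem hE (fun y hy => mem_centralizer_singleton_iff.2 (h1 y hy)) hx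
    (mem_centralizer_singleton_iff.2 h2)).ge (mem_top g))

section
variable [Finite E] (hE : IsPGroup p E)
include hE

theorem Ph_le_iff : Ph E ≤ N ↔ ⁅E, E⁆ ≤ N ∧ ∀ g ∈ E, g ^ p ∈ N := PG.frattini_map_subtype_le_iff hE

theorem comm_le_Ph : ⁅E, E⁆ ≤ Ph E := PG.commutator_le_frattini_map hE

theorem pow_mem_Ph {g : G} (hg : g ∈ E) : g ^ p ∈ Ph E := PG.pow_mem_frattini_map hE hg

theorem SR.relIndex_Ph (h : SR p G) : (Ph E).relIndex E ≤ p ^ 3 := h _ _ (comm_le_Ph hE) fun _ => pow_mem_Ph hE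

theorem img_Ph {G' : Type*} [Group G'] {f : G → G'} (hf : IsHomOn E f) : img f (Ph E) = Ph (img f E) := by
  rw [← map_subgroupOf_eq_img (φ := hf.toHom) (fun _ => rfl) (Ph_le E), subgroupOf,
    comap_map_eq_self_of_injective E.subtype_injective, hf.img_eq_range, Ph,
    ← PG.frattini_map_eq_of_surjective hE _ hf.toHom.rangeRestrict_surjective, map_map]
  rfl

end

variable [Finite G] (hG : IsPGroup p G)
include hG

theorem relIndex_pow (B A : Subgroup G) : ∃ k, B.relIndex A = p ^ k := (hG.to_subgroup A).index _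

theorem le_relIndex (h : ¬ A ≤ B) : p ≤ B.relIndex A := by
  obtain ⟨_ | k, hk⟩ := relIndex_pow hG B A
  · exact absurd (relIndex_eq_one.1 hk) h
  · exact hk ▸ Nat.le_self_pow k.succ_ne_zero p

theorem relIndex_eq (h : B.relIndex A ≤ p) (h' : ¬ A ≤ B) : B.relIndex A = p := h.antisymm (le_relIndex hG h')

theorem relIndex_dvd (h : B.relIndex A ≤ p) : B.relIndex A ∣ p := by
  by_cases h' : A ≤ B
  · exact relIndex_eq_one.2 h' ▸ one_dvd p
  · exact (relIndex_eq hG h h').dvd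

theorem relIndex_le_left {k : ℕ} (h1 : B ≤ X) (h2 : X ≤ A) (h3 : ¬ A ≤ X) (h : B.relIndex A ≤ p ^ (k + 1)) :
    B.relIndex X ≤ p ^ k := by
  rw [← relIndex_mul_relIndex B X A h1 h2, pow_succ] at h
  exact Nat.le_of_mul_le_mul_right ((Nat.mul_le_mul_left _ (le_relIndex hG h3)).trans h) hp.out.pos

theorem relIndex_le_right {k : ℕ} (h1 : B ≤ X) (h2 : X ≤ A) (h3 : ¬ X ≤ B) (h : B.relIndex A ≤ p ^ (k + 1)) :
    X.relIndex A ≤ p ^ k := by
  rw [← relIndex_mul_relIndex B X A h1 h2, pow_succ'] at h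
  exact Nat.le_of_mul_le_mul_left ((Nat.mul_le_mul_right _ (le_relIndex hG h3)).trans h) hp.out.pos

theorem Ph_le_of_index (hE : E.index = p) (X : Subgroup G) : Ph X ≤ E :=
  (Ph_le_iff (hG.to_subgroup X)).2 ⟨(commutator_mono le_top le_top).trans
    (PG.commutator_le_coatom hG (PG.isCoatom_of_index_eq_prime hp.out hE)),
    fun g _ => PG.pow_mem_coatom hG (PG.isCoatom_of_index_eq_prime hp.out hE) g⟩

theorem comm_mem_of_index (hE : E.index = p) (x y : G) : ⁅x, y⁆ ∈ E :=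
  Ph_le_of_index hG hE ⊤ (comm_le_Ph (hG.to_subgroup ⊤) (commutator_mem_commutator trivial trivial))

theorem relIndex_of_not_le (hE : E.index = p) (h : ¬ X ≤ E) : E.relIndex X = p :=
  have := PG.normal_of_index_eq hG hE
  relIndex_eq hG (hE ▸ Nat.le_of_dvd (hE ▸ hp.out.pos) (relIndex_dvd_index_of_normal E X)) h

theorem relIndex_inf (hE : E.index = p) (hR : R.index = p) (h : E ≠ R) : (E ⊓ R).relIndex E = p := by
  rw [inf_comm, inf_relIndex_right]
  exact relIndex_of_not_le hG hR (not_le_of_ne hE hR h)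

theorem comm_top_le [A.Normal] [B.Normal] (h : B.relIndex A ≤ p) : ⁅A, (⊤ : Subgroup G)⁆ ≤ B := by
  have := PG.le_center_of_card_le (hG.to_quotient B) (A.map (QuotientGroup.mk' B)) (by
    rwa [← relIndex_ker, QuotientGroup.ker_mk'])
  refine le_trans ?_ (QuotientGroup.ker_mk' B).le
  rw [← Subgroup.map_eq_bot_iff, map_commutator, commutator_eq_bot_iff_le_centralizer]
  exact this.trans (center_le_centralizer _)

theorem not_le_comm_sup [A.Normal] [B.Normal] (h : ¬ A ≤ B) : ¬ A ≤ ⁅A, (⊤ : Subgroup G)⁆ ⊔ B := fun e => by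
  let π := QuotientGroup.mk' B
  obtain ⟨_ | k, hk⟩ := relIndex_pow hG B A
  · exact h (relIndex_eq_one.1 hk)
  have h1 : Nat.card (A.map π) = p ^ (k + 1) := by rw [← relIndex_ker, QuotientGroup.ker_mk', hk]
  have h2 := PG.card_commutator_top_le (hG.to_quotient B) (A.map π) h1.le
  have h3 : A.map π ≤ ⁅A.map π, ⊤⁆ := (map_mono e).trans (by
    rw [Subgroup.map_sup, map_commutator, (map_eq_bot_iff B).2 (QuotientGroup.ker_mk' B).ge, sup_bot_eq]
    exact commutator_mono le_rfl le_top)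
  exact (Nat.pow_lt_pow_right hp.out.one_lt k.lt_succ_self).not_ge
    (h1.ge.trans ((Subgroup.card_le_of_le h3).trans h2))

omit hp hG in
theorem relIndex_ce_le [N.Normal] {x : G} (h : ∀ a ∈ A, ⁅a, x⁆ ∈ B) : (ce x N).relIndex A ≤ N.relIndex B := by
  have h1 := PG.relIndex_centralizer_le_card (A.map (QuotientGroup.mk' N)) (B.map (QuotientGroup.mk' N))
    (QuotientGroup.mk' N x) (by
      rintro _ ⟨a, ha, rfl⟩
      exact map_commutatorElement (QuotientGroup.mk' N) a x ▸ mem_map_of_mem _ (h a ha))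
  rwa [← relIndex_ker, QuotientGroup.ker_mk', ← relIndex_comap] at h1

theorem not_sectional_two (hc : Nat.card G = p ^ 3) (na : ¬ IsMulCommutative G) : SectionalPRankLE p 2 G := by
  intro H N _ A hA _
  by_contra! h
  have h1 := (h.trans_le (card_le_card_group A)).trans_le (Nat.le_of_dvd Nat.card_pos (card_quotient_dvd_card N))
  obtain rfl : H = ⊤ := by_contra fun e => h1.not_ge (PG.card_le_pow_of_lt hG (lt_top_iff_ne_top.2 e)
    (card_top.trans hc).le)
  have hT := hG.to_subgroup ⊤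
  obtain rfl : N = ⊥ := by_contra fun e => (h.trans_le (card_le_card_group A)).not_ge (by
    simpa [index] using relIndex_le_right hT (B := ⊥) (X := N) (A := ⊤) (k := 2) bot_le le_top (le_bot_iff.not.2 e)
      (by simp [hc]))
  obtain rfl : A = ⊤ := by_contra fun e => h.not_ge (PG.card_le_pow_of_lt (hT.to_quotient ⊥)
    (lt_top_iff_ne_top.2 e) (card_top.le.trans ((Nat.le_of_dvd Nat.card_pos (card_quotient_dvd_card _)).trans
      (card_top.trans hc).le)))
  let e := (topEquiv.trans (QuotientGroup.quotientBot (G := (⊤ : Subgroup G)))).trans topEquiv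
  exact na (Function.Surjective.mul_comm (f := e.toMulHom) e.surjective hA)

end CL.SR3
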