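import Mathlib
import Cfsg.Agent.FUS.SR3Basic

/-!
# Local data `(E, A)`: a maximal subgroup `E` of a `p`-group with a group of automorphisms
-/

set_option autoImplicit false

namespace CL.SR3
open Subgroup Cfsg Cfsg.FusionSystem CL.Fus CL.TV CL.EssSm
open scoped commutatorElement

variable {Ω : Type*} [Group Ω] {p : ℕ} {N E V B L M M' X T : Subgroup Ω} {A : Subgroup (MulAut E)}

theorem autInv_of_forall (h : ∀ α ∈ A, ∀ y ∈ M, autFun α y ∈ M) : AutInv A M := fun α hα y _ hy => h α hα y hy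

theorem autInv_sup (hM : M ≤ E) (hM' : M' ≤ E) (h : AutInv A M) (h' : AutInv A M') : AutInv A (M ⊔ M') :=
  autInv_of_forall fun α hα => img_le_iff.1 (by
    rw [((isHomOn_autFun α).mono (sup_le hM hM')).img_sup]
    exact sup_le_sup (img_le_iff.2 fun y hy => h α hα y (hM hy) hy)
      (img_le_iff.2 fun y hy => h' α hα y (hM' hy) hy))

theorem autInv_comm (hM : M ≤ E) (hM' : M' ≤ E) (h : AutInv A M) (h' : AutInv A M') : AutInv A ⁅M, M'⁆ :=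
  autInv_of_forall fun α hα => img_le_iff.1 (by
    rw [(isHomOn_autFun α).img_commutator hM hM']
    exact commutator_mono (img_le_iff.2 fun y hy => h α hα y (hM hy) hy)
      (img_le_iff.2 fun y hy => h' α hα y (hM' hy) hy))

theorem autInv_cm [B.Normal] (hM : M ≤ E) (h : AutInv A M) (hB : AutInv A B) : AutInv A (cm M B) :=
  fun α hα y hy hc m hm => by
    have h1 := autFun_mem α⁻¹ (hM hm)
    rw [← autFun_autFun_inv α (hM hm), ← (isHomOn_autFun α).map_commutator h1 hy]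
    exact hB α hα _ (E.mul_mem (E.mul_mem (E.mul_mem h1 hy) (E.inv_mem h1)) (E.inv_mem hy))
      (hc _ (h _ (inv_mem hα) m (hM hm) hm))

theorem img_eq_of_autInv [Finite M] (hM : M ≤ E) (h : AutInv A M) {α : MulAut E} (hα : α ∈ A) :
    img (autFun α) M = M :=
  Subgroup.eq_of_le_of_card_ge (img_le_iff.2 fun y hy => h α hα y (hM hy) hy)
    (((isHomOn_autFun α).mono hM).card_img fun a ha b hb e => by
      rw [← autFun_inv_autFun α (hM ha), e, autFun_inv_autFun α (hM hb)]).ge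

theorem mem_iff_of_autInv (h : AutInv A M) {α : MulAut E} (hα : α ∈ A) {y : Ω} (hy : y ∈ E) :
    autFun α y ∈ M ↔ y ∈ M :=
  ⟨fun h' => autFun_inv_autFun α hy ▸ h _ (inv_mem hα) _ (autFun_mem α hy) h', h α hα y hy⟩

variable [hp : Fact p.Prime]

theorem autInv_Ph [Finite M] (hM : M ≤ E) (hP : IsPGroup p M) (h : AutInv A M) : AutInv A (Ph M) :=
  autInv_of_forall fun α hα => img_le_iff.1 (by
    rw [img_Ph hP ((isHomOn_autFun α).mono hM), img_eq_of_autInv hM h hα])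

theorem sylIn_map_hom {Γ H : Type*} [Group Γ] [Group H] {T A : Subgroup Γ} [Finite A] (h : SylIn p T A)
    (ρ : A →* H) : SylIn p ((T.subgroupOf A).map ρ) ρ.range :=
  ρ.range_eq_map ▸ (sylIn_top_iff.2 (sylIn_iff_exists_sylow.1 h).2).map ρ

/-- Structure of a section `V / B` on which `u` induces a transvection with axis `L`. -/
structure TvS (p : ℕ) (A : Subgroup (MulAut E)) (u : MulAut E) (V B L L₁ D : Subgroup Ω) : Prop where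
  le₁ : B ≤ L₁
  idx : B.relIndex L₁ = p
  comm : ∀ y ∈ V, y⁻¹ * autFun u y ∈ L₁
  leD : B ≤ D
  notLe : ¬ L₁ ≤ D
  sup : L₁ ⊔ D = L
  memD : ∀ y, y ∈ D ↔ y ∈ V ∧ ∀ k ∈ A, autFun k y ∈ L
  tor : ∀ a b : ℤ, (a : ZMod p) * b = 1 → ∃ w ∈ A, (∀ y ∈ L₁, (y ^ a)⁻¹ * autFun w y ∈ B) ∧
    (∀ y ∈ D, y⁻¹ * autFun w y ∈ B) ∧ (∀ y ∈ V, (y ^ b)⁻¹ * autFun w y ∈ L) ∧
    ∀ y ∈ V, (autFun (u ^ (a * a)) y)⁻¹ * autFun (w * u * w⁻¹) y ∈ B

omit hp in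
theorem exists_rep {W : Type*} [Group W] (hV : V ≤ E) (hVi : AutInv A V) (hBi : AutInv A B) {ψ : Ω → W}
    (hψ : IsHomOn V ψ) (hs : ∀ w, ∃ y ∈ V, ψ y = w) (hk : ∀ y ∈ V, ψ y = 1 ↔ y ∈ B) :
    ∃ ρ : A →* MulAut W, ∀ α : A, ∀ y ∈ V, ρ α (ψ y) = ψ (autFun α.1 y) := by
  obtain e : hψ.toHom.ker = B.subgroupOf V := Subgroup.ext fun y => hk y y.2
  have : (B.subgroupOf V).Normal := e ▸ inferInstance
  let ε := (QuotientGroup.quotientMulEquivOfEq e.symm).trans (QuotientGroup.quotientKerEquivOfSurjective _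
    fun w => have ⟨y, hy, h⟩ := hs w; ⟨⟨y, hy⟩, h⟩)
  refine ⟨(MulAut.congr ε).toMonoidHom.comp (secAut A hV hVi hBi), fun α y hy => ?_⟩
  change ε (secAut A hV hVi hBi α (ε.symm (ε (⟨y, hy⟩ : V)))) = _
  rw [ε.symm_apply_apply]
  rfl

omit hp in
theorem IsHomOn.eq_iff {W : Type*} [Group W] {ψ : Ω → W} (hψ : IsHomOn V ψ) (hk : ∀ y ∈ V, ψ y = 1 ↔ y ∈ B)
    {a b : Ω} (ha : a ∈ V) (hb : b ∈ V) : a⁻¹ * b ∈ B ↔ ψ b = ψ a := by
  rw [← hk _ (V.mul_mem (V.inv_mem ha) hb), hψ.map_mul (V.inv_mem ha) hb, hψ.map_inv ha, inv_mul_eq_one, eq_comm]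

omit hp in
theorem relIndex_eq_card_img {W : Type*} [Group W] {ψ : Ω → W} (hψ : IsHomOn V ψ)
    (hk : ∀ y ∈ V, ψ y = 1 ↔ y ∈ B) (hX : X ≤ V) : B.relIndex X = Nat.card (img ψ X) := by
  rw [(hψ.mono hX).img_eq_range, ← index_ker]
  exact congrArg index (Subgroup.ext fun y => (hk y (hX y.2)).symm)

universe u in
omit hp in
theorem exists_sec {Ω : Type u} [Group Ω] {V B : Subgroup Ω} (hc : ⁅V, V⁆ ≤ B) : ∃ (W : Type u) (_ : CommGroup W)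
    (ψ : Ω → W), IsHomOn V ψ ∧ (∀ w, ∃ y ∈ V, ψ y = w) ∧ ∀ y ∈ V, ψ y = 1 ↔ y ∈ B := by
  have hc' : _root_.commutator V ≤ B.subgroupOf V := fun x hx =>
    hc (map_subtype_commutator V ▸ mem_map_of_mem _ hx)
  have : (B.subgroupOf V).Normal := Subgroup.Normal.of_commutator_le _ hc'
  have := (Subgroup.Normal.quotient_commutative_iff_commutator_le).2 hc'
  exact ⟨V ⧸ B.subgroupOf V, { (inferInstance : Group _) with mul_comm := mul_comm' },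
    homFn (QuotientGroup.mk' _), isHomOn_homFn _, fun w =>
    have ⟨y, h⟩ := QuotientGroup.mk'_surjective _ w; ⟨y, y.2, (homFn_coe _ y).trans h⟩, fun y hy => by
      rw [homFn_of_mem _ hy]; exact QuotientGroup.eq_one_iff _⟩

universe u in
theorem exists_tvS {Ω : Type u} [Group Ω] {E V B L : Subgroup Ω} {A : Subgroup (MulAut E)} [Finite E]
    (hE : IsPGroup p E) {T : Subgroup (MulAut E)} (hT : SylIn p T A) {u : MulAut E}
    (hu : u ∈ T) (hV : V ≤ E) (hVi : AutInv A V) (hBi : AutInv A B) (hBL : B ≤ L) (hLV : L ≤ V)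
    (hc : ⁅V, V⁆ ≤ B) (hL : L.relIndex V = p) (h1 : ∀ y ∈ L, y⁻¹ * autFun u y ∈ B)
    (h2 : ¬ ∀ y ∈ V, y⁻¹ * autFun u y ∈ B)
    (hspe : ∀ {W : Type u} [Group W] (ψ : Ω → W) (ρ : A →* MulAut W), IsHomOn V ψ → (∀ y ∈ V, ψ y = 1 ↔ y ∈ B) →
      (∀ α : A, ∀ y ∈ V, ρ α (ψ y) = ψ (autFun α.1 y)) → (∀ α : A, ρ α = 1 ↔ ∀ y ∈ V, y⁻¹ * autFun α.1 y ∈ B) →
      ∃ H, RelSPE ⊥ ((T.subgroupOf A).map ρ) ρ.range H) :
    ((∀ y ∈ V, y⁻¹ * autFun (u ^ p) y ∈ B) ∧ ∀ t ∈ T, ∃ n : ℤ, ∀ y ∈ V, y⁻¹ * autFun ((u ^ n)⁻¹ * t) y ∈ B) ∧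
      ∃ L₁ D, TvS p A u V B L L₁ D := by
  have := finite_of_le hV
  obtain ⟨W, _, ψ, hψ, hs, hk⟩ := exists_sec hc
  have hsurj : Function.Surjective hψ.toHom := fun w => have ⟨y, hy, h⟩ := hs w; ⟨⟨y, hy⟩, h⟩
  have := Finite.of_surjective _ hsurj
  have hW : IsPGroup p W := (isPGroup_of_le hE hV).of_surjective _ hsurj
  obtain ⟨ρ, hρ⟩ := exists_rep hV hVi hBi hψ hs hk
  have hi : ∀ (α : A) {y}, y ∈ V → autFun α.1 y ∈ V := fun α y hy => hVi _ α.2 y (hV hy) hy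
  have hq : ∀ {a b}, a ∈ V → b ∈ V → (a⁻¹ * b ∈ B ↔ ψ b = ψ a) := IsHomOn.eq_iff hψ hk
  have hker : ∀ α : A, ρ α = 1 ↔ ∀ y ∈ V, y⁻¹ * autFun α.1 y ∈ B := fun α =>
    ⟨fun h y hy => (hq hy (hi α hy)).2 (by rw [← hρ α y hy, h]; rfl), fun h => MulEquiv.ext fun w => by
      obtain ⟨y, hy, rfl⟩ := hs w
      exact (hρ α y hy).trans ((hq hy (hi α hy)).1 (h y hy))⟩
  obtain ⟨H, hH⟩ := hspe ψ ρ hψ hk hρ hker
  have hT' := sylIn_map_hom hT ρ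
  obtain ⟨u, rfl⟩ : ∃ u' : A, u'.1 = u := ⟨⟨u, hT.le hu⟩, rfl⟩
  have ht : ρ u ∈ (T.subgroupOf A).map ρ := mem_map_of_mem _ hu
  have hL' : ∀ y ∈ V, ψ y ∈ img ψ L ↔ y ∈ L := fun y hy => ⟨fun h => by
    obtain ⟨x, hx, e⟩ := (hψ.mono hLV).mem_img.1 h
    simpa using L.mul_mem hx (hBL ((hq (hLV hx) hy).2 e.symm)), mem_img_of_mem ψ⟩
  obtain ⟨e, he⟩ := exists_isTv hW (τ := ρ u) (fun h => h2 ((hker _).1 h))
    (hT'.isPGroup.to_le (zpowers_le_of_mem ht)) (Z := img ψ L) (by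
      rw [← index_comap_of_surjective _ hsurj, ← hL]
      exact congrArg index (Subgroup.ext fun y => hL' y y.2)) fun z hz => by
      obtain ⟨y, hy, rfl⟩ := (hψ.mono hLV).mem_img.1 hz
      exact (hρ _ y (hLV hy)).trans ((hq (hLV hy) (hi u (hLV hy))).1 (h1 y hy))
  refine ⟨⟨(hker (u ^ p)).1 ((map_pow ρ u p).trans he.pow_self), fun t ht' => ?_⟩, ?_⟩
  · obtain ⟨n, hn⟩ := (TV.eq_zpowers hW hT' hH ht he).le (mem_map_of_mem ρ (x := ⟨t, hT.le ht'⟩) ht')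
    have := (hker ((u ^ n)⁻¹ * ⟨t, hT.le ht'⟩)).1 (by rw [map_mul, map_inv, map_zpow, inv_mul_eq_one]; exact hn)
    exact ⟨n, by simpa only [Subgroup.coe_mul, Subgroup.coe_inv, Subgroup.coe_zpow] using this⟩
  obtain ⟨_, ⟨g, rfl⟩, D, g1, g2, g3, g4, g5, -, g7⟩ := exists_structure hW hT' hH ht he
  obtain ⟨e, heV, rfl⟩ := hs e
  have hB : ∀ X : Subgroup W, B ≤ hψ.preim X := fun X y hy =>
    ⟨hLV (hBL hy), (hk y (hLV (hBL hy))).2 hy ▸ X.one_mem⟩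
  refine ⟨hψ.preim (zpowers (ψ e)), hψ.preim D, hB _, ?_, fun y hy => ?_, hB _, fun h => g2 (h ⟨heV,
    mem_zpowers _⟩).2, le_antisymm (sup_le (fun y hy => (hL' y hy.1).1 (zpowers_le_of_mem he.mem hy.2))
      fun y hy => (hL' y hy.1).1 (g3 hy.2)) fun z hz => ?_, fun y => ?_, fun a b hab => ?_⟩
  · rw [relIndex_eq_card_img hψ hk (hψ.preim_le _), hψ.img_preim, inf_eq_right.2 fun w _ =>
      have ⟨_, hy, e⟩ := hs w; e ▸ mem_img_of_mem ψ hy, he.card_zpowers]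
  · have h3 := V.mul_mem (V.inv_mem hy) (hi u hy)
    refine ⟨h3, ?_⟩
    rw [hψ.map_mul (V.inv_mem hy) (hi u hy), hψ.map_inv hy, ← hρ u y hy]
    exact he.comm _
  · obtain ⟨n, hn⟩ := g5 _ (mem_img_of_mem ψ hz)
    have h3 := zpow_mem heV n
    rw [← mul_inv_cancel_right z (e ^ n)]
    exact mul_mem (mem_sup_right ⟨V.mul_mem (hLV hz) h3, by rwa [hψ.map_mul (hLV hz) h3, hψ.map_zpow heV]⟩)
      (mem_sup_left (inv_mem ⟨h3, hψ.map_zpow heV n ▸ zpow_mem_zpowers _ n⟩))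
  · refine and_congr_right fun hy => (g4 _).trans ⟨fun h k hk => (hL' _ (hi ⟨k, hk⟩ hy)).1 ?_, ?_⟩
    · exact hρ ⟨k, hk⟩ y hy ▸ h _ ⟨_, rfl⟩
    · rintro h _ ⟨k, rfl⟩
      exact hρ k y hy ▸ mem_img_of_mem ψ (h k k.2)
  obtain ⟨w, hw, w1, w2, w3, w4⟩ := g7 a b hab
  obtain ⟨w, rfl⟩ := closure_pair_le' (hT'.le ht) ⟨g, rfl⟩ hw
  have w5 : ∀ y ∈ zpowers (ψ e), ρ w y = y ^ a := by
    rintro _ ⟨n, rfl⟩
    rw [map_zpow, w1, ← zpow_mul, ← zpow_mul, mul_comm]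
  refine ⟨w, w.2, fun y hy => (hq (zpow_mem hy.1 a) (hi w hy.1)).2 ?_,
    fun y hy => (hq hy.1 (hi w hy.1)).2 ((hρ w y hy.1).symm.trans (w3 _ hy.2)), fun y hy => ?_, fun y hy => ?_⟩
  · rw [← hρ w y hy.1, w5 _ hy.2, hψ.map_zpow hy.1]
  · have h3 := V.inv_mem (zpow_mem hy b)
    rw [← hL' _ (V.mul_mem h3 (hi w hy)), hψ.map_mul h3 (hi w hy), hψ.map_inv (zpow_mem hy b), hψ.map_zpow hy,
      ← hρ w y hy]
    obtain ⟨n, hn⟩ := he.exists_mul_zpow g1 (ψ y)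
    obtain ⟨m, hm⟩ := g5 _ hn
    have h4 := w3 _ hm
    rw [map_mul, map_mul, map_zpow, map_zpow, w1, w2] at h4
    rw [eq_mul_inv_of_mul_eq (eq_mul_inv_of_mul_eq h4)]
    convert mul_mem (mul_mem (zpow_mem hn (1 - b)) (zpow_mem he.mem m))
      (inv_mem (zpow_mem (zpow_mem he.mem a) m)) using 1
    rw [mul_zpow, ← zpow_mul, ← zpow_mul, ← zpow_mul, mul_sub, zpow_sub, zpow_sub, zpow_one, mul_one, mul_comm n b]
    simp only [mul_comm, mul_left_comm, mul_assoc]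
  · refine (hq (hi (u ^ (a * a)) hy) (hi (w * u * w⁻¹) hy)).2 ?_
    rw [← map_inv, ← map_mul, ← map_mul, ← map_zpow] at w4
    rw [← hρ _ y hy, ← hρ _ y hy, w4]

omit hp in
theorem relSPE_map {Γ Q : Type*} [Group Γ] [Group Q] {I T A H : Subgroup Γ} (h : RelSPE I T A H) (hT : T ≤ A)
    (ρ : A →* Q) (hk : ∀ α : A, ρ α = 1 ↔ α.1 ∈ I) :
    RelSPE ⊥ ((T.subgroupOf A).map ρ) ρ.range ((H.subgroupOf A).map ρ) := by
  have key : ∀ {K : Subgroup Γ}, I ≤ K → ∀ α : A, ρ α ∈ (K.subgroupOf A).map ρ ↔ α.1 ∈ K := fun {K} hK α =>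
    ⟨fun ⟨β, hβ, e⟩ => by simpa using K.mul_mem hβ (hK ((hk (β⁻¹ * α)).1 (by simp [e]))), fun h => ⟨α, h, rfl⟩⟩
  obtain ⟨t, ht, htI⟩ := SetLike.exists_of_lt h.1
  obtain ⟨g, hg, hgH⟩ := SetLike.exists_of_lt h.2.1
  refine ⟨bot_lt_iff_ne_bot.2 fun e => htI ((hk ⟨t, hT ht⟩).1 (e.le (mem_map_of_mem ρ ht))),
    lt_of_le_of_ne (map_le_range _ _) fun e => hgH ((key (h.1.le.trans (h.le hT)) ⟨g, hg⟩).1 (e.ge ⟨_, rfl⟩)),
    fun X h1 h2 => ?_⟩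
  rintro _ ⟨⟨γ, rfl⟩, hγ⟩
  refine mem_map_of_mem ρ (h.2.2 ((X.comap ρ).map A.subtype) (lt_of_le_of_ne (fun α hα =>
    ⟨⟨α, hT (h.1.le hα)⟩, by rw [SetLike.mem_coe, mem_comap, (hk _).2 hα]; exact one_mem _, rfl⟩) fun e =>
      h1.ne' (eq_bot_iff.2 fun x hx => ?_)) ?_ ⟨γ.2, mem_normalizer_iff.2 fun α => ⟨?_, ?_⟩⟩)
  · obtain ⟨α, -, rfl⟩ := h2 hx
    exact (hk α).2 (e.ge ⟨α, hx, rfl⟩)
  · rintro _ ⟨α, hα, rfl⟩
    exact (key h.1.le α).1 (h2 hα)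
  · rintro ⟨α, hα, rfl⟩
    exact ⟨γ * α * γ⁻¹, by simpa using (mem_normalizer_iff.1 hγ _).1 hα, rfl⟩
  · rintro ⟨β, hβ, e⟩
    exact ⟨γ⁻¹ * β * γ, by simpa using (mem_normalizer_iff''.1 hγ _).1 hβ, by
      simp [show (β : Γ) = _ from e, mul_assoc]⟩

/-- `E` has index `p` in the `p`-group `N`, `Aut_N(E)` is a non-normal Sylow subgroup of `A = O^{p'}(A)`. -/
structure Loc (p : ℕ) (N E : Subgroup Ω) (A : Subgroup (MulAut E)) : Prop where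
  pg : IsPGroup p N
  le : E ≤ N
  idx : E.relIndex N = p
  syl : SylIn p (autInducedBy N E) A
  nn : ¬ A ≤ normalizer (autInducedBy N E : Set (MulAut E))
  gen : ∀ H : Subgroup (MulAut E), autInducedBy N E ≤ H → (∀ γ ∈ A, ∀ α ∈ H, γ * α * γ⁻¹ ∈ H) → A ≤ H

namespace Loc
variable [Finite N] (h : Loc p N E A) {x : Ω}
include h

omit hp [Finite N] in
theorem pgE : IsPGroup p E := isPGroup_of_le h.pg h.le

theorem norm : N ≤ normalizer (E : Set Ω) :=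
  (normal_subgroupOf_iff_le_normalizer h.le).1 (PG.normal_of_index_eq h.pg h.idx)

theorem pow_mem (hx : x ∈ N) : x ^ p ∈ E :=
  PG.pow_mem_coatom h.pg (PG.isCoatom_of_index_eq_prime hp.out h.idx) ⟨x, hx⟩

theorem cj_mem (hx : x ∈ N) : cjAut E x (h.norm hx) ∈ A := h.syl.le (cjAut_mem_autInducedBy hx _)

theorem cj_mem_of_inv (hM : AutInv A M) (hx : x ∈ N) {y : Ω} (hy : y ∈ E) (hyM : y ∈ M) : cj x y ∈ M :=
  autFun_cjAut (h.norm hx) hy ▸ hM _ (h.cj_mem hx) y hy hyM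

theorem le_normalizer (hME : M ≤ E) (hM : AutInv A M) : N ≤ normalizer (M : Set Ω) :=
  have := finite_of_le (hME.trans h.le)
  fun _ hx => mem_normalizer_of_cj_mem fun _ hy => h.cj_mem_of_inv hM hx (hME hy) hy

theorem le_of_mem (hx : x ∈ N) (hxE : x ∉ E) {H : Subgroup (MulAut E)} (h1 : Inn E ≤ H)
    (h2 : cjAut E x (h.norm hx) ∈ H) : autInducedBy N E ≤ H := fun t ht => by
  obtain ⟨g, hg, hn, rfl⟩ := mem_autInducedBy_iff_cjAut.1 ht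
  obtain ⟨_, hz, rfl⟩ := le_of_not_le (X := (H.comap E.normalizerMonoidHom).map (normalizer (E : Set Ω)).subtype)
    h.idx h.le (fun y hy => ⟨⟨y, Subgroup.le_normalizer hy⟩, h1 (inn_eq_autInducedBy E ▸
      cjAut_mem_autInducedBy hy _), rfl⟩) hx hxE ⟨⟨x, h.norm hx⟩, h2, rfl⟩ hg
  exact hz

theorem not_mem_pCore (hx : x ∈ N) (hxE : x ∉ E) : cjAut E x (h.norm hx) ∉ (pCore p A).map A.subtype := fun e =>
  h.nn ((h.le_of_mem hx hxE (le_map_pCore ((inn_le_autInducedBy h.le).trans h.syl.le)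
    (le_top.trans (normalizer_eq_top (Inn E)).ge) (isPGroup_inn h.pgE)) e).antisymm h.syl.map_pCore_le ▸
      le_normalizer_map_pCore A)

theorem rad : (pCore p A).map A.subtype = Inn E :=
  le_antisymm (fun t ht => by
    obtain ⟨g, hg, hn, rfl⟩ := mem_autInducedBy_iff_cjAut.1 (h.syl.map_pCore_le ht)
    exact inn_eq_autInducedBy E ▸ cjAut_mem_autInducedBy (by_contra fun e => h.not_mem_pCore hg e ht) hn)
    (le_map_pCore ((inn_le_autInducedBy h.le).trans h.syl.le) (le_top.trans (normalizer_eq_top (Inn E)).ge)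
      (isPGroup_inn h.pgE))

theorem toRad (hx : x ∈ N) (hxE : x ∉ E) : Rad p A (cjAut E x (h.norm hx)) :=
  ⟨h.pgE, h.cj_mem hx, isPGroup_zpowers_cjAut h.pg hx _, h.rad ▸ h.not_mem_pCore hx hxE, h.rad⟩

theorem cent (hx : x ∈ N) (hc : x ∈ centralizer (E : Set Ω)) : x ∈ E := by_contra fun e =>
  h.not_mem_pCore hx e ((cjAut_eq_one_iff _).2 hc ▸ one_mem _)

theorem mem_inn {β : MulAut E} (hβ : β ∈ A) (hc : Relation.ReflTransGen (StabStep p A β) ⊥ E) : β ∈ Inn E :=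
  have := finite_of_le h.le
  h.rad ▸ mem_pCore_of_chain h.pgE hβ le_rfl hc

theorem mem_inn₂ {β : MulAut E} (hβ : β ∈ A) (hM : AutInv A M) (h1 : ∀ y ∈ E, y ∈ M → autFun β y = y)
    (h2 : ∀ y ∈ E, y⁻¹ * autFun β y ∈ M) : β ∈ Inn E :=
  h.mem_inn hβ (.tail (.single (.inl ⟨autInv_bot A, hM, fun y hy hM => by simp [h1 y hy hM]⟩))
    (.inl ⟨hM, autInv_of_le A le_rfl, fun y hy _ => h2 y hy⟩))

theorem mem_inn_Ph {β : MulAut E} (hβ : β ∈ A) (h1 : Ph E ≤ M) (h2 : M ≤ M') (hM : AutInv A M)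
    (hM' : AutInv A M') (t1 : ∀ y ∈ E, y ∈ M → y⁻¹ * autFun β y ∈ Ph E)
    (t2 : ∀ y ∈ E, y ∈ M' → y⁻¹ * autFun β y ∈ M) (t3 : ∀ y ∈ E, y⁻¹ * autFun β y ∈ M') : β ∈ Inn E := by
  have := finite_of_le h.le
  obtain ⟨x, hx, hxE⟩ := exists_not_mem h.idx
  have k : ∀ {M}, AutInv A M → Inv A (M.subgroupOf E) := fun hM g a ha =>
    mem_subgroupOf.2 (autFun_coe g.1 a ▸ hM g g.2 a a.2 ha)
  refine (h.toRad hx hxE).mem_inn (map_le_iff_le_comap.1 h1) (comap_mono h2) (k hM) (k hM') hβ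
    (fun y hy => ?_) (fun y hy => ?_) fun y => ?_
  · exact (mem_map_iff_mem E.subtype_injective).1 (autFun_coe β y ▸ t1 y y.2 hy :)
  · exact mem_subgroupOf.2 (autFun_coe β y ▸ t2 y y.2 hy :)
  · exact mem_subgroupOf.2 (autFun_coe β y ▸ t3 y y.2 :)

omit hp [Finite N] in
theorem triv (hM : AutInv A M) (hM' : AutInv A M') (ht : ∀ g ∈ N, ∀ y ∈ E, y ∈ M' → y⁻¹ * cj g y ∈ M) :
    ∀ α ∈ A, ∀ y ∈ E, y ∈ M' → y⁻¹ * autFun α y ∈ M := fun _ hα =>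
  (h.gen (stabPair A M M' hM') (fun t ht' => ⟨h.syl.le ht', fun y hy hyM => by
    obtain ⟨g, hg, e⟩ := mem_autInducedBy_iff.1 ht'
    exact e hy ▸ ht g hg y hy hyM⟩) (fun _ hγ _ hα => conj_mem_stabPair hM hM' hα hγ) hα).2

omit hp [Finite N] in
theorem autInv_of_triv (hM : AutInv A M) (hM' : AutInv A M') (ht : ∀ g ∈ N, ∀ y ∈ E, y ∈ M' → y⁻¹ * cj g y ∈ M)
    (h1 : M ≤ X) (h2 : X ≤ M') : AutInv A X := fun α hα y hy hX => by
  simpa using X.mul_mem hX (h1 (h.triv hM hM' ht α hα y hy (h2 hX)))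

theorem exists_cent (hT : T ≤ E) (hTi : AutInv A T) (ht : ∀ g ∈ N, ∀ y ∈ T, y⁻¹ * cj g y ∈ Ph T) :
    ∃ y ∈ E, y ∈ centralizer (T : Set Ω) ∧ y ∉ T := by
  by_contra! H
  have := finite_of_le (hT.trans h.le)
  have hp := isPGroup_of_le h.pgE hT
  obtain ⟨x, hx, hxE⟩ := exists_not_mem h.idx
  refine h.not_mem_pCore hx hxE (h.rad ▸ h.mem_inn (h.cj_mem hx) (.tail (b := T) (.single (.inr
    fun α hα hc _ y _ hy => ?_)) (.inr fun α hα hc h1 y hy _ => autFun_eq_of_coprime h.pgE hc h1 hy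
      (H _ (E.mul_mem (E.inv_mem hy) (autFun_mem α hy)) fun t ht => ?_))))
  · obtain ⟨β, h1, h2⟩ := exists_resAut hT α fun y hy => hTi α hα y (hT hy) hy
    rw [← h2 hy, MC.eq_one_of_frattini hp (hc.of_dvd_left h1) fun z => ?_, autFun_one hy]
    have := h.triv (autInv_Ph hT hp hTi) hTi (fun g hg y _ => ht g hg y) α hα z (hT z.2) z.2
    rw [← h2 z.2, autFun_coe] at this
    exact (mem_map_iff_mem T.subtype_injective).1 this
  · have h2 := (isHomOn_autFun α).map_cj hy (hT ht)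
    rw [h1 t (hT ht) ht, h1 _ (Fus.cj_mem hy (hT ht)) (h.cj_mem_of_inv hTi (h.le hy) (hT ht) ht)] at h2
    rw [eq_comm, ← cj_eq_self_iff, cj_mul, ← h2, cj_inv_cj]

theorem triv' (hx : x ∈ N) (hxE : x ∉ E) (hM' : AutInv A M')
    (h1 : ∀ g ∈ E, ∀ y ∈ E, y ∈ M' → y⁻¹ * cj g y ∈ M) (h2 : ∀ y ∈ E, y ∈ M' → y⁻¹ * cj x y ∈ M) :
    ∀ g ∈ N, ∀ y ∈ E, y ∈ M' → y⁻¹ * cj g y ∈ M := fun _ hg y hy hyM =>
  autFun_cjAut (h.norm hg) hy ▸ (h.le_of_mem hx hxE (H := stabPair A M M' hM') (fun _ ht => ⟨h.syl.le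
    (inn_le_autInducedBy h.le ht), fun y hy hyM => have ⟨g, hg, e⟩ := mem_inn_iff.1 ht; e hy ▸ h1 g hg y hy hyM⟩)
    ⟨h.cj_mem hx, fun y hy hyM => autFun_cjAut (h.norm hx) hy ▸ h2 y hy hyM⟩ (cjAut_mem_autInducedBy hg _)).2 y hy hyM

theorem tvS (hx : x ∈ N) (hxE : x ∉ E) (hV : V ≤ E) (hVi : AutInv A V) (hBi : AutInv A B) (hBL : B ≤ L)
    (hLV : L ≤ V) (hc : ∀ g ∈ E, ∀ y ∈ V, y⁻¹ * cj g y ∈ B) (hL : L.relIndex V = p)
    (h1 : ∀ y ∈ L, y⁻¹ * cj x y ∈ B) (h2 : ¬ AutInv A L) :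
    ∃ L₁ D, TvS p A (cjAut E x (h.norm hx)) V B L L₁ D := by
  have := finite_of_le h.le
  have hu : ∀ {y}, y ∈ V → autFun (cjAut E x (h.norm hx)) y = cj x y := fun hy => autFun_cjAut _ (hV hy)
  have h3 : ¬ ∀ y ∈ V, y⁻¹ * autFun (cjAut E x (h.norm hx)) y ∈ B := fun e => h2 (h.autInv_of_triv hBi hVi
    (h.triv' hx hxE hVi (fun g hg y _ => hc g hg y) fun y _ hy => hu hy ▸ e y hy) hBL hLV)
  refine (exists_tvS h.pgE h.syl (cjAut_mem_autInducedBy hx _) hV hVi hBi hBL hLV (commutator_le.2 fun a ha b hb => by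
    simpa [cj, commutatorElement_def, mul_assoc] using hc b⁻¹⁻¹ (inv_mem (inv_mem (hV hb))) a⁻¹ (inv_mem ha)) hL
    (fun y hy => hu (hLV hy) ▸ h1 y hy) h3 fun ψ ρ hψ hk hρ hker => ?_).2
  set u : A := ⟨_, h.cj_mem hx⟩ with hu'
  have hI : ∀ α : A, α.1 ∈ Inn E → ρ α = 1 := fun α hα => (hker α).2 fun y hy =>
    have ⟨g, hg, e⟩ := mem_inn_iff.1 hα; e (hV hy) ▸ hc g hg y hy
  have e1 : ((autInducedBy N E).subgroupOf A).map ρ = zpowers (ρ u) := le_antisymm (by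
    rintro _ ⟨t, ht, rfl⟩
    obtain ⟨s, hs, e⟩ := h.le_of_mem hx hxE (H := ((zpowers (ρ u)).comap ρ).map A.subtype) (fun t ht => ⟨⟨t, h.syl.le
      (inn_le_autInducedBy h.le ht)⟩, by rw [SetLike.mem_coe, mem_comap, hI ⟨t, _⟩ ht]; exact one_mem _, rfl⟩)
      ⟨u, mem_zpowers _, rfl⟩ ht
    exact (Subtype.ext e : s = t) ▸ hs) (zpowers_le_of_mem (mem_map_of_mem ρ (cjAut_mem_autInducedBy hx _)))
  have e2 : ρ u ≠ 1 := fun e => h3 ((hker u).1 e)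
  have e3 : (⊥ : Subgroup _).relIndex (zpowers (ρ u)) = p := by
    rw [relIndex_bot_left, Nat.card_zpowers, orderOf_eq_prime ((map_pow ρ u p).symm.trans (hI _ ?_)) e2]
    exact inn_eq_autInducedBy E ▸ (cjAut_pow (h.norm hx) p ▸ cjAut_mem_autInducedBy (h.pow_mem hx) _ :)
  rw [e1]
  refine ⟨normalizerIn ρ.range (zpowers (ρ u)), ⟨bot_lt_iff_ne_bot.2 (zpowers_ne_bot.2 e2),
    lt_of_le_of_ne (normalizerIn_le _ _) fun e => h2 (autInv_of_forall fun γ hγ y hy => ?_), fun X h4 h5 =>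
      ((eq_or_eq e3 bot_le h5).resolve_left h4.ne') ▸ le_rfl⟩⟩
  have hq : ∀ {y}, y ∈ V → (ψ y ∈ fixAut (ρ u) ↔ y⁻¹ * autFun u.1 y ∈ B) := fun hy => by
    rw [mem_fixAut, hρ u _ hy, IsHomOn.eq_iff hψ hk hy (hVi _ u.2 _ (hV hy) hy)]
  have e4 := (eq_or_eq hL (X := hψ.preim (fixAut (ρ u))) (fun y hy => ⟨hLV hy, (hq (hLV hy)).2
    (hu (hLV hy) ▸ h1 y hy)⟩) (hψ.preim_le _)).resolve_right fun e => h3 fun y hy => (hq hy).1 (e.ge hy).2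
  obtain ⟨n, hn⟩ := (mem_normalizer_iff''.1 (e.ge ⟨⟨γ, hγ⟩, rfl⟩).2 _).1 (mem_zpowers (ρ u))
  refine e4.le ⟨hVi γ hγ y (hV (hLV hy)) (hLV hy), ?_⟩
  have e5 : (ρ u ^ n) (ψ y) = ψ y := 
    zpow_mem (show ρ u ∈ MulAction.stabilizer (MulAut _) (ψ y) from mem_fixAut.1 (e4.ge hy).2) n
  rw [← hρ ⟨γ, hγ⟩ y (hLV hy), mem_fixAut, ← MulAut.mul_apply, ← mul_inv_cancel_left (ρ ⟨γ, hγ⟩) (_ * _),
    MulAut.mul_apply, ← mul_assoc, ← hn, e5]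

end Loc

section op
variable {Γ : Type*} [Group Γ] {A T : Subgroup Γ}

/-- the subgroup generated by the `A`-conjugates of `T` -/
def opA (A T : Subgroup Γ) : Subgroup Γ := closure {γ | ∃ g ∈ A, ∃ t ∈ T, γ = g * t * g⁻¹}

omit hp in
theorem opA_le (h : T ≤ A) : opA A T ≤ A := (closure_le _).2 (by
  rintro _ ⟨g, hg, t, ht, rfl⟩; exact Fus.cj_mem hg (h ht))

omit hp in
theorem conj_mem_opA {g t : Γ} (hg : g ∈ A) (ht : t ∈ T) : g * t * g⁻¹ ∈ opA A T := subset_closure ⟨g, hg, t, ht, rfl⟩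

omit hp in
theorem le_opA : T ≤ opA A T := fun t ht => by simpa using conj_mem_opA A.one_mem ht

omit hp in
theorem map_opA {Γ' : Type*} [Group Γ'] (f : Γ →* Γ') : (opA A T).map f = opA (A.map f) (T.map f) := by
  rw [opA, MonoidHom.map_closure]
  refine congrArg Subgroup.closure (Set.ext fun x => ⟨?_, ?_⟩)
  · rintro ⟨_, ⟨g, hg, t, ht, rfl⟩, rfl⟩
    exact ⟨_, mem_map_of_mem f hg, _, mem_map_of_mem f ht, by simp⟩
  · rintro ⟨_, ⟨g, hg, rfl⟩, _, ⟨t, ht, rfl⟩, rfl⟩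
    exact ⟨_, ⟨g, hg, t, ht, rfl⟩, by simp⟩

omit hp in
theorem le_normalizer_opA [Finite A] (h : T ≤ A) : A ≤ normalizer (opA A T : Set Γ) := fun g hg =>
  have := finite_of_le (opA_le h)
  mem_normalizer_of_cj_mem fun x hx => (closure_le (K := (opA A T).comap (MulAut.conj g).toMonoidHom)).2 (by
    rintro _ ⟨k, hk, t, ht, rfl⟩
    simpa [mul_assoc] using conj_mem_opA (A.mul_mem hg hk) ht) hx

theorem exists_opA_mul [Finite A] (h : SylIn p T A) {α : Γ} (hα : α ∈ A) :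
    ∃ κ ∈ opA A T, κ * α ∈ normalizer (T : Set Γ) :=
  have := finite_of_le (opA_le h.le)
  (h.of_le le_opA (opA_le h.le)).frattini (le_normalizer_opA h.le hα)

end op

theorem Loc.of [Finite N] (pg : IsPGroup p N) (le : E ≤ N) (idx : E.relIndex N = p)
    (syl : SylIn p (autInducedBy N E) A) (nn : ¬ A ≤ normalizer (autInducedBy N E : Set (MulAut E))) :
    Loc p N E (opA A (autInducedBy N E)) := by
  have := finite_of_le le
  have h := syl.of_le le_opA (opA_le syl.le)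
  have k : ∀ g t, t ∈ autInducedBy N E → IsPGroup p (zpowers (g * t * g⁻¹)) := fun g t ht =>
    have ⟨k, hk⟩ := isPGroup_zpowers_iff.1 (syl.isPGroup.to_le (zpowers_le_of_mem ht))
    Fus.isPGroup_zpowers_of_pow_eq_one (k := k) (by rw [conj_pow, hk]; simp)
  refine ⟨pg, le, idx, h, fun e => nn fun g hg => mem_normalizer_of_cj_mem fun t ht => h.le_of_le_normalizer'
    (zpowers_le_of_mem (conj_mem_opA hg ht)) (k g t ht) (zpowers_le_of_mem (e (conj_mem_opA hg ht)))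
    (mem_zpowers _), fun H h1 h2 => (closure_le _).2 ?_⟩
  rintro _ ⟨g, hg, t, ht, rfl⟩
  obtain ⟨b, hb, h3⟩ := h.exists_conj_le (zpowers_le_of_mem (conj_mem_opA hg ht)) (k g t ht)
  simpa [mul_assoc] using h2 _ (inv_mem hb) _ (h1 (h3 _ (mem_zpowers _)))

section push
variable {Ω' : Type*} [Group Ω'] {φ : Ω → Ω'} {N' E' : Subgroup Ω'}

/-- the automorphisms of `E'` induced by `A` along `φ` -/
def push (A : Subgroup (MulAut E)) (φ : Ω → Ω') (E' : Subgroup Ω') (h : img φ E = E') : Subgroup (MulAut E') where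
  carrier := {β | ∃ α ∈ A, ∀ y ∈ E, autFun β (φ y) = φ (autFun α y)}
  one_mem' := ⟨1, A.one_mem, fun y hy => by rw [autFun_one hy, autFun_one (h ▸ mem_img_of_mem φ hy)]⟩
  mul_mem' := fun ⟨α, hα, e⟩ ⟨α', hα', e'⟩ => ⟨α * α', A.mul_mem hα hα', fun y hy => by
    rw [autFun_mul _ _ hy, autFun_mul _ _ (h ▸ mem_img_of_mem φ hy), e' y hy, e _ (autFun_mem α' hy)]⟩
  inv_mem' := fun {β} ⟨α, hα, e⟩ => ⟨α⁻¹, A.inv_mem hα, fun y hy => by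
    rw [← autFun_inv_autFun β (x := φ (autFun α⁻¹ y)) (h ▸ mem_img_of_mem φ (autFun_mem α⁻¹ hy)),
      e _ (autFun_mem α⁻¹ hy), autFun_autFun_inv α hy]⟩

omit hp in
theorem autInv_push (hφ : IsHomOn E φ) (h : img φ E = E') (hM : M ≤ E) (hi : AutInv A M) :
    AutInv (push A φ E' h) (img φ M) := by
  rintro β ⟨α, hα, e⟩ _ - hz
  obtain ⟨y, hy, rfl⟩ := (hφ.mono hM).mem_img.1 hz
  exact e y (hM hy) ▸ mem_img_of_mem φ (hi α hα y (hM hy) hy)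

variable (hφ : IsHomOn E φ) (h : img φ E = E') (hk : ∀ y ∈ E, φ y = 1 ↔ y ∈ T) (hT : AutInv A T)
include hφ hk hT

omit hp in
theorem exists_push : ∃ ρ : A →* MulAut E', ρ.range = push A φ E' h ∧
    ∀ α : A, ∀ y ∈ E, autFun (ρ α) (φ y) = φ (autFun α.1 y) := by
  subst h
  obtain ⟨ρ, hρ⟩ := exists_rep (W := img φ E) le_rfl (autInv_of_le A le_rfl) hT
    (isHomOn_homFn (hφ.toHom.codRestrict (img φ E) fun y => mem_img_of_mem φ y.2)) (fun w =>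
      have ⟨y, hy, e⟩ := hφ.mem_img.1 w.2; ⟨y, hy, (homFn_of_mem _ hy).trans (Subtype.ext e)⟩) fun y hy => by
      rw [homFn_of_mem _ hy, Subtype.ext_iff]; exact hk y hy
  have key : ∀ α : A, ∀ y ∈ E, autFun (ρ α) (φ y) = φ (autFun α.1 y) := fun α y hy => by
    have := hρ α y hy
    rw [homFn_of_mem _ hy, homFn_of_mem _ (autFun_mem α.1 hy)] at this
    exact (autFun_of_mem _ (mem_img_of_mem φ hy)).trans (congrArg Subtype.val this)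
  refine ⟨ρ, le_antisymm (by rintro _ ⟨α, rfl⟩; exact ⟨α, α.2, key α⟩) fun β ⟨α, hα, e⟩ => ⟨⟨α, hα⟩,
    mulAut_ext_autFun fun z hz => ?_⟩, key⟩
  obtain ⟨y, hy, rfl⟩ := hφ.mem_img.1 hz
  rw [key _ y hy, e y hy]

omit hp in
theorem autInv_of_push {M' : Subgroup Ω'} (hi : AutInv (push A φ E' h) M') (hM : ∀ y ∈ E, y ∈ M ↔ φ y ∈ M') :
    AutInv A M := fun α hα y hy hyM => by
  obtain ⟨ρ, h1, h2⟩ := exists_push hφ h hk hT
  rw [hM _ (autFun_mem α hy), ← h2 ⟨α, hα⟩ y hy]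
  exact hi _ (h1.le ⟨_, rfl⟩) _ (h ▸ mem_img_of_mem φ hy) ((hM y hy).1 hyM)

end push

theorem Loc.push [Finite N] (hL : Loc p N E A) {Ω' : Type*} [Group Ω'] {φ : Ω → Ω'} {N' E' : Subgroup Ω'}
    (hφ : IsHomOn N φ) (hN : img φ N = N') (h : img φ E = E') (hk : ∀ y ∈ N, φ y = 1 ↔ y ∈ T) (hTE : T ≤ E)
    (hT : AutInv A T) (good : ¬ ∀ α ∈ A, ∃ g ∈ N, ∀ y ∈ E, (cj g y)⁻¹ * autFun α y ∈ T) :
    Loc p N' E' (push A φ E' h) := by
  have := finite_of_le hL.le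
  have hφ' := hφ.mono hL.le
  obtain ⟨ρ, h1, h2⟩ := exists_push hφ' h (fun y hy => hk y (hL.le hy)) hT
  subst hN h
  have e1 : ((autInducedBy N E).subgroupOf A).map ρ = autInducedBy (img φ N) (img φ E) := by
    refine le_antisymm ?_ fun β hβ => ?_
    · rintro _ ⟨t, ht, rfl⟩
      obtain ⟨g, hg, e⟩ := mem_autInducedBy_iff.1 ht
      refine mem_autInducedBy_iff.2 ⟨φ g, mem_img_of_mem φ hg, fun z hz => ?_⟩
      obtain ⟨y, hy, rfl⟩ := hφ'.mem_img.1 hz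
      rw [h2 t y hy, ← hφ.map_cj hg (hL.le hy), ← e hy]
      rfl
    · obtain ⟨_, hg', e⟩ := mem_autInducedBy_iff.1 hβ
      obtain ⟨g, hg, rfl⟩ := hφ.mem_img.1 hg'
      refine ⟨⟨_, hL.cj_mem hg⟩, cjAut_mem_autInducedBy hg _, mulAut_ext_autFun fun z hy => ?_⟩
      obtain ⟨y, hy', rfl⟩ := hφ'.mem_img.1 hy
      rw [h2 _ y hy', e hy, autFun_cjAut _ hy', hφ.map_cj hg (hL.le hy')]
  have gen : ∀ H, autInducedBy (img φ N) (img φ E) ≤ H → (∀ γ ∈ ρ.range, ∀ α ∈ H, γ * α * γ⁻¹ ∈ H) →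
      ρ.range ≤ H := by
    rintro H h3 h4 _ ⟨α, rfl⟩
    obtain ⟨β, hβ, e⟩ := hL.gen ((H.comap ρ).map A.subtype) (fun t ht => ⟨⟨t, hL.syl.le ht⟩, h3 (e1.le
      (mem_map_of_mem ρ ht)), rfl⟩) (by
        rintro γ hγ _ ⟨β, hβ, rfl⟩
        exact ⟨⟨γ, hγ⟩ * β * ⟨γ, hγ⟩⁻¹, by simpa using h4 _ ⟨⟨γ, hγ⟩, rfl⟩ _ hβ, rfl⟩) α.2
    exact (Subtype.ext e : β = α) ▸ hβ
  refine ⟨hφ.isPGroup_img hL.pg, img_mono φ hL.le, ?_, e1 ▸ h1 ▸ sylIn_map_hom hL.syl ρ, fun e => good fun α hα => ?_,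
    h1 ▸ gen⟩
  · rw [← hL.idx, hφ.img_eq_range, MonoidHom.range_eq_map, ← relIndex_comap, relIndex_top_right]
    refine congrArg index (Subgroup.ext fun y => ⟨fun hy => ?_, mem_img_of_mem φ⟩)
    obtain ⟨x, hx, e⟩ := hφ'.mem_img.1 hy
    simpa [mem_subgroupOf] using E.mul_mem hx (hTE ((IsHomOn.eq_iff hφ hk (hL.le hx) y.2).2 e.symm))
  · obtain ⟨_, hg', e⟩ := mem_autInducedBy_iff.1 (gen _ le_rfl (fun γ hγ _ => (mem_normalizer_iff.1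
      (e (h1.le hγ)) _).1) ⟨⟨α, hα⟩, rfl⟩)
    obtain ⟨g, hg, rfl⟩ := hφ.mem_img.1 hg'
    refine ⟨g, hg, fun y hy => (IsHomOn.eq_iff hφ hk (Fus.cj_mem hg (hL.le hy)) (hL.le (autFun_mem α hy))).2 ?_⟩
    rw [← h2 ⟨α, hα⟩ y hy, e (mem_img_of_mem φ hy), hφ.map_cj hg (hL.le hy)]

end CL.SR3
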