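import Mathlib
import Cfsg.Agent.FUS.QdFus
import Cfsg.Agent.TECH.DStar
import Cfsg.Agent.S5246

/-!
# The Glauberman–Solomon subgroup `D*(S)` is normal in every `p`-stable saturated fusion system
-/

set_option autoImplicit false

namespace CL.Fus
open Cfsg Cfsg.FusionSystem CL.DStar

variable {Ω : Type*} [Group Ω] {S P Q A : Subgroup Ω} {F : FusionSystem S} {p : ℕ}

theorem dFam_dStarOf' [Finite P] [Fact p.Prime] (hP : IsPGroup p P) : DFam P (dStarOf P) :=
  dFam_map_iff.2 (Cfsg.Agent.S3061.result hP)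

theorem dFam_mono (h : DFam P A) (hA : A ≤ Q) (hQ : Q ≤ P) : DFam Q A :=
  ⟨hA, h.2.1, fun x hx => h.2.2 x (hQ hx)⟩

theorem Mor.dFam_img {f : Ω → Ω} (hf : Mor F P f) (h : DFam P A) : DFam (img f P) (img f A) := by
  have hA := hf.mono h.1
  refine ⟨img_mono f h.1, ⟨⟨fun a b => Subtype.ext ?_⟩⟩, fun y hy hc b hb => ?_⟩
  · obtain ⟨x, hx, e⟩ := hA.mem_img.1 a.2
    obtain ⟨y, hy, e'⟩ := hA.mem_img.1 b.2
    rw [Subgroup.coe_mul, Subgroup.coe_mul, ← e, ← e', hA.commute_iff hx hy]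
    exact comm_of h.2.1 hx hy
  · obtain ⟨x, hx, rfl⟩ := hf.mem_img.1 hy
    obtain ⟨a, ha, rfl⟩ := hA.mem_img.1 hb
    have hz : Subgroup.zpowers x ≤ P := Subgroup.zpowers_le.2 hx
    have hB : A ⊔ Subgroup.zpowers x ≤ P := sup_le h.1 hz
    have hB' : ⁅A ⊔ Subgroup.zpowers x, A ⊔ Subgroup.zpowers x⁆ ≤ P :=
      (Subgroup.commutator_mono hB hB).trans (Subgroup.commutator_le_self P)
    rw [← (hf.mono hz).isHomOn.img_zpowers, ← hf.img_sup h.1 hz, ← hf.img_commutator hB hB,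
      ← hf.img_commutator hB' hB, hf.img_eq_bot_iff
        ((Subgroup.commutator_mono hB' hB).trans (Subgroup.commutator_le_self P))] at hc
    rw [hf.commute_iff (h.1 ha) hx]
    exact h.2.2 x hx hc a ha

variable [Finite S] [Fact p.Prime]

theorem Mor.img_dStarOf (hS : IsPGroup p S) {f : Ω → Ω} (hf : Mor F P f) :
    img f (dStarOf P) = dStarOf (img f P) := by
  have := finite_of_le hf.le
  have := finite_of_le hf.img_le
  have h1 := dFam_dStarOf' (isPGroup_of_le hS hf.le)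
  have h2 := dFam_dStarOf' (isPGroup_of_le hS hf.img_le)
  refine le_antisymm (hf.dFam_img h1).le_dStarOf fun y hy => ?_
  obtain ⟨g, hg, e, -, e2⟩ := hf.exists_inv' rfl
  have h3 := (hg.dFam_img h2).le_dStarOf
  rw [e] at h3
  rw [← e2 y (h2.1 hy)]
  exact mem_img_of_mem f (h3 (mem_img_of_mem g hy))

theorem normalizerIn_le_normalizer_dStarOf (hS : IsPGroup p S) (hP : P ≤ S) :
    normalizerIn S P ≤ normalizerIn S (dStarOf P) := fun g hg => ⟨hg.1, mem_normalizer_iff_img_cj.2 <| by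
  rw [(mor_cj (innerFusionSystem S) hP hg.1).img_dStarOf hS,
    mem_normalizer_iff_img_cj.1 hg.2]⟩

theorem lt_normalizerIn_dStarOf (hS : IsPGroup p S) (hP : P < S) : P < normalizerIn S (dStarOf P) :=
  (lt_normalizerIn hS hP).trans_le (normalizerIn_le_normalizer_dStarOf hS hP.le)

omit [Finite S] [Fact p.Prime] in
theorem PStabAt.mem_kNorm (h : PStabAt p F Q) (hQ : Q ≤ S) {x : Ω} (hx : x ∈ S)
    (hn : x ∈ Subgroup.normalizer (Q : Set Ω))
    (hq : ⁅⁅Q, Subgroup.zpowers x⁆, Subgroup.zpowers x⁆ = ⊥) :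
    x ∈ kNorm S Q ((pCore p (F.autGroup Q)).map (F.autGroup Q).subtype) :=
  ⟨hx, cjAut Q x hn, h _ (autInducedBy_le_autGroup F hQ (cjAut_mem_autInducedBy hx hn))
    ((Cfsg.Agent.S5246.quad_iff hn).2 hq), autFun_cjAut hn⟩

theorem kNorm_pCore_le_Nphi (hS : IsPGroup p S) (hF : F.IsSaturated p) (hQ : F.IsFullyNormalized Q)
    {k : Ω → Ω} (hk : Mor F Q k) (e : img k Q = Q) :
    kNorm S Q ((pCore p (F.autGroup Q)).map (F.autGroup Q).subtype) ≤ Nphi S Q k := by
  obtain ⟨α, hα, eα⟩ := hk.exists_aut e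
  rintro s ⟨hs, κ, hκ, eκ⟩
  have hn := mem_normalizer_of_eqOn_autFun eκ
  rw [← Nphi_congr eα, mem_Nphi_autFun_iff hQ.1 hα]
  refine ⟨hs, hn, (sylIn_of_fullyNormalized hS hF hQ).map_pCore_le ?_⟩
  rw [show cjAut Q s hn = κ from mulAut_ext_autFun fun x hx => by rw [autFun_cjAut hn hx, eκ hx]]
  exact (Subgroup.mem_normalizer_iff.1 (le_normalizer_map_pCore _ hα) κ).1 hκ

theorem dFam_dStarOf_of_kNorm_le (hS : IsPGroup p S) (hP : P ≤ S) (hst : PStabAt p F (dStarOf P))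
    (h : kNorm S (dStarOf P) ((pCore p (F.autGroup (dStarOf P))).map
      (F.autGroup (dStarOf P)).subtype) ≤ P) : DFam S (dStarOf P) := by
  have := finite_of_le hP
  have hY := dFam_dStarOf' (isPGroup_of_le hS hP)
  have hPN : P ≤ normalizerIn S (dStarOf P) :=
    (le_normalizerIn hP).trans (normalizerIn_le_normalizer_dStarOf hS hP)
  have hN : DFam (normalizerIn S (dStarOf P)) (dStarOf P) := by
    refine ⟨hY.1.trans hPN, hY.2.1, fun x hx hc => hY.2.2 x (h (hst.mem_kNorm (hY.1.trans hP) hx.1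
      hx.2 (eq_bot_iff.2 (le_trans ?_ hc.le)))) hc⟩
    exact Subgroup.commutator_mono (Subgroup.commutator_mono le_sup_left le_sup_right) le_sup_right
  rcases (normalizerIn_le S (dStarOf P)).eq_or_lt with heq | hlt
  · rwa [heq] at hN
  obtain ⟨g, hg, hgn, hgN⟩ := exists_mem_normalizer_not_mem hS hlt le_rfl
  have hm := mor_cj F (normalizerIn_le S (dStarOf P)) hg
  have h1 := hm.dFam_img hN
  rw [mem_normalizer_iff_img_cj.1 hgn] at h1
  have h2 : normalizerIn S (dStarOf P) ≤ normalizerIn S (img (cj g) (dStarOf P)) :=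
    (mem_normalizer_iff_img_cj.1 hgn).ge.trans (hm.img_normalizerIn_le hN.1 le_rfl)
  have h3 := hN.le_centralizer h1.1 h1.2.1 (h1.1.trans (normalizerIn_le_normalizer _ _))
    (hN.1.trans (h2.trans (normalizerIn_le_normalizer _ _)))
  have h4 : img (cj g) (dStarOf P) ≤ P := fun x hx =>
    h (centralizerIn_le_kNorm _ _ _ ⟨(h1.1 hx).1, h3 hx⟩)
  have h5 := (dFam_mono h1 h4 hPN).le_dStarOf
  have := finite_of_le (hY.1.trans hP)
  exact absurd ⟨hg, mem_normalizer_of_cj_mem fun x hx => h5 (mem_img_of_mem _ hx)⟩ hgN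

/-- In a `p`-stable saturated fusion system every morphism defined on `D*(S)` fixes it. -/
theorem img_dStarOf_of_pStab (hS : IsPGroup p S) (hF : F.IsSaturated p)
    (hst : ∀ Q, Q ≤ S → PStabAt p F Q) (hP : P ≤ S) :
    ∀ f, Mor F P f → dStarOf S ≤ P → img f (dStarOf S) = dStarOf S := by
  have hD := dFam_dStarOf' hS
  refine induction_lt (motive := fun P => ∀ f, Mor F P f → dStarOf S ≤ P →
    img f (dStarOf S) = dStarOf S) (fun P hP ih f hf hDP => ?_) P hP
  rcases hP.eq_or_lt with rfl | hlt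
  · rw [hf.img_dStarOf hS, hf.img_top]
  have core : ∀ P₀ k, P₀ ≤ S → Nat.card P₀ = Nat.card P → dStarOf S ≤ P₀ →
      F.IsFullyNormalized (dStarOf P₀) → Mor F P₀ k → img k (dStarOf P₀) = dStarOf P₀ →
      img k (dStarOf S) = dStarOf S := fun P₀ k hP₀ hc hD₀ hY hk e => by
    have := finite_of_le hP₀
    have hY' := dFam_dStarOf' (isPGroup_of_le hS hP₀)
    have hDY := (dFam_mono hD hD₀ hP₀).le_dStarOf
    by_cases h : kNorm S (dStarOf P₀) ((pCore p (F.autGroup (dStarOf P₀))).map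
      (F.autGroup (dStarOf P₀)).subtype) ≤ P₀
    · rwa [le_antisymm (dFam_dStarOf_of_kNorm_le hS hP₀ (hst _ hY.1) h).le_dStarOf hDY] at e
    obtain ⟨g, hg, eg⟩ := exists_extend hS hF (hk.mono hY'.1)
      (by rw [e]; exact fullyCentralized_of_fullyNormalized hS hF hY)
    have h1 : P₀ ≤ Nphi S (dStarOf P₀) k := fun x hx =>
      hk.mem_Nphi hY'.1 hx (le_normalizer_dStarOf P₀ hx)
    have h2 : P₀ < Nphi S (dStarOf P₀) k := lt_of_le_of_ne h1 fun h' =>
      h ((kNorm_pCore_le_Nphi hS hF hY (hk.mono hY'.1) e).trans h'.ge)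
    rw [← img_congr (eg.mono hDY)]
    exact ih _ hg.le (hc ▸ card_lt_of_lt h2 hg.le) g hg (hD₀.trans h1)
  have := finite_of_le hP
  have hY := dFam_dStarOf' (isPGroup_of_le hS hP)
  have hN := lt_normalizerIn_dStarOf hS hlt
  obtain ⟨h, hh, hY₀⟩ := exists_mor_normalizer_fullyNormalized hS hF (hY.1.trans hP)
  have hhD := ih _ hh.le (card_lt_of_lt hN hh.le) h hh (hDP.trans hN.le)
  have hhP := hh.mono hN.le
  obtain ⟨h', hh', eh, e1, -⟩ := hhP.exists_inv' rfl
  have hfP : img f P < S := lt_of_le_of_ne hf.img_le fun e =>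
    (card_lt_of_lt hlt le_rfl).ne (by rw [← hf.card_img, e])
  have hN' := lt_normalizerIn_dStarOf hS hfP
  obtain ⟨ψ, hψ, eψ⟩ := exists_mor_normalizer_of_fullyNormalized hS hF hY₀
    (P := dStarOf (img f P)) (by
      rw [← hf.img_dStarOf hS]
      exact isConj_trans (isConj_symm (isConj_iff.2 ⟨f, hf.mono hY.1, rfl⟩))
        (isConj_iff.2 ⟨h, hhP.mono hY.1, rfl⟩))
  have hm : ∀ y ∈ img h P, h' y ∈ P := fun y hy => eh ▸ mem_img_of_mem h' hy
  have hk : Mor F (img h P) (ψ ∘ f ∘ h') :=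
    hψ.comp (hf.comp hh' hm) fun y hy => hN'.le (mem_img_of_mem f (hm y hy))
  have himg : ∀ A, A ≤ P → img (ψ ∘ f ∘ h') (img h A) = img ψ (img f A) := fun A hA => by
    rw [← (hhP.mono hA).isHomOn.img_comp, ← (hf.mono hA).isHomOn.img_comp]
    exact img_congr fun x hx => by simp only [Function.comp_apply, e1 x (hA hx)]
  have h1 := core _ _ hhP.img_le hhP.card_img (hhD.ge.trans (img_mono h hDP))
    (hhP.img_dStarOf hS ▸ hY₀) hk (by
      rw [← hhP.img_dStarOf hS, himg _ hY.1, hf.img_dStarOf hS, eψ])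
  conv_lhs at h1 => rw [← hhD, himg _ hDP]
  obtain ⟨ψ', hψ', -, e2, -⟩ := hψ.exists_inv' rfl
  have hle : img f (dStarOf S) ≤ normalizerIn S (dStarOf (img f P)) := (img_mono f hDP).trans hN'.le
  have h2 := ih _ hψ.img_le (by
    rw [hψ.card_img, ← hf.card_img]; exact card_lt_of_lt hN' hψ.le) ψ' hψ'
    (h1.ge.trans (img_mono ψ hle))
  conv_lhs at h2 => rw [← h1, hψ.img_leftInv e2 hle]
  exact h2

/-- Abelian normal subgroups of `S` lie in the centric radical subgroups of a `p`-stable system. -/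
theorem le_of_pStabAt_of_comm (hS : IsPGroup p S) (hst : PStabAt p F Q) (hc : centralizerIn S Q ≤ Q)
    (hr : F.IsRadical p Q) (hA : A ≤ S) (hn : Q ≤ Subgroup.normalizer (A : Set Ω))
    (hab : IsMulCommutative A) : A ≤ Q := by
  by_contra h
  obtain ⟨x, hx, hxn, hxQ⟩ := exists_mem_normalizer_not_mem_of_not_le hS hr.1 hA hn h
  have h1 := hst.mem_kNorm hr.1 (hA hx) hxn (by
    rw [Subgroup.commutator_eq_bot_iff_le_centralizer]
    exact ((Subgroup.commutator_mono le_rfl (Subgroup.zpowers_le.2 hx)).trans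
      (Subgroup.le_normalizer_iff_commutator_le_right.1 hn)).trans
      ((Subgroup.le_centralizer A).trans (Subgroup.centralizer_le (Subgroup.zpowers_le.2 hx))))
  rw [hr.2, kNorm_inn hr.1, sup_eq_left.2 hc] at h1
  exact hxQ h1

/-- **The `D*`-theorem for fusion systems.** -/
theorem dStarOf_normal_of_pStab (hS : IsPGroup p S) (hF : F.IsSaturated p)
    (hst : ∀ Q, Q ≤ S → PStabAt p F Q) : F.IsNormal (dStarOf S) := by
  have hD := dFam_dStarOf' hS
  exact normal_of_wc_of_le_cr hS hF (weaklyClosed_iff.2 ⟨hD.1, fun f hf =>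
    img_dStarOf_of_pStab hS hF hst hD.1 f hf le_rfl⟩) fun R hR hc hr =>
    le_of_pStabAt_of_comm hS (hst R hR.1) (centralizerIn_le_of_isCentric hc) hr hD.1
      (hR.1.trans (le_normalizer_dStarOf S)) hD.2.1

omit [Finite S] [Fact p.Prime] in
theorem centralizerIn_le_dStarOf (S : Subgroup Ω) : centralizerIn S S ≤ dStarOf S :=
  DFam.le_dStarOf ⟨centralizerIn_le S S, ⟨⟨fun a b => Subtype.ext (a.2.2 b b.2.1).symm⟩⟩,
    fun x hx _ _ ha => (ha.2 x hx).symm⟩

theorem core_ne_bot_of_pStab (hS : IsPGroup p S) (hF : F.IsSaturated p)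
    (hst : ∀ Q, Q ≤ S → PStabAt p F Q) (hne : S ≠ ⊥) : F.core ≠ ⊥ := fun h => by
  have h1 := (centralizerIn_le_dStarOf S).trans (le_core (dStarOf_normal_of_pStab hS hF hst))
  have := (Subgroup.nontrivial_iff_ne_bot S).2 hne
  have := hS.center_nontrivial
  obtain ⟨⟨z, hz⟩, hz1⟩ := exists_ne (1 : Subgroup.center S)
  have h2 : (z : Ω) ∈ centralizerIn S S := ⟨z.2, fun y hy =>
    congrArg Subtype.val (Subgroup.mem_center_iff.1 hz ⟨y, hy⟩)⟩
  exact hz1 (Subtype.ext (Subtype.ext (Subgroup.mem_bot.1 (h ▸ h1 h2))))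

end CL.Fus
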