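import Mathlib
import Cfsg.Agent.FUS.Realized

/-!
# Every fusion system is realized by a finite group and by a virtually free group

A `GraphData` is a graph with an action of a group `K ⊇ S` whose fixed edges only see `F`-morphisms.
-/

set_option autoImplicit false

namespace CL.Fus
open Cfsg Cfsg.FusionSystem

universe u

theorem exists_equiv_prod_of_injective {H G : Type*} [Group H] [Group G] (a : H →* G)
    (ha : Function.Injective a) :
    ∃ (T : Set G) (e : H × T ≃ G), ∀ h t, e (h, t) = a h * t := by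
  obtain ⟨T, hT, -⟩ := a.range.exists_isComplement_right 1
  refine ⟨T, Equiv.ofBijective (fun x => a x.1 * x.2) ⟨?_, fun g => ?_⟩, fun _ _ => rfl⟩
  · rintro ⟨h, t⟩ ⟨h', t'⟩ H
    have := hT.1 (a₁ := (⟨a h, h, rfl⟩, t)) (a₂ := (⟨a h', h', rfl⟩, t')) H
    rw [Prod.mk.injEq] at this
    exact Prod.ext (ha (congrArg Subtype.val this.1)) this.2
  · obtain ⟨⟨⟨_, h, rfl⟩, t⟩, H⟩ := hT.2 g
    exact ⟨(h, t), H⟩

/-- Two free actions of `H` on a finite group by left multiplication are isomorphic. -/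
theorem exists_perm_intertwine {H G : Type*} [Group H] [Group G] [Finite G] (a b : H →* G)
    (ha : Function.Injective a) (hb : Function.Injective b) :
    ∃ σ : Equiv.Perm G, ∀ h s, σ (a h * s) = b h * σ s := by
  obtain ⟨T₁, e₁, h₁⟩ := exists_equiv_prod_of_injective a ha
  obtain ⟨T₂, e₂, h₂⟩ := exists_equiv_prod_of_injective b hb
  have : Finite H := Finite.of_injective a ha
  have hc : Nat.card T₁ = Nat.card T₂ := by
    have := (Nat.card_congr e₁).trans (Nat.card_congr e₂).symm
    rw [Nat.card_prod, Nat.card_prod] at this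
    exact Nat.eq_of_mul_eq_mul_left Nat.card_pos this
  obtain ⟨β⟩ := Finite.card_eq.1 hc
  refine ⟨e₁.symm.trans ((Equiv.prodCongr (Equiv.refl H) β).trans e₂), fun h s => ?_⟩
  obtain ⟨⟨h', t⟩, rfl⟩ := e₁.surjective s
  have : a h * e₁ (h', t) = e₁ (h * h', t) := by rw [h₁, h₁, map_mul, mul_assoc]
  rw [this]
  simp [h₂, mul_assoc]

variable {Ω : Type*} [Group Ω] {S P Q : Subgroup Ω}

section Data
variable {K V E : Type*} [Group K] [MulAction K V] [MulAction K E]

/-- Conjugation by `k⁻¹` induces an `F`-morphism on `Q`. -/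
def GoodElt (F : FusionSystem S) (j : Ω → K) (Q : Subgroup Ω) (k : K) : Prop :=
  ∃ f, Mor F Q f ∧ ∀ y ∈ Q, j y * k = k * j (f y)

theorem GoodElt.mul {F : FusionSystem S} {j : Ω → K} (hj : IsHomOn S j) {k : K}
    (h : GoodElt F j Q k) {s : Ω} (hs : s ∈ S) : GoodElt F j Q (k * j s) := by
  obtain ⟨f, hf, H⟩ := h
  refine ⟨cj s⁻¹ ∘ f, hf.cj_comp (S.inv_mem hs), fun y hy => ?_⟩
  rw [← mul_assoc, H y hy, Function.comp_apply, hj.map_cj (S.inv_mem hs) (hf.map_mem hy),
    hj.map_inv hs, cj_apply]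
  group

variable (K V E) in
/-- A graph with an action of `K`, an embedding of `S` as the stabilizer of a base vertex, an edge for every
`F`-morphism, such that moving along a fixed edge only composes with `F`-morphisms. -/
structure GraphData (F : FusionSystem S) where
  j : Ω → K
  hom : IsHomOn S j
  inj : Set.InjOn j S
  o : E → V
  t : E → V
  o_smul : ∀ (k : K) e, o (k • e) = k • o e
  t_smul : ∀ (k : K) e, t (k • e) = k • t e
  v₀ : V
  stab : ∀ k : K, k • v₀ = v₀ ↔ ∃ s ∈ S, j s = k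
  trans : ∀ v, ∃ k : K, k • v₀ = v
  edge : ∀ P f, Mor F P f → ∃ (e : E) (σ : K), o e = v₀ ∧ t e = σ • v₀ ∧
    ∀ x ∈ P, σ * j x = j (f x) * σ ∧ j (f x) • e = e
  good : ∀ Q e, (∀ x ∈ Q, j x • e = e) → ∃ k k' : K, o e = k • v₀ ∧ t e = k' • v₀ ∧
    (GoodElt F j Q k ↔ GoodElt F j Q k')

namespace GraphData
variable {F : FusionSystem S} (D : GraphData K V E F)

/-- Good vertices for a subgroup `Q`. -/
def Good (Q : Subgroup Ω) (v : V) : Prop := ∃ k : K, v = k • D.v₀ ∧ GoodElt F D.j Q k

theorem good_smul_iff {k : K} : D.Good Q (k • D.v₀) ↔ GoodElt F D.j Q k := by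
  refine ⟨fun ⟨k', h, hk'⟩ => ?_, fun h => ⟨k, rfl, h⟩⟩
  obtain ⟨s, hs, e⟩ := (D.stab (k'⁻¹ * k)).1 (by rw [mul_smul, h, inv_smul_smul])
  have := hk'.mul D.hom hs
  rwa [e, mul_inv_cancel_left] at this

theorem good_base (hQ : Q ≤ S) : D.Good Q D.v₀ :=
  ⟨1, (one_smul _ _).symm, id, mor_id F hQ, fun y _ => by simp⟩

theorem good_edge {e : E} (he : ∀ x ∈ Q, D.j x • e = e) : D.Good Q (D.o e) ↔ D.Good Q (D.t e) := by
  obtain ⟨k, k', h, h', H⟩ := D.good Q e he
  rw [h, h', good_smul_iff, good_smul_iff, H]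

theorem Good.smul_eq {v : V} (h : D.Good Q v) {x : Ω} (hx : x ∈ Q) : D.j x • v = v := by
  obtain ⟨k, rfl, f, hf, H⟩ := h
  rw [← mul_smul, H x hx, mul_smul, (D.stab _).2 ⟨_, hf.map_mem hx, rfl⟩]

theorem good_smul_iff_of_mem {v : V} {x : Ω} (hx : x ∈ Q) : D.Good Q (D.j x • v) ↔ D.Good Q v := by
  refine ⟨fun h => ?_, fun h => by rwa [h.smul_eq D hx]⟩
  have := h.smul_eq D hx
  rw [smul_left_cancel_iff] at this
  rwa [this] at h

variable {N : Type*} [Group N] {φ : K →* MulAut N}

/-- The embedding of `S` into a subgroup of a semidirect product. -/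
def emb (G : Subgroup (N ⋊[φ] K)) (h : ∀ s ∈ S, SemidirectProduct.inr (D.j s) ∈ G) : S →* G :=
  (SemidirectProduct.inr.comp D.hom.toHom).codRestrict G fun s => h s s.2

theorem isRealizedBy_emb (G : Subgroup (N ⋊[φ] K)) (h : ∀ s ∈ S, SemidirectProduct.inr (D.j s) ∈ G)
    (h₁ : ∀ (e : E) (σ : K), D.o e = D.v₀ → D.t e = σ • D.v₀ →
      ∃ n : N, ⟨n, σ⟩ ∈ G ∧ ∀ k : K, k • e = e → φ k n = n)
    (h₂ : ∀ g ∈ G, ∀ Q ≤ S, (∀ x ∈ Q, φ (D.j x) g.left = g.left) → D.Good Q (g.right • D.v₀)) :
    F.IsRealizedBy (D.emb G h) := by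
  have hv : ∀ x (hx : x ∈ S),
      (homFn (D.emb G h) x).1 = SemidirectProduct.inr (D.j x) := fun x hx => by
    rw [homFn_of_mem _ hx]; rfl
  rw [isRealizedBy_iff (e := homFn (D.emb G h)) fun x => (homFn_coe _ x).symm]
  refine ⟨fun x hx y hy hxy => D.inj hx hy (SemidirectProduct.inr_injective (φ := φ) ?_),
    fun P f hP hf => ⟨fun hm => ?_, fun ⟨g, hg⟩ => ?_⟩⟩
  · rw [← hv x hx, ← hv y hy, hxy]
  · obtain ⟨e, σ, ho, ht, H⟩ := D.edge P f hm
    obtain ⟨n, hn, hfix⟩ := h₁ e σ ho ht
    refine ⟨⟨_, hn⟩, fun x hx => Subtype.ext ?_⟩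
    rw [cj_apply, Subgroup.coe_mul, Subgroup.coe_mul, Subgroup.coe_inv, hv _ (hf x hx), hv _ (hP hx),
      eq_mul_inv_iff_mul_eq]
    ext
    · simp [hfix _ (H x hx).2]
    · simp [(H x hx).1]
  · have key : ∀ x ∈ P, SemidirectProduct.inr (D.j x) * (g⁻¹ : G).1 =
        (g⁻¹ : G).1 * SemidirectProduct.inr (D.j (f x)) := fun x hx => by
      have := congrArg Subtype.val (hg x hx)
      rw [cj_apply, Subgroup.coe_mul, Subgroup.coe_mul, hv _ (hf x hx), hv _ (hP hx)] at this
      rw [this, Subgroup.coe_inv]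
      group
    obtain ⟨f', hf', H⟩ := D.good_smul_iff.1 (h₂ _ (g⁻¹).2 P hP fun x hx => by
      simpa using congrArg SemidirectProduct.left (key x hx))
    refine hf'.congr fun x hx => D.inj (hf'.map_mem hx) (hf x hx) ?_
    have := congrArg SemidirectProduct.right (key x hx)
    simp only [SemidirectProduct.mul_right, SemidirectProduct.right_inr] at this
    rw [H x hx] at this
    exact mul_left_cancel this

end GraphData
end Data

section Existence
variable {K : Type*} [Group K]

/-- Index set of the edge orbits. -/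
abbrev GIdx (F : FusionSystem S) (j : Ω → K) : Type _ :=
  {q : Subgroup K × K // ∃ P f, Mor F P f ∧ q.1 = img (j ∘ f) P ∧ ∀ x ∈ P, q.2 * j x = j (f x) * q.2}

/-- The edges. -/
abbrev GEdge (F : FusionSystem S) (j : Ω → K) : Type _ := Σ i : GIdx F j, K ⧸ i.1.1

theorem GIdx.mem_iff {F : FusionSystem S} {j : Ω → K} (hj : IsHomOn S j) {f : Ω → Ω}
    (hf : Mor F P f) {k : K} : k ∈ img (j ∘ f) P ↔ ∃ x ∈ P, j (f x) = k :=
  IsHomOn.mem_img fun x hx y hy => by
    simp only [Function.comp_apply]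
    rw [hf.map_mul hx hy, hj.map_mul (hf.map_mem hx) (hf.map_mem hy)]

theorem GIdx.le {F : FusionSystem S} {j : Ω → K} (i : GIdx F j) : i.1.1 ≤ img j S := by
  obtain ⟨P, f, hf, e, -⟩ := i.2
  rw [e]
  exact img_le_iff.2 fun x hx => mem_img_of_mem j (hf.map_mem hx)

theorem GIdx.conj_mem {F : FusionSystem S} {j : Ω → K} (hj : IsHomOn S j) (i : GIdx F j) {k : K}
    (hk : k ∈ i.1.1) : i.1.2⁻¹ * k * i.1.2 ∈ img j S := by
  obtain ⟨P, f, hf, e, H⟩ := i.2
  rw [e, GIdx.mem_iff hj hf] at hk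
  obtain ⟨x, hx, rfl⟩ := hk
  rw [mul_assoc, ← H x hx, inv_mul_cancel_left]
  exact mem_img_of_mem j (hf.le hx)

theorem nonempty_graphData (F : FusionSystem S) {j : Ω → K} (hj : IsHomOn S j) (hi : Set.InjOn j S)
    (hσ : ∀ P f, Mor F P f → ∃ σ : K, ∀ x ∈ P, σ * j x = j (f x) * σ) :
    Nonempty (GraphData K (K ⧸ img j S) (GEdge F j) F) := by
  let o : GEdge F j → K ⧸ img j S := fun e => Subgroup.quotientMapOfLE e.1.le e.2
  let t : GEdge F j → K ⧸ img j S := fun e =>
    Quotient.map' (· * e.1.1.2) (fun a b h => by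
      rw [QuotientGroup.leftRel_apply] at h ⊢
      simpa [mul_assoc] using e.1.conj_mem hj h) e.2
  have ho : ∀ (i : GIdx F j) (k : K), o ⟨i, k⟩ = (k : K ⧸ img j S) := fun _ _ => rfl
  have ht : ∀ (i : GIdx F j) (k : K), t ⟨i, k⟩ = ((k * i.1.2 : K) : K ⧸ img j S) := fun _ _ => rfl
  have hs : ∀ (i : GIdx F j) (k k' : K), k • (⟨i, k'⟩ : GEdge F j) = ⟨i, (k * k' : K)⟩ :=
    fun _ _ _ => rfl
  have hv : ∀ k : K, k • ((1 : K) : K ⧸ img j S) = (k : K ⧸ img j S) := fun k => by
    rw [MulAction.Quotient.smul_mk, smul_eq_mul, mul_one]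
  refine ⟨⟨j, hj, hi, o, t, ?_, ?_, ((1 : K) : K ⧸ img j S), fun k => ?_, fun v => ?_,
    fun P f hf => ?_, ?_⟩⟩
  · rintro k ⟨i, ⟨k'⟩⟩
    rfl
  · rintro k ⟨i, ⟨k'⟩⟩
    exact (congrArg t (hs i k k')).trans ((ht _ _).trans (by rw [mul_assoc]; rfl))
  · rw [hv, eq_comm, QuotientGroup.eq, inv_one, one_mul, hj.mem_img]
  · obtain ⟨k, rfl⟩ := QuotientGroup.mk_surjective v
    exact ⟨k, hv k⟩
  · obtain ⟨σ, H⟩ := hσ P f hf
    let i : GIdx F j := ⟨(img (j ∘ f) P, σ), P, f, hf, rfl, H⟩
    refine ⟨⟨i, (1 : K)⟩, σ, rfl, by rw [ht, hv, one_mul], fun x hx => ⟨H x hx, ?_⟩⟩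
    rw [hs]
    congr 1
    rw [eq_comm, QuotientGroup.eq, inv_one, one_mul, mul_one]
    exact mem_img_of_mem (j ∘ f) hx
  · rintro Q ⟨i, ⟨k⟩⟩ he
    refine ⟨k, k * i.1.2, (hv k).symm, (hv _).symm, ?_⟩
    obtain ⟨P, f, hf, e, H⟩ := i.2
    have hQ : ∀ y ∈ Q, ∃ x ∈ P, j y * k = k * j (f x) := fun y hy => by
      have h1 : (⟨i, (j y * k : K)⟩ : GEdge F j) = ⟨i, k⟩ := he y hy
      have h2 := (eq_of_heq (Sigma.mk.inj h1).2).symm
      rw [QuotientGroup.eq, e, GIdx.mem_iff hj hf] at h2
      obtain ⟨x, hx, h2⟩ := h2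
      exact ⟨x, hx, by rw [h2, mul_inv_cancel_left]⟩
    refine ⟨fun ⟨g, hg, Hg⟩ => ?_, fun ⟨g, hg, Hg⟩ => ?_⟩
    · obtain ⟨f', hf', h1, h2⟩ := hf.exists_inv
      have hm : ∀ y ∈ Q, g y ∈ img f P := fun y hy => by
        obtain ⟨x, hx, h⟩ := hQ y hy
        rw [Hg y hy] at h
        rw [hi (hg.map_mem hy) (hf.map_mem hx) (mul_left_cancel h)]
        exact mem_img_of_mem f hx
      refine ⟨f' ∘ g, hf'.comp hg hm, fun y hy => ?_⟩
      rw [← mul_assoc, Hg y hy, mul_assoc, mul_assoc, Function.comp_apply, H _ (h2 _ (hm y hy)).1,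
        (h2 _ (hm y hy)).2]
    · have hm : ∀ y ∈ Q, g y ∈ P := fun y hy => by
        obtain ⟨x, hx, h⟩ := hQ y hy
        have h' := Hg y hy
        rw [← mul_assoc, h, mul_assoc, ← H x hx, ← mul_assoc] at h'
        rw [← hi (hf.le hx) (hg.map_mem hy) (mul_left_cancel h')]
        exact hx
      refine ⟨f ∘ g, hf.comp hg hm, fun y hy => ?_⟩
      have h' := Hg y hy
      rw [mul_assoc k, H _ (hm y hy), ← mul_assoc, ← mul_assoc] at h'
      exact mul_right_cancel h'

theorem exists_graphData [Finite S] (F : FusionSystem S) : ∃ j : Ω → Equiv.Perm S,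
    Nonempty (GraphData (Equiv.Perm S) (Equiv.Perm S ⧸ img j S) (GEdge F j) F) := by
  let j := homFn (MulAction.toPermHom S S)
  have hj : ∀ x (hx : x ∈ S) (s : S), j x s = ⟨x, hx⟩ * s := fun x hx s => by
    simp only [j]; rw [homFn_of_mem _ hx]; rfl
  refine ⟨j, nonempty_graphData F (isHomOn_homFn _) (fun x hx y hy h => ?_) fun P f hf => ?_⟩
  · have := congrArg (fun σ : Equiv.Perm S => (σ 1 : Ω)) h
    simpa [hj x hx, hj y hy] using this
  · obtain ⟨σ, hσ⟩ := exists_perm_intertwine (Subgroup.inclusion hf.le)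
      (hf.isHomOn.toHom.codRestrict S fun x => hf.map_mem x.2) (Subgroup.inclusion_injective _)
      (fun x y h => Subtype.ext (hf.injOn x.2 y.2 (congrArg Subtype.val h)))
    refine ⟨σ, fun x hx => Equiv.ext fun s => ?_⟩
    rw [Equiv.Perm.mul_apply, Equiv.Perm.mul_apply, hj _ (hf.le hx), hj _ (hf.map_mem hx)]
    exact hσ ⟨x, hx⟩ s

end Existence

/-! ### The finite realization -/

theorem sum_eq_zero_of_invariant {p : ℕ} [Fact p.Prime] {H α : Type*} [Group H] [MulAction H α]
    [Fintype α] (hH : IsPGroup p H) (w : α → ZMod p) (hw : ∀ (h : H) a, w (h • a) = w a)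
    (h0 : ∀ a, (∀ h : H, h • a = a) → w a = 0) : ∑ a, w a = 0 := by
  classical
  rw [← Finset.sum_fiberwise Finset.univ w]
  refine Finset.sum_eq_zero fun c _ => ?_
  rw [Finset.sum_congr rfl (g := fun _ => c) fun a ha => (Finset.mem_filter.1 ha).2, Finset.sum_const,
    nsmul_eq_mul]
  by_cases hc : c = 0
  · rw [hc, mul_zero]
  let A : SubMulAction H α := ⟨{a | w a = c}, fun h a ha => (hw h a).trans ha⟩
  have h1 := hH.card_modEq_card_fixedPoints A
  have h2 : IsEmpty (MulAction.fixedPoints H A) := ⟨fun a => hc (a.1.2.symm.trans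
    (h0 _ fun h => congrArg Subtype.val (a.2 h)))⟩
  rw [Nat.card_of_isEmpty (α := MulAction.fixedPoints H A), Nat.modEq_zero_iff_dvd] at h1
  have h3 : Nat.card A = (Finset.univ.filter fun a => w a = c).card := by
    rw [← Fintype.card_subtype, ← Nat.card_eq_fintype_card]
    rfl
  rw [← h3, (ZMod.natCast_eq_zero_iff _ _).2 h1, zero_mul]

namespace GraphData
variable {K V E : Type*} [Group K] [MulAction K V] [MulAction K E] {F : FusionSystem S}
  (D : GraphData K V E F)

section Fin
variable (R : Type*) [CommRing R] [Fintype E]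

/-- The pairing of a `1`-chain with the coboundary of a `0`-cochain. -/
def pairing (w : E → Multiplicative R) (c : V → R) : R :=
  ∑ e, (w e).toAdd * (c (D.t e) - c (D.o e))

variable {R}

theorem pairing_mul (w w' : E → Multiplicative R) (c : V → R) :
    D.pairing R (w * w') c = D.pairing R w c + D.pairing R w' c := by
  simp [pairing, add_mul, Finset.sum_add_distrib]

theorem pairing_one (c : V → R) : D.pairing R 1 c = 0 := by simp [pairing]

theorem pairing_inv (w : E → Multiplicative R) (c : V → R) :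
    D.pairing R w⁻¹ c = -D.pairing R w c := by
  simp [pairing]

theorem pairing_smul (k : K) (w : E → Multiplicative R) (c : V → R) :
    D.pairing R (mulAutArrow k w) c = D.pairing R w fun v => c (k • v) := by
  refine (Fintype.sum_equiv (MulAction.toPerm k) _ _ fun e => ?_).symm
  change _ = (w (k⁻¹ • k • e)).toAdd * (c (D.t (k • e)) - c (D.o (k • e)))
  rw [inv_smul_smul, D.t_smul, D.o_smul]

variable (R) in
/-- The finite group realizing `F`. -/
def finGroup : Subgroup ((E → Multiplicative R) ⋊[mulAutArrow] K) where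
  carrier := {g | ∀ c : V → R, D.pairing R g.left c = c (g.right • D.v₀) - c D.v₀}
  one_mem' c := by simp [pairing_one]
  mul_mem' {a b} ha hb c := by
    rw [SemidirectProduct.mul_left, pairing_mul, pairing_smul, ha, hb, SemidirectProduct.mul_right,
      mul_smul]
    ring
  inv_mem' {a} ha c := by
    rw [SemidirectProduct.inv_left, pairing_smul, pairing_inv, ha, SemidirectProduct.inv_right,
      inv_smul_smul]
    ring

theorem inr_mem_finGroup {s : Ω} (hs : s ∈ S) : SemidirectProduct.inr (D.j s) ∈ D.finGroup R :=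
  fun c => by simp [pairing_one, (D.stab _).2 ⟨s, hs, rfl⟩]

theorem isRealizedBy_finGroup {p : ℕ} [Fact p.Prime] (hS : IsPGroup p S) :
    F.IsRealizedBy (D.emb (D.finGroup (ZMod p)) fun _ => D.inr_mem_finGroup) := by
  classical
  refine D.isRealizedBy_emb _ _ (fun e σ ho ht => ⟨Pi.mulSingle e (Multiplicative.ofAdd 1), fun c => ?_,
    fun k hk => funext fun e' => ?_⟩) fun g hg Q hQ hfix => ?_
  · rw [pairing, Finset.sum_eq_single e (fun b _ hb => by simp [hb]) (by simp)]
    simp [ho, ht]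
  · change Pi.mulSingle (M := fun _ => Multiplicative (ZMod p)) e _ (k⁻¹ • e') = _
    have : k⁻¹ • e' = e ↔ e' = e := by rw [inv_smul_eq_iff, hk]
    simp only [Pi.mulSingle_apply, this]
  · let c : V → ZMod p := fun v => if D.Good Q v then 1 else 0
    have h1 := hg c
    let _ : MulAction Q E := MulAction.compHom E (D.hom.mono hQ).toHom
    have h2 : D.pairing (ZMod p) g.left c = 0 := by
      refine sum_eq_zero_of_invariant (isPGroup_of_le hS hQ) _ (fun x e => ?_) fun e he => ?_
      · change (g.left (D.j x • e)).toAdd * (c (D.t (D.j x • e)) - c (D.o (D.j x • e))) = _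
        have : g.left (D.j x • e) = g.left e := by
          conv_lhs => rw [← hfix x x.2]
          change g.left ((D.j x)⁻¹ • D.j x • e) = _
          rw [inv_smul_smul]
        simp only [this, D.t_smul, D.o_smul, c, D.good_smul_iff_of_mem x.2]
      · simp only [c, D.good_edge (Q := Q) (e := e) fun x hx => he ⟨x, hx⟩, sub_self, mul_zero]
    by_contra hb
    simp [h2, c, hb, D.good_base hQ] at h1

end Fin

end GraphData

/-- **Park**: every fusion system is realized inside a finite group. -/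
theorem exists_finite_realization {Ω : Type u} [Group Ω] {S : Subgroup Ω} [Finite S] {p : ℕ}
    [Fact p.Prime] (hS : IsPGroup p S) (F : FusionSystem S) :
    ∃ (G : Type u) (_ : Group G) (_ : Finite G) (ι : S →* G), F.IsRealizedBy ι := by
  obtain ⟨j, ⟨D⟩⟩ := exists_graphData F
  have := Fintype.ofFinite (GEdge F j)
  have : Finite ((GEdge F j → Multiplicative (ZMod p)) ⋊[mulAutArrow] Equiv.Perm S) :=
    Finite.of_equiv _ SemidirectProduct.equivProd.symm
  exact ⟨D.finGroup (ZMod p), inferInstance, inferInstance, _, D.isRealizedBy_finGroup hS⟩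

/-! ### The virtually free realization -/

section FreeAct
open FreeGroup
variable {K E : Type*} [Group K] [MulAction K E]

variable (K E) in
/-- The action of `K` on the free group on a `K`-set. -/
def freeAct : K →* MulAut (FreeGroup E) :=
  MonoidHom.mk' (fun k => freeGroupCongr (MulAction.toPerm k)) fun a b => by
    ext x
    change map _ x = map _ (map _ x)
    rw [map.comp]
    congr 2
    ext e
    simp [mul_smul]

theorem freeAct_mk (k : K) (L : List (E × Bool)) :
    freeAct K E k (mk L) = mk (L.map fun x => (k • x.1, x.2)) := rfl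

variable [DecidableEq E]

theorem toWord_freeAct (k : K) (γ : FreeGroup E) :
    (freeAct K E k γ).toWord = γ.toWord.map fun x => (k • x.1, x.2) := by
  conv_lhs => rw [← mk_toWord (x := γ), freeAct_mk, toWord_mk]
  refine IsReduced.reduce_eq ?_
  rw [FreeGroup.IsReduced, List.isChain_map]
  exact (isReduced_toWord (x := γ)).imp fun a b h h' => h (MulAction.injective k h')

theorem norm_freeAct (k : K) (γ : FreeGroup E) : (freeAct K E k γ).norm = γ.norm := by
  simp [FreeGroup.norm, toWord_freeAct]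

theorem norm_inv_mul_of_ne {a b : FreeGroup E} {x y : E × Bool} {L M : List (E × Bool)}
    (ha : a.toWord = y :: M) (hb : b.toWord = x :: L) (hne : y ≠ x) :
    (a⁻¹ * b).norm = a.norm + b.norm := by
  have h1 := isReduced_toWord (x := a⁻¹)
  have h2 := isReduced_toWord (x := b)
  have : IsReduced (a⁻¹.toWord ++ b.toWord) := by
    rw [FreeGroup.IsReduced, List.isChain_append]
    refine ⟨h1, h2, ?_⟩
    rw [toWord_inv, ha, hb, invRev_cons]
    simp only [invRev, List.map_cons, List.map_nil, List.reverse_cons, List.reverse_nil,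
      List.nil_append, List.getLast?_append, List.getLast?_singleton, Option.some_or,
      Option.mem_def, Option.some.injEq, List.head?_cons, forall_eq']
    intro h
    by_contra h'
    exact hne (Prod.ext h (by revert h'; cases y.2 <;> cases x.2 <;> simp))
  rw [FreeGroup.norm, toWord_mul, this.reduce_eq, List.length_append, ← FreeGroup.norm,
    ← FreeGroup.norm, norm_inv_eq]

/-- A bounded group of automorphisms of the Cayley tree can be moved closer to a fixed point. -/
theorem norm_conj_lt {H : Subgroup (FreeGroup E ⋊[freeAct K E] K)} {h₀ : FreeGroup E ⋊[freeAct K E] K}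
    (hh₀ : h₀ ∈ H) (hmax : ∀ h ∈ H, h.left.norm ≤ h₀.left.norm) {x : E × Bool}
    {L : List (E × Bool)} (hx : h₀.left.toWord = x :: L) {h : FreeGroup E ⋊[freeAct K E] K}
    (hh : h ∈ H) : ((mk [x])⁻¹ * h.left * freeAct K E h.right (mk [x])).norm < h₀.left.norm := by
  have key : ∀ h ∈ H, ∀ y M, h.left.toWord = y :: M → y = x := fun h hh y M hy => by
    by_contra hne
    have h1 := hmax _ (H.mul_mem (H.inv_mem hh) hh₀)
    rw [SemidirectProduct.mul_left, SemidirectProduct.inv_left, SemidirectProduct.inv_right,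
      ← _root_.map_mul, norm_freeAct, norm_inv_mul_of_ne hy hx hne] at h1
    have : 0 < h.left.norm := by simp [FreeGroup.norm, hy]
    omega
  have hpos : 0 < h₀.left.norm := by simp [FreeGroup.norm, hx]
  rcases hw : h.left.toWord with _ | ⟨y, M⟩
  · rw [toWord_eq_nil_iff] at hw
    have h1 := key _ (H.mul_mem hh hh₀) _ _ (by
      rw [SemidirectProduct.mul_left, hw, one_mul, toWord_freeAct, hx, List.map_cons])
    rw [hw, freeAct_mk, List.map_singleton, h1, mul_one, inv_mul_cancel]
    exact hpos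
  obtain rfl := key h hh y M hw
  have h1 : h⁻¹.left.toWord = (invRev (y :: M)).map fun x => (h.right⁻¹ • x.1, x.2) := by
    rw [SemidirectProduct.inv_left, toWord_freeAct, toWord_inv, hw]
  rcases List.eq_nil_or_concat M with rfl | ⟨M, z, rfl⟩
  · have := key _ (H.inv_mem hh) _ _ h1
    simpa using congrArg Prod.snd this
  · have h2 := key _ (H.inv_mem hh) (h.right⁻¹ • z.1, !z.2) _ (by
      rw [h1, List.concat_eq_append, ← List.cons_append, invRev_append]; rfl)
    have h3 : h.left = mk [y] * mk M * mk [z] := by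
      rw [← mk_toWord (x := h.left), hw, mul_mk, mul_mk]; simp
    have h4 : freeAct K E h.right (mk [y]) = (mk [z])⁻¹ := by
      rw [freeAct_mk, inv_mk, ← h2]; simp [invRev]
    have h5 := hmax h hh
    rw [FreeGroup.norm, hw] at h5
    rw [h4, h3, mul_assoc, mul_inv_cancel_right, inv_mul_cancel_left]
    refine norm_mk_le.trans_lt (lt_of_lt_of_le ?_ h5)
    simp only [List.length_cons, List.length_concat]
    omega

end FreeAct

namespace GraphData
open FreeGroup
variable {K V E : Type*} [Group K] [MulAction K V] [MulAction K E] {F : FusionSystem S}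
  (D : GraphData K V E F)

/-- Source of a directed edge. -/
def src (x : E × Bool) : V := cond x.2 (D.o x.1) (D.t x.1)

/-- Target of a directed edge. -/
def tgt (x : E × Bool) : V := cond x.2 (D.t x.1) (D.o x.1)

theorem src_not (x : E × Bool) : D.src (x.1, !x.2) = D.tgt x := by
  obtain ⟨e, _ | _⟩ := x <;> rfl

theorem tgt_not (x : E × Bool) : D.tgt (x.1, !x.2) = D.src x := by
  obtain ⟨e, _ | _⟩ := x <;> rfl

theorem src_smul (k : K) (x : E × Bool) : D.src (k • x.1, x.2) = k • D.src x := by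
  obtain ⟨e, _ | _⟩ := x
  exacts [D.t_smul k e, D.o_smul k e]

theorem tgt_smul (k : K) (x : E × Bool) : D.tgt (k • x.1, x.2) = k • D.tgt x := by
  obtain ⟨e, _ | _⟩ := x
  exacts [D.o_smul k e, D.t_smul k e]

/-- The word is an edge path between the two vertices. -/
def IsPath : V → List (E × Bool) → V → Prop
  | u, [], v => u = v
  | u, x :: L, v => u = D.src x ∧ IsPath (D.tgt x) L v

theorem isPath_append {L M : List (E × Bool)} {u v : V} :
    D.IsPath u (L ++ M) v ↔ ∃ w, D.IsPath u L w ∧ D.IsPath w M v := by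
  induction L generalizing u with
  | nil => simp [IsPath]
  | cons x L ih => simp [IsPath, ih, and_assoc]

variable {D}

theorem IsPath.red {L M : List (E × Bool)} {u v : V} (h : D.IsPath u L v) (hr : Red L M) :
    D.IsPath u M v := by
  induction hr with
  | refl => exact h
  | tail _ hs ih =>
    obtain @⟨_, _, x, b⟩ := hs
    obtain ⟨w, h1, h2, -, h3⟩ := D.isPath_append.1 ih
    rw [D.tgt_not (x, b), ← h2] at h3
    exact D.isPath_append.2 ⟨w, h1, h3⟩

theorem IsPath.invRev {L : List (E × Bool)} {u v : V} (h : D.IsPath u L v) :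
    D.IsPath v (invRev L) u := by
  induction L generalizing u with
  | nil => exact h.symm
  | cons x L ih =>
    rw [invRev_cons]
    exact D.isPath_append.2 ⟨_, ih h.2, (D.src_not x).symm, (D.tgt_not x).trans h.1.symm⟩

theorem IsPath.smul {L : List (E × Bool)} {u v : V} (h : D.IsPath u L v) (k : K) :
    D.IsPath (k • u) (L.map fun x => (k • x.1, x.2)) (k • v) := by
  induction L generalizing u with
  | nil => exact congrArg _ h
  | cons x L ih =>
    refine ⟨by rw [h.1, D.src_smul], ?_⟩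
    rw [D.tgt_smul]
    exact ih h.2

theorem IsPath.good {L : List (E × Bool)} {u v : V} (h : D.IsPath u L v)
    (hL : ∀ y ∈ L, ∀ x ∈ Q, D.j x • y.1 = y.1) (hu : D.Good Q u) : D.Good Q v := by
  induction L generalizing u with
  | nil => exact h ▸ hu
  | cons y L ih =>
    refine ih h.2 (fun z hz => hL z (List.mem_cons_of_mem _ hz)) ?_
    have := D.good_edge (hL y List.mem_cons_self)
    rw [h.1] at hu
    obtain ⟨e, _ | _⟩ := y
    exacts [this.2 hu, this.1 hu]

variable (D) [DecidableEq E]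

/-- The fundamental group of the quotient graph of groups. -/
def freeGroup : Subgroup (FreeGroup E ⋊[freeAct K E] K) where
  carrier := {g | D.IsPath D.v₀ g.left.toWord (g.right • D.v₀)}
  one_mem' := (one_smul K D.v₀).symm
  mul_mem' {a b} ha hb := by
    change D.IsPath _ _ _
    rw [SemidirectProduct.mul_left, toWord_mul, toWord_freeAct, SemidirectProduct.mul_right, mul_smul]
    exact IsPath.red (D.isPath_append.2 ⟨_, ha, IsPath.smul hb _⟩) reduce.red
  inv_mem' {a} ha := by
    change D.IsPath _ _ _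
    rw [SemidirectProduct.inv_left, toWord_freeAct, toWord_inv, SemidirectProduct.inv_right]
    have := (IsPath.invRev ha).smul a.right⁻¹
    rwa [inv_smul_smul] at this

theorem inr_mem_freeGroup {s : Ω} (hs : s ∈ S) : SemidirectProduct.inr (D.j s) ∈ D.freeGroup :=
  ((D.stab _).2 ⟨s, hs, rfl⟩).symm

theorem isRealizedBy_freeGroup : F.IsRealizedBy (D.emb D.freeGroup fun _ => D.inr_mem_freeGroup) := by
  refine D.isRealizedBy_emb _ _ (fun e σ ho ht => ⟨of e, ⟨ho.symm, ht⟩, fun k hk => ?_⟩)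
    fun g hg Q hQ hfix => IsPath.good hg (fun y hy x hx => ?_) (D.good_base hQ)
  · change FreeGroup.mk [(k • e, true)] = _
    rw [hk]; rfl
  · have := congrArg toWord (hfix x hx)
    rw [toWord_freeAct] at this
    exact congrArg Prod.fst (List.map_inj_left.1 (this.trans (List.map_id _).symm) y hy)

theorem exists_conj_left_eq_one (n : ℕ) (H : Subgroup D.freeGroup) (hH : ∀ h ∈ H, h.1.left.norm ≤ n) :
    ∃ g : D.freeGroup, ∀ h ∈ H, (g * h * g⁻¹).1.left = 1 := by
  induction n using Nat.strong_induction_on generalizing H with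
  | _ n ih =>
  by_cases hn : ∃ h₀ ∈ H, h₀.1.left.norm = n
  swap
  · push Not at hn
    have h0 := lt_of_le_of_ne (hH 1 H.one_mem) (hn 1 H.one_mem)
    exact ih (n - 1) (by omega) H fun h hh => Nat.le_sub_one_of_lt (lt_of_le_of_ne (hH h hh) (hn h hh))
  obtain ⟨h₀, hh₀, rfl⟩ := hn
  rcases hw : h₀.1.left.toWord with _ | ⟨x, L⟩
  · refine ⟨1, fun h hh => ?_⟩
    have := hH h hh
    rw [toWord_eq_nil_iff.1 hw, FreeGroup.norm_one, Nat.le_zero, FreeGroup.norm_eq_zero] at this
    simpa using this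
  have hp : D.IsPath D.v₀ h₀.1.left.toWord _ := h₀.2
  rw [hw] at hp
  obtain ⟨k, hk⟩ := D.trans (D.tgt x)
  have hc : (⟨FreeGroup.mk [x], k⟩ : FreeGroup E ⋊[freeAct K E] K) ∈ D.freeGroup := ⟨hp.1, hk.symm⟩
  let c : D.freeGroup := ⟨_, hc⟩
  have hpos : 0 < h₀.1.left.norm := by simp [FreeGroup.norm, hw]
  obtain ⟨g, hg⟩ := ih (h₀.1.left.norm - 1) (by omega) (H.map (MulAut.conj c⁻¹).toMonoidHom) (by
    rintro _ ⟨h, hh, rfl⟩
    have := norm_conj_lt (H := H.map D.freeGroup.subtype) ⟨h₀, hh₀, rfl⟩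
      (by rintro _ ⟨h, hh, rfl⟩; exact hH h hh) hw ⟨h, hh, rfl⟩
    refine Nat.le_sub_one_of_lt (lt_of_eq_of_lt ?_ this)
    rw [← norm_freeAct k]
    congr 1
    simp [c])
  refine ⟨g * c⁻¹, fun h hh => ?_⟩
  have := hg _ ⟨h, hh, rfl⟩
  simpa [mul_assoc] using this

theorem exists_conj_mem_range (H : Subgroup D.freeGroup) [Finite H] :
    ∃ g : D.freeGroup, ∀ h ∈ H, g * h * g⁻¹ ∈ (D.emb D.freeGroup fun _ => D.inr_mem_freeGroup).range := by
  obtain ⟨n, hn⟩ := (Set.finite_range fun h : H => h.1.1.left.norm).bddAbove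
  obtain ⟨g, hg⟩ := D.exists_conj_left_eq_one n H fun h hh => hn ⟨⟨h, hh⟩, rfl⟩
  refine ⟨g, fun h hh => ?_⟩
  have hp : D.IsPath D.v₀ (g * h * g⁻¹).1.left.toWord _ := (g * h * g⁻¹).2
  rw [hg h hh] at hp
  obtain ⟨s, hs, e⟩ := (D.stab _).1 (Eq.symm hp)
  exact ⟨⟨s, hs⟩, Subtype.ext (SemidirectProduct.ext (hg h hh).symm e)⟩

end GraphData

theorem isFreeGroup_ker_rightHom {K : Type*} {N : Type u} [Group K] [Group N] [IsFreeGroup N]
    {φ : K →* MulAut N} (G : Subgroup (N ⋊[φ] K)) :
    ∃ M : Subgroup N, Nonempty ((SemidirectProduct.rightHom.comp G.subtype).ker ≃* M) := by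
  let ψ : (SemidirectProduct.rightHom.comp G.subtype).ker →* N :=
    MonoidHom.mk' (fun x => x.1.1.left) fun a b => by
      have : a.1.1.right = 1 := a.2
      simp [this]
  refine ⟨ψ.range, ⟨MonoidHom.ofInjective fun a b h => Subtype.ext (Subtype.ext
    (SemidirectProduct.ext h ?_))⟩⟩
  exact (show a.1.1.right = 1 from a.2).trans (show b.1.1.right = 1 from b.2).symm

/-- **Leary–Stancu**: every fusion system is realized by a virtually free group. -/
theorem exists_virtually_free_realization {Ω : Type u} [Group Ω] {S : Subgroup Ω} [Finite S]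
    (F : FusionSystem S) : ∃ (G : Type u) (_ : Group G) (ι : S →* G), F.IsRealizedBy ι ∧
      (∀ H : Subgroup G, Finite H → ∃ g : G, ∀ h ∈ H, g * h * g⁻¹ ∈ ι.range) ∧
      ∃ N : Subgroup G, N.Normal ∧ IsFreeGroup N ∧ N.index ∣ (Nat.card S).factorial := by
  classical
  obtain ⟨j, ⟨D⟩⟩ := exists_graphData F
  refine ⟨D.freeGroup, inferInstance, _, D.isRealizedBy_freeGroup, fun H _ =>
    D.exists_conj_mem_range H, (SemidirectProduct.rightHom.comp D.freeGroup.subtype).ker,
    inferInstance, ?_, ?_⟩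
  · obtain ⟨M, ⟨e⟩⟩ := isFreeGroup_ker_rightHom D.freeGroup
    exact IsFreeGroup.ofMulEquiv e.symm
  · rw [Subgroup.index_ker, ← Nat.card_perm]
    exact Subgroup.card_subgroup_dvd_card _

end CL.Fus
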