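/-
Odd order automorphisms of `S_n` and of `C_2 ≀ S_m` preserving transpositions and a Sylow `2`-subgroup.
-/
import Cfsg.Agent.KSG.AltSylow2

set_option autoImplicit false

namespace CL.MonAut

open Equiv Equiv.Perm

variable {ι : Type*} [DecidableEq ι]

theorem exists_common {x y : Perm ι} (hx : x.IsSwap) (hy : y.IsSwap) (h : x * y ≠ y * x) :
    ∃ p u v, p ≠ u ∧ p ≠ v ∧ u ≠ v ∧ x = swap p u ∧ y = swap p v := by
  obtain ⟨a, b, hab, rfl⟩ := hx
  obtain ⟨c, d, hcd, rfl⟩ := hy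
  by_cases h1 : a = c
  · subst h1; exact ⟨a, b, d, hab, hcd, fun e => h (by rw [e]), rfl, rfl⟩
  by_cases h2 : a = d
  · subst h2; exact ⟨a, b, c, hab, h1, fun e => h (by rw [e, swap_comm]), rfl, swap_comm _ _⟩
  by_cases h3 : b = c
  · subst h3; exact ⟨b, a, d, hab.symm, hcd, h2, swap_comm _ _, rfl⟩
  by_cases h4 : b = d
  · subst h4; exact ⟨b, a, c, hab.symm, h3, h1, swap_comm _ _, swap_comm _ _⟩
  exact absurd (disjoint_swap_swap (by simp [*])).commute.eq h

theorem swap_noncomm {a x y : ι} (hx : a ≠ x) (hy : a ≠ y) (h : x ≠ y) :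
    swap a x * swap a y ≠ swap a y * swap a x := fun e => by
  have := congrArg (· a) e
  simp [swap_apply_of_ne_of_ne, hx.symm, hy.symm, h, h.symm] at this

theorem swap_conj {a x y : ι} (hy : a ≠ y) (h : x ≠ y) : swap a x * swap a y * swap a x = swap x y := by
  rw [swap_comm a y, swap_mul_swap_mul_swap hy.symm h.symm]

variable [Fintype ι]

omit [DecidableEq ι] in
theorem exists_notMem (s : Finset ι) (h : s.card < Fintype.card ι) : ∃ c, c ∉ s := by
  by_contra! h'
  exact h.not_ge (Finset.card_le_card (s := Finset.univ) fun c _ => h' c)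

theorem exists_third (h3 : 3 ≤ Fintype.card ι) (a b : ι) : ∃ c, c ≠ a ∧ c ≠ b := by
  simpa using exists_notMem {a, b} (Finset.card_le_two.trans_lt h3)

theorem exists_conj_of_isSwap (h3 : 3 ≤ Fintype.card ι) (β : Perm ι →* Perm ι) (hβ : Function.Injective β)
    (h : ∀ s : Perm ι, s.IsSwap → (β s).IsSwap) : ∃ σ : Perm ι, ∀ s, β s = σ * s * σ⁻¹ := by
  have h1 : ∀ {a x y : ι}, a ≠ x → a ≠ y → x ≠ y → β (swap a x) * β (swap a y) ≠ β (swap a y) * β (swap a x) :=
    fun hx hy hxy e => swap_noncomm hx hy hxy (hβ (by rwa [map_mul, map_mul]))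
  have h2 : ∀ {a x y : ι}, a ≠ x → a ≠ y → x ≠ y → ∃ p u v, p ≠ u ∧ p ≠ v ∧ u ≠ v ∧ β (swap a x) = swap p u ∧
      β (swap a y) = swap p v ∧ β (swap x y) = swap u v := fun {a x y} hx hy hxy => by
    obtain ⟨p, u, v, k1, k2, k3, k4, k5⟩ := exists_common (h _ ⟨_, _, hx, rfl⟩) (h _ ⟨_, _, hy, rfl⟩) (h1 hx hy hxy)
    exact ⟨p, u, v, k1, k2, k3, k4, k5, by rw [← swap_conj hy hxy, map_mul, map_mul, k4, k5, swap_conj k2 k3]⟩
  have h4 : ∀ a, ∃ p, ∀ x, a ≠ x → β (swap a x) p ≠ p := fun a => by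
    obtain ⟨x, hx, -⟩ := exists_third h3 a a
    obtain ⟨y, hy, hxy⟩ := exists_third h3 a x
    obtain ⟨p, u, v, k1, k2, k3, k4, k5, k6⟩ := h2 hx.symm hy.symm hxy.symm
    refine ⟨p, fun z hz e => ?_⟩
    by_cases hzx : z = x
    · rw [hzx, k4, swap_apply_left] at e; exact k1 e.symm
    by_cases hzy : z = y
    · rw [hzy, k5, swap_apply_left] at e; exact k2 e.symm
    obtain ⟨c, d, hcd, k⟩ := h _ ⟨_, _, hz, rfl⟩
    have m : ∀ {t t'}, a ≠ t → z ≠ t → β (swap a t) = swap p t' → β (swap a z) t' ≠ t' := fun ht hzt k' e' =>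
      h1 hz ht hzt (by rw [k', mul_swap_eq_swap_mul, e, e'])
    have m1 := m hx.symm hzx k4
    have m2 := m hy.symm hzy k5
    rw [k, swap_apply_ne_self_iff] at m1 m2
    have : β (swap a z) = β (swap x y) := by
      rw [k, k6]
      rcases m1.2 with rfl | rfl <;> rcases m2.2 with rfl | rfl <;> simp_all [swap_comm]
    have := congrArg (· a) (hβ this)
    simp [swap_apply_of_ne_of_ne, hx.symm, hy.symm, hz.symm] at this
  choose σ hσ using h4
  have h5 : Function.Injective σ := fun a b e => by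
    by_contra hab
    obtain ⟨c, hca, hcb⟩ := exists_third h3 a b
    obtain ⟨p, u, v, k1, k2, k3, k4, k5, k6⟩ := h2 hab hca.symm hcb.symm
    have m1 := hσ a b hab
    have m2 := hσ a c hca.symm
    have m3 := hσ b c hcb.symm
    rw [k4, swap_apply_ne_self_iff] at m1
    rw [k5, swap_apply_ne_self_iff] at m2
    rw [k6, swap_apply_ne_self_iff, ← e] at m3
    rcases m1.2 with m1 | m1 <;> rcases m2.2 with m2 | m2 <;> rcases m3.2 with m3 | m3 <;> simp_all
  refine ⟨Equiv.ofBijective σ h5.bijective_of_finite, fun s => ?_⟩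
  induction s using swap_induction_on with
  | one => simp
  | swap_mul s a b hab ih =>
    rw [map_mul, ih, ← conj_mul, ← swap_apply_apply]
    congr 1
    obtain ⟨c, d, hcd, k⟩ := h _ ⟨_, _, hab, rfl⟩
    have m1 := hσ a b hab
    have m2 := hσ b a hab.symm
    have m3 := h5.ne hab
    rw [swap_comm] at m2
    rw [k, swap_apply_ne_self_iff] at m1 m2
    rw [k, ofBijective_apply, ofBijective_apply]
    rcases m1.2 with m1 | m1 <;> rcases m2.2 with m2 | m2 <;> simp_all [swap_comm]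

omit [DecidableEq ι] [Fintype ι] in
theorem eq_of_iterate {X : Type*} {β : X → X} {x : X} {n j : ℕ} (hn : n.Coprime 2) (h1 : β^[n] x = x)
    (h2 : β^[2 ^ j] x = x) : β x = x := by
  have := Function.IsPeriodicPt.gcd h1 h2
  rwa [hn.pow_right j] at this

theorem exists_pow_eq_one_of_normalizes {W : Type*} [Group W] [Finite W] (κ : W →* Perm ι)
    (hκ : Function.Surjective κ) (P : Sylow 2 W) {β : W → W} (hP : ∀ s ∈ P, β s ∈ P) {σ : Perm ι}
    (h : ∀ s, κ (β s) = σ * κ s * σ⁻¹) : ∃ j, σ ^ 2 ^ j = 1 := by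
  have h1 : σ ∈ P.mapSurjective hκ := by
    change σ ∈ (P.mapSurjective hκ : Subgroup (Perm ι))
    rw [← CL.KSG.normalizer_sylow_two_perm]
    refine Subgroup.mem_normalizer_fintype ?_
    rintro _ ⟨s, hs, rfl⟩
    exact ⟨β s, hP s hs, h s⟩
  obtain ⟨j, hj⟩ := (P.mapSurjective hκ).isPGroup' ⟨σ, h1⟩
  exact ⟨j, congrArg Subtype.val hj⟩

omit [Fintype ι] in
theorem exists_eq_swap {w x : Perm ι} (hfix : ∀ i j, w i = i → w j = j → i = j) (hc : ∀ i, x (w i) = w (x i))
    (hx : x.IsSwap) : ∃ i, w i ≠ i ∧ x = swap i (w i) := by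
  obtain ⟨a, b, hab, e⟩ := hx
  have h1 := hc a
  rw [e, swap_apply_left] at h1
  by_cases h2 : w a = b
  · exact ⟨a, h2 ▸ hab.symm, h2 ▸ e⟩
  by_cases h4 : w a = a
  · rw [h4, swap_apply_left] at h1
    exact absurd (hfix a b h4 h1.symm) hab
  · rw [swap_apply_of_ne_of_ne h4 h2] at h1
    exact absurd (w.injective h1) hab

/-- The automorphism `β` of `W = C(w)` fixes all transpositions in `W`. -/
theorem fix_swap (h3 : 3 ≤ Fintype.card ι) {w : Perm ι}
    (hw : w = 1 ∨ (w * w = 1 ∧ ∀ i j, w i = i → w j = j → i = j)) (β : Subgroup.centralizer {w} →* Subgroup.centralizer {w})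
    (hβ : Function.Injective β) (h : ∀ s : Subgroup.centralizer {w}, s.1.IsSwap → (β s).1.IsSwap) (P : Sylow 2 _)
    (hP : ∀ s ∈ P, β s ∈ P) {n : ℕ} (hn : n.Coprime 2) (hβn : ∀ s, β^[n] s = s) (r : Subgroup.centralizer {w})
    (hr : r.1.IsSwap) : β r = r := by
  rcases hw with rfl | ⟨hw, hfix⟩
  · have m : ∀ s : Perm ι, s ∈ Subgroup.centralizer {(1 : Perm ι)} := fun s => by
      simp [Subgroup.mem_centralizer_singleton_iff]
    obtain ⟨σ, hσ⟩ := exists_conj_of_isSwap h3 (((Subgroup.subtype _).comp β).comp ((MonoidHom.id _).codRestrict _ m))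
      (fun a b e => congrArg Subtype.val (hβ (Subtype.ext e))) fun s hs => h ⟨s, m s⟩ hs
    obtain ⟨j, hj⟩ := exists_pow_eq_one_of_normalizes (Subgroup.subtype _) (fun s => ⟨⟨s, m s⟩, rfl⟩) P hP
      fun s => hσ s
    refine eq_of_iterate hn (hβn r) (j := j) (Subtype.ext ?_)
    have : ∀ i, (β^[i] r).1 = σ ^ i * r * (σ ^ i)⁻¹ := fun i => by
      induction i with
      | zero => simp
      | succ i ih =>
        have : (β (β^[i] r)).1 = σ * (β^[i] r : Subgroup.centralizer {(1 : Perm ι)}) * σ⁻¹ := hσ _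
        rw [Function.iterate_succ_apply', this, ih, pow_succ']; group
    rw [this, hj]; group
  have hc : ∀ s : Subgroup.centralizer {w}, ∀ i, s.1 (w i) = w (s.1 i) := fun s i =>
    congrArg (· i) (Subgroup.mem_centralizer_singleton_iff.1 s.2)
  have hww : ∀ i, w (w i) = i := fun i => congrArg (· i) hw
  let X := {s : Subgroup.centralizer {w} // s.1.IsSwap}
  have hX : ∀ (s : Subgroup.centralizer {w}) (x : X), (s * x.1 * s⁻¹).1.IsSwap := fun s ⟨x, a, b, hab, e⟩ =>
    ⟨s.1 a, s.1 b, s.1.injective.ne hab, (congrArg (s.1 * · * s.1⁻¹) e).trans (swap_apply_apply _ _ _).symm⟩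
  have hX' : ∀ x : X, ∃ i, w i ≠ i ∧ x.1.1 = swap i (w i) := fun x => exists_eq_swap hfix (hc x.1) x.2
  have : Fintype X := Fintype.ofFinite X
  let : MulAction (Subgroup.centralizer {w}) X :=
    { smul s x := ⟨s * x.1 * s⁻¹, hX s x⟩
      one_smul x := Subtype.ext (show 1 * x.1 * 1⁻¹ = x.1 by group)
      mul_smul s t x := Subtype.ext (show s * t * x.1 * (s * t)⁻¹ = s * (t * x.1 * t⁻¹) * s⁻¹ by group) }
  have hs : ∀ (s : Subgroup.centralizer {w}) (x : X) i, x.1.1 = swap i (w i) → (s • x).1.1 = swap (s.1 i) (w (s.1 i)) :=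
    fun s x i e => (congrArg (s.1 * · * s.1⁻¹) e).trans (by rw [← hc, swap_apply_apply])
  have hne : ∀ {x y : X} {i l}, x.1.1 = swap i (w i) → y.1.1 = swap l (w l) → x ≠ y → l ≠ i ∧ l ≠ w i ∧ w l ≠ i ∧
      w l ≠ w i := fun {x y i l} e e' hxy => by
    have h1 : l ≠ i := fun h => hxy (Subtype.ext (Subtype.ext (by rw [e, e', h])))
    have h2 : l ≠ w i := fun h => hxy (Subtype.ext (Subtype.ext (by rw [e, e', h, hww, swap_comm])))
    exact ⟨h1, h2, fun h => h2 (by rw [← h, hww]), w.injective.ne h1⟩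
  have hκ : Function.Surjective (MulAction.toPermHom (Subgroup.centralizer {w}) X) := by
    rw [← MonoidHom.range_eq_top, eq_top_iff, ← closure_isSwap, Subgroup.closure_le]
    rintro _ ⟨x, y, hxy, rfl⟩
    obtain ⟨i, hi, e⟩ := hX' x
    obtain ⟨l, hl, e'⟩ := hX' y
    obtain ⟨k1, k2, k3, k4⟩ := hne e e' hxy
    refine ⟨⟨swap i l * swap (w i) (w l), Subgroup.mem_centralizer_singleton_iff.2 ?_⟩, Equiv.ext fun z => ?_⟩
    · rw [← mul_assoc, mul_swap_eq_swap_mul w, mul_assoc _ w, mul_swap_eq_swap_mul w, hww, hww, ← mul_assoc,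
        (disjoint_swap_swap (by simp [*, Ne.symm])).commute.eq]
    refine Subtype.ext (Subtype.ext ?_)
    by_cases hzx : z = x
    · rw [hzx, swap_apply_left, e']
      exact (hs _ x i e).trans (by simp [swap_apply_of_ne_of_ne, *, Ne.symm])
    by_cases hzy : z = y
    · rw [hzy, swap_apply_right, e]
      exact (hs _ y l e').trans (by simp [swap_apply_of_ne_of_ne, *, Ne.symm])
    obtain ⟨j, hj, e''⟩ := hX' z
    obtain ⟨m1, m2, -, -⟩ := hne e e'' (Ne.symm hzx)
    obtain ⟨m3, m4, -, -⟩ := hne e' e'' (Ne.symm hzy)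
    rw [swap_apply_of_ne_of_ne hzx hzy, e'']
    exact (hs _ z j e'').trans (by simp [swap_apply_of_ne_of_ne, *])
  let π : X → X := fun x => ⟨β x.1, h _ x.2⟩
  have hπ : Function.Injective π := fun x y e => Subtype.ext (hβ (congrArg Subtype.val e))
  obtain ⟨j, hj⟩ := exists_pow_eq_one_of_normalizes _ hκ P hP (σ := Equiv.ofBijective π hπ.bijective_of_finite)
    fun s => eq_mul_inv_of_mul_eq (Equiv.ext fun x => Subtype.ext
      (show β s * β x.1 * (β s)⁻¹ = β (s * x.1 * s⁻¹) by simp))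
  refine eq_of_iterate hn (hβn r) (j := j) ?_
  have : ∀ i, β^[i] r = ((Equiv.ofBijective π hπ.bijective_of_finite ^ i) ⟨r, hr⟩).1 := fun i => by
    induction i with
    | zero => rfl
    | succ i ih => rw [Function.iterate_succ_apply', ih, pow_succ']; rfl
  rw [this, hj]; rfl

end CL.MonAut
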