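/-
The action of `S_n`, resp. `C_2 ≀ S_m`, on the `2`-part of a maximal torus of `PSL_n(q)`.
-/
import Cfsg.Agent.FUS.MonPerm

set_option autoImplicit false
set_option linter.unusedSectionVars false

namespace CL.MonAut

open Equiv Equiv.Perm

abbrev R (k : ℕ) := ZMod (2 ^ k)

variable {k : ℕ}

theorem cast_ne_zero {j c : ℕ} (hj : j ≤ k) (h : ¬ 2 ^ j ∣ c) : (c : R k) ≠ 0 := fun e =>
  h ((pow_dvd_pow 2 hj).trans ((ZMod.natCast_eq_zero_iff _ _).1 e))

theorem le_of_pow_eq_zero {j : ℕ} (h : (2 : R k) ^ j = 0) : k ≤ j :=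
  (Nat.pow_dvd_pow_iff_le_right one_lt_two).1 ((ZMod.natCast_eq_zero_iff _ _).1 (by exact_mod_cast h))

theorem two_pow_eq_zero : (2 : R k) ^ k = 0 := by exact_mod_cast ZMod.natCast_self (2 ^ k)

theorem chain (x y : R k) : (∃ c : ℤ, x = c * y) ∨ ∃ c : ℤ, y = c * x := by
  obtain ⟨_, h1, u, ⟨u, rfl⟩, rfl⟩ := ZMod.eq_unit_mul_divisor x
  obtain ⟨_, h2, v, ⟨v, rfl⟩, rfl⟩ := ZMod.eq_unit_mul_divisor y
  obtain ⟨a, -, rfl⟩ := (Nat.dvd_prime_pow Nat.prime_two).1 h1
  obtain ⟨b, -, rfl⟩ := (Nat.dvd_prime_pow Nat.prime_two).1 h2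
  rcases le_total a b with h | h <;> obtain ⟨c, rfl⟩ := Nat.exists_eq_add_of_le h
  · obtain ⟨c', e⟩ := ZMod.intCast_surjective ((v * u⁻¹ : (R k)ˣ) * 2 ^ c : R k)
    exact Or.inr ⟨c', by rw [e]; push_cast; linear_combination (-(v : R k) * 2 ^ a * 2 ^ c) * u.inv_mul⟩
  · obtain ⟨c', e⟩ := ZMod.intCast_surjective ((u * v⁻¹ : (R k)ˣ) * 2 ^ c : R k)
    exact Or.inl ⟨c', by rw [e]; push_cast; linear_combination (-(u : R k) * 2 ^ b * 2 ^ c) * v.inv_mul⟩

/-- The involution of `ℤ/2^k`. -/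
def hf (k : ℕ) : R k := 2 ^ (k - 1)

theorem two_mul_hf (hk : 1 ≤ k) : 2 * hf k = 0 := by
  rw [hf, ← pow_succ', Nat.sub_add_cancel hk, two_pow_eq_zero]

theorem hf_ne_zero (hk : 1 ≤ k) : hf k ≠ 0 := fun h => by have := le_of_pow_eq_zero h; omega

theorem eq_zero_or_hf (hk : 1 ≤ k) {x : R k} (h : x + x = 0) : x = 0 ∨ x = hf k := by
  obtain ⟨k, rfl⟩ := Nat.exists_eq_add_of_le' hk
  have h1 : 2 ^ (k + 1) ∣ 2 * x.val := (ZMod.natCast_eq_zero_iff _ _).1 (by simp [two_mul, h])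
  obtain ⟨c, hc⟩ := Nat.dvd_of_mul_dvd_mul_left two_pos ((pow_succ' 2 k).symm.dvd.trans h1)
  have h2 := x.val_lt
  rw [hc, pow_succ, Nat.mul_lt_mul_left (by positivity)] at h2
  rw [← x.natCast_zmod_val, hc]
  interval_cases c <;> simp [hf]

theorem exists_hf_eq (hk : 3 ≤ k) : ∃ u : R k, 2 ^ (k - 2) = 2 * u ∧ hf k = 4 * u ∧ 8 * u = 0 := by
  obtain ⟨k, rfl⟩ := Nat.exists_eq_add_of_le' hk
  exact ⟨2 ^ k, pow_succ' _ _, by simp [hf]; ring, by rw [← two_pow_eq_zero (k := k + 3)]; ring⟩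

variable {ι : Type*} [Fintype ι] [DecidableEq ι] {q : R k} {w s : Perm ι}

/-- The two kinds of tori: `q ≡ 1` and `q ≡ 3 (mod 4)`. -/
structure Par (q : R k) (w : Perm ι) : Prop where
  three : 3 ≤ Fintype.card ι
  cases : (w = 1 ∧ q = 1 ∧ 2 ≤ k) ∨
    ((∀ i, w (w i) = i) ∧ (∀ i j, w i = i → w j = j → i = j) ∧ 3 ≤ k ∧ q = hf k - 1)

def Lam (q : R k) (w : Perm ι) : AddSubgroup (ι → R k) where
  carrier := {d | (∀ i, d (w i) = q * d i) ∧ ∑ i, d i = 0}
  zero_mem' := by simp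
  add_mem' {a b} ha hb := ⟨fun i => by simp [ha.1, hb.1, mul_add], by simp [Finset.sum_add_distrib, ha.2, hb.2]⟩
  neg_mem' {a} ha := ⟨fun i => by simp [ha.1], by simp [ha.2]⟩

def Cst (d : ι → R k) : Prop := ∀ i j, d i = d j

theorem cst_of_eq {d : ι → R k} {c : R k} (h : ∀ i, d i = c) : Cst d := fun i j => (h i).trans (h j).symm

def act (s : Perm ι) (d : ι → R k) : ι → R k := fun i => d (s⁻¹ i)

/-- The commutator map `s - 1`. -/
def cm (s : Perm ι) (d : ι → R k) : ι → R k := act s d - d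

def F (q : R k) (w : Perm ι) (i : ι) : ι → R k := fun j => if j = i then 1 else if j = w i then q else 0

def Com (w s : Perm ι) : Prop := ∀ i, s (w i) = w (s i)

def PropR (q : R k) (w s : Perm ι) : Prop := ∀ d ∈ Lam q w, ∀ e ∈ Lam q w,
  (∃ c : ℤ, Cst (cm s d - c • cm s e)) ∨ ∃ c : ℤ, Cst (cm s e - c • cm s d)

def PropE (q : R k) (w s : Perm ι) (j : ℕ) : Prop := ∀ d ∈ Lam q w, Cst (j • cm s d)

theorem Com.inv (h : Com w s) : Com w s⁻¹ := fun i => by rw [inv_eq_iff_eq, h]; simp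

theorem act_mem (h : Com w s) {d : ι → R k} (hd : d ∈ Lam q w) : act s d ∈ Lam q w :=
  ⟨fun i => by rw [act, h.inv, hd.1, act], (Equiv.sum_comp s⁻¹ d).trans hd.2⟩

theorem cm_mem (h : Com w s) {d : ι → R k} (hd : d ∈ Lam q w) : cm s d ∈ Lam q w := sub_mem (act_mem h hd) hd

theorem smul_mem_lam (c : R k) {d : ι → R k} (hd : d ∈ Lam q w) : c • d ∈ Lam q w :=
  ⟨fun i => by simp [hd.1, mul_left_comm], by simp [← Finset.mul_sum, hd.2]⟩

theorem cm_F (h : Com w s) (i : ι) : cm s (F q w i) = F q w (s i) - F q w i := by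
  ext j; simp [cm, act, F, symm_apply_eq, h i]

theorem cm_sub (d e : ι → R k) : cm s (d - e) = cm s d - cm s e := by ext j; simp [cm, act]; ring

theorem cm_add (d e : ι → R k) : cm s (d + e) = cm s d + cm s e := by ext j; simp [cm, act]; ring

theorem cm_smul (c : R k) (d : ι → R k) : cm s (c • d) = c • cm s d := by ext j; simp [cm, act]; ring

theorem cm_swap (i l : ι) (d : ι → R k) (j : ι) :
    cm (swap i l) d j = if j = i then d l - d i else if j = l then d i - d l else 0 := by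
  simp only [cm, act, swap_inv, Pi.sub_apply, swap_apply_def]
  split_ifs <;> simp [*]

theorem sum_F {i : ι} (hi : w i ≠ i) : ∑ j, F q w i j = 1 + q := by
  rw [Finset.sum_eq_add i (w i) hi.symm] <;> simp +contextual [F, hi]

namespace Par

variable (H : Par q w)
include H

theorem one_le : 1 ≤ k := by rcases H.cases with h | h <;> omega

theorem ww (i : ι) : w (w i) = i := by
  rcases H.cases with ⟨rfl, -⟩ | h
  exacts [rfl, h.1 i]

theorem exists_ne (h : ∀ i j, w i = i → w j = j → i = j) : ∃ i, w i ≠ i := by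
  by_contra! h'
  obtain ⟨i, j, hij⟩ := Fintype.exists_pair_of_one_lt_card (α := ι) (by have := H.three; omega)
  exact hij (h i j (h' i) (h' j))

theorem sq : q * q = 1 := by
  rcases H.cases with ⟨-, rfl, -⟩ | ⟨-, -, h, rfl⟩
  · exact one_mul _
  · obtain ⟨u, -, h1, h2⟩ := exists_hf_eq h
    rw [h1]; linear_combination (2 * u - 1) * h2

theorem F_tw {i : ι} (hi : w = 1 ∨ w i ≠ i) (j : ι) : F q w i (w j) = q * F q w i j := by
  by_cases hw : w = 1
  · rcases H.cases with ⟨rfl, rfl, -⟩ | h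
    · simp
    · obtain ⟨i, hi⟩ := H.exists_ne h.2.1
      exact absurd (by rw [hw]; rfl) hi
  have hi := hi.resolve_left hw
  by_cases h1 : j = i
  · simp [F, h1, hi]
  by_cases h2 : j = w i
  · simp [F, h2, hi, H.ww, H.sq]
  have : w j ≠ i := fun e => h2 (by rw [← e, H.ww])
  simp [F, h1, h2, this]

theorem F_sub_mem {i j : ι} (h : w = 1 ∨ (w i ≠ i ∧ w j ≠ j)) : F q w i - F q w j ∈ Lam q w := by
  refine ⟨fun l => by simp [H.F_tw (h.imp_right And.left), H.F_tw (h.imp_right And.right), mul_sub], ?_⟩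
  simp only [Pi.sub_apply, Finset.sum_sub_distrib]
  rcases h with rfl | h
  · simp +contextual [F]
  · rw [sum_F h.1, sum_F h.2, sub_self]

theorem two_F_mem (hq : q = hf k - 1) {i : ι} (hi : w i ≠ i) : (2 : R k) • F q w i ∈ Lam q w :=
  ⟨fun l => by simp [H.F_tw (Or.inr hi), mul_left_comm], by
    simp [← Finset.mul_sum, sum_F hi, hq, two_mul_hf H.one_le]⟩

theorem F_add_mem (hq : q = hf k - 1) {i p : ι} (hi : w i ≠ i) (hp : w p = p) :
    F q w i + hf k • F q w p ∈ Lam q w := by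
  have h1 : ∀ l, F q w p l = if l = p then 1 else 0 := fun l => by simp +contextual [F, hp]
  have h2 : q * hf k = hf k := by
    have := H.sq
    rw [hq] at this ⊢
    linear_combination this
  refine ⟨fun l => ?_, ?_⟩
  · have : w l = p ↔ l = p := ⟨fun e => by rw [← H.ww l, e, hp], fun e => by rw [e, hp]⟩
    simp [H.F_tw (Or.inr hi), h1, this, mul_add, h2]
  · simp only [Pi.add_apply, Finset.sum_add_distrib, sum_F hi, Pi.smul_apply, h1]
    simp [hq, ← two_mul, two_mul_hf H.one_le]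

theorem two_ne : (2 : R k) ≠ 0 := by
  exact_mod_cast cast_ne_zero (j := 2) (c := 2) (by rcases H.cases with h | h <;> omega) (by decide)

theorem faithful (hs : Com w s) (h : ∀ d ∈ Lam q w, Cst (cm s d)) : s = 1 := by
  by_contra h1
  obtain ⟨i, hi⟩ : ∃ i, s i ≠ i := by
    by_contra! h'
    exact h1 (Equiv.ext h')
  rcases H.cases with ⟨rfl, rfl, hk⟩ | ⟨-, hfix, hk, hq⟩
  · obtain ⟨l, h2, h3⟩ := exists_third H.three i (s i)
    have := h _ (H.F_sub_mem (i := i) (j := l) (Or.inl rfl)) (s i) i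
    have h4 : (3 : R k) ≠ 0 := by exact_mod_cast cast_ne_zero (c := 3) hk (by decide)
    by_cases h5 : i = s l
    · simp [cm_sub, cm_F hs, F, hi, hi.symm, h2.symm, h3.symm, ← h5] at this
      exact h4 (by linear_combination this)
    · simp [cm_sub, cm_F hs, F, hi, hi.symm, h2.symm, h3.symm, h5] at this
      exact H.two_ne (by linear_combination this)
  have h2 : w i ≠ i := fun e => hi (hfix _ _ (by rw [← hs, e]) e)
  have h3 := h _ (H.two_F_mem hq h2)
  have h4 : (4 : R k) ≠ 0 := by exact_mod_cast cast_ne_zero (c := 4) hk (by decide)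
  have h6 := two_mul_hf H.one_le
  by_cases h5 : s i = w i
  · obtain ⟨l, k1, k2⟩ := exists_third H.three i (w i)
    have := h3 (w i) l
    simp [cm_smul, cm_F hs, F, h5, h2, k1, k2, H.ww, hq] at this
    exact h4 (by linear_combination this + h6)
  have := h3 (s i) i
  by_cases h7 : i = w (s i)
  · simp [cm_smul, cm_F hs, F, hi, hi.symm, h5, ← h7, hq] at this
    have h8 : (6 : R k) ≠ 0 := by exact_mod_cast cast_ne_zero (c := 6) hk (by decide)
    exact h8 (by linear_combination this + h6)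
  · simp [cm_smul, cm_F hs, F, hi, hi.symm, h5, h7] at this
    exact h4 (by linear_combination this)

theorem four_ne (hk : 3 ≤ k) : (4 : R k) ≠ 0 := by exact_mod_cast cast_ne_zero (c := 4) hk (by decide)

omit H in
theorem card_le_of_cover {a b c e : ι} (h : ∀ p, p ≠ a → p ≠ b → p ≠ c → p = e) : Fintype.card ι ≤ 4 :=
  (Finset.card_le_card (s := Finset.univ) (t := {a, b, c, e}) fun p _ => by have := h p; simp; tauto).trans
    Finset.card_le_four

omit H in
theorem cover {a b c e : ι} (h : Fintype.card ι ≤ 4) (hn : [a, b, c, e].Nodup) (p : ι) :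
    p = a ∨ p = b ∨ p = c ∨ p = e := by
  have := Finset.eq_univ_of_card [a, b, c, e].toFinset
    (le_antisymm (Finset.card_le_univ _) (by rwa [List.toFinset_card_of_nodup hn]))
  simpa using this.ge (Finset.mem_univ p)

theorem quad (hs : Com w s) (h2 : ∀ i, s (s i) = i) (h1 : s ≠ 1) (h : ∀ d ∈ Lam q w, Cst (cm s (cm s d))) :
    Fintype.card ι ≤ 4 ∧ (∀ i, s i ≠ i) ∧ (w = 1 ∧ k = 2 ∨ w ≠ 1 ∧ k = 3) := by
  obtain ⟨i, hi⟩ : ∃ i, s i ≠ i := by
    by_contra! h'
    exact h1 (Equiv.ext h')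
  have e : ∀ i j, s i = j ↔ i = s j := fun i j => ⟨fun e => by rw [← e, h2], fun e => by rw [e, h2]⟩
  have t := H.two_ne
  rcases H.cases with ⟨rfl, rfl, hk⟩ | ⟨-, hfix, hk, hq⟩
  · have h3 : ∀ l, s l ≠ l := fun l hl => by
      have k1 : l ≠ i := fun e => hi (e ▸ hl)
      have k2 : l ≠ s i := fun e' => k1 (by rw [← h2 i, ← e', hl])
      have := h _ (H.F_sub_mem (i := i) (j := l) (Or.inl rfl)) i l
      simp [cm_sub, cm_F hs, F, h2, hl, hi.symm, k1, k2] at this
      exact t (by linear_combination this)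
    obtain ⟨l, k1, k2⟩ := exists_third H.three i (s i)
    have k3 : i ≠ s l := fun e' => k2 ((e _ _).2 e').symm
    have := h _ (H.F_sub_mem (i := i) (j := l) (Or.inl rfl))
    refine ⟨card_le_of_cover (a := i) (b := s i) (c := l) (e := s l) fun p p1 p2 p3 => by_contra fun p4 => ?_, h3,
      Or.inl ⟨rfl, le_antisymm (le_of_pow_eq_zero ?_) hk⟩⟩
    · have := this i p
      simp [cm_sub, cm_F hs, F, h2, hi.symm, k1.symm, k3, p1, p2, p3, p4] at this
      exact t (by linear_combination this)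
    · have := this i (s i)
      simp [cm_sub, cm_F hs, F, h2, hi, hi.symm, k1.symm, k2.symm, k3] at this
      linear_combination this
  have hw : w ≠ 1 := fun e => (H.exists_ne hfix).elim fun i hi => hi (by rw [e]; rfl)
  have f := H.four_ne hk
  have h6 := two_mul_hf H.one_le
  have g : ∀ i, s i ≠ i → w i ≠ i := fun i hi e => hi (hfix _ _ (by rw [← hs, e]) e)
  have e' : ∀ i j, w i = j ↔ i = w j := fun i j => ⟨fun e => by rw [← e, H.ww], fun e => by rw [e, H.ww]⟩
  by_cases h3 : ∃ i, s i ≠ i ∧ s i ≠ w i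
  · obtain ⟨i, hi, h3⟩ := h3
    have := h _ (H.two_F_mem hq (g i hi))
    have k1 : i ≠ w (s i) := fun e => h3 ((e' _ _).2 e).symm
    have c : ∀ p, p ≠ i → p ≠ w i → p ≠ s i → p = w (s i) := fun p p1 p2 p3 => by_contra fun p4 => by
      have := this i p
      simp [cm_smul, cm_sub, cm_F hs, F, h2, hi.symm, k1, p1, p2, p3, p4] at this
      exact f (by linear_combination this)
    refine ⟨card_le_of_cover c, fun p hp => ?_, Or.inr ⟨hw, le_antisymm (le_of_pow_eq_zero ?_) hk⟩⟩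
    · have := c p (fun e => hi (e ▸ hp)) (fun e => hi (w.injective (by rw [← hs, ← e, hp])))
        fun e => hi (by rw [← e, ← hp, e, h2])
      exact hi (w.injective (by rw [← this, ← hp, this, hs, h2]))
    · have := this i (s i)
      simp [cm_smul, cm_sub, cm_F hs, F, h2, hi, hi.symm, k1, h3] at this
      linear_combination this
  push Not at h3
  have k0 := g i hi
  have g' : ∀ p, w p ≠ p := fun p hp => by
    have p1 : p ≠ i := fun e => k0 (e ▸ hp)
    have p2 : p ≠ w i := fun e => p1 (by rw [← hp, e, H.ww])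
    have p3 : s p = p := hfix _ _ (by rw [← hs, hp]) hp
    have := h _ (H.F_add_mem hq k0 hp) i p
    simp [cm_smul, cm_add, cm_sub, cm_F hs, F, h3 i hi, hs i, H.ww, k0.symm, p1, p2, p3, hq] at this
    exact f (by linear_combination this + h6)
  have g'' : ∀ l, s l ≠ l := fun l hl => by
    have p1 : l ≠ i := fun e => hi (e ▸ hl)
    have p2 : l ≠ w i := fun e => p1 (by rw [← hl, e, ← h3 i hi, h2])
    have := h _ (H.F_sub_mem (i := i) (j := l) (Or.inr ⟨k0, g' l⟩)) i l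
    simp [cm_sub, cm_F hs, F, h3 i hi, hs i, H.ww, k0.symm, p1, p2, hl, hq] at this
    exact f (by linear_combination this + h6)
  obtain ⟨l, k1, k2⟩ := exists_third H.three i (w i)
  have k3 : i ≠ w l := fun e => k2 ((e' _ _).2 e).symm
  have := h _ (H.F_sub_mem (i := i) (j := l) (Or.inr ⟨k0, g' l⟩))
  refine ⟨card_le_of_cover (a := i) (b := w i) (c := l) (e := w l) fun p p1 p2 p3 => by_contra fun p4 => ?_, g'',
    Or.inr ⟨hw, le_antisymm (le_of_pow_eq_zero ?_) hk⟩⟩
  · have := this i p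
    simp [cm_sub, cm_F hs, F, h3 _ (g'' _), H.ww, k0.symm, k1.symm, k3, p1, p2, p3, p4, hq] at this
    exact f (by linear_combination this + h6)
  · have := this i l
    simp [cm_sub, cm_F hs, F, h3 _ (g'' _), H.ww, k0.symm, (g' l).symm, k1, k1.symm, k2, k3, hq] at this
    linear_combination this + 2 * h6

theorem not_quad (hs : Com w s) (h2 : ∀ i, s (s i) ≠ i) (h4 : ∀ i, s (s (s (s i))) = i)
    (hw : w ≠ 1 → ∀ i, w i = s (s i)) : ¬ ∀ d ∈ Lam q w, Cst (cm s (cm s d)) := fun h => by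
  obtain ⟨a⟩ : Nonempty ι := Fintype.card_pos_iff.1 (by have := H.three; omega)
  have h1 : ∀ i, s i ≠ i := fun i e => h2 i (by rw [e, e])
  have h3 : ∀ i, s (s (s i)) ≠ i := fun i e => h1 i (by rw [← e, h4, e])
  rcases H.cases with ⟨rfl, rfl, hk⟩ | ⟨-, hfix, hk, hq⟩
  · have := h _ (H.F_sub_mem (i := a) (j := s a) (Or.inl rfl)) a (s (s a))
    simp [cm_sub, cm_F hs, F, h1, h2, (h1 _).symm, (h2 _).symm, (h3 _).symm] at this
    exact H.two_ne (by linear_combination -this)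
  have hw := hw fun e => (H.exists_ne hfix).elim fun i hi => hi (by rw [e]; rfl)
  have := h _ (H.F_sub_mem (i := a) (j := s a) (Or.inr ⟨hw _ ▸ h2 _, hw _ ▸ h2 _⟩)) a (s (s a))
  simp [cm_sub, cm_F hs, F, hw, h4, h1, h2, (h1 _).symm, (h2 _).symm, (h3 _).symm, hq] at this
  exact H.four_ne hk (by linear_combination this + two_mul_hf H.one_le)

omit H in
theorem sum_four {a b c e : ι} (h : Fintype.card ι ≤ 4) (hn : [a, b, c, e].Nodup) (d : ι → R k) :
    ∑ i, d i = d a + d b + d c + d e := by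
  rw [← Finset.eq_univ_of_card [a, b, c, e].toFinset
    (le_antisymm (Finset.card_le_univ _) (by rwa [List.toFinset_card_of_nodup hn])), List.sum_toFinset _ hn]
  simp [add_assoc]

theorem exists_sqrt {a b c e : ι} (h : Fintype.card ι ≤ 4) (hn : [a, b, c, e].Nodup)
    (hw : w = 1 ∧ k = 2 ∨ (w a = b ∧ w c = e) ∧ k = 3) {d : ι → R k} (hd : d ∈ Lam q w) (h2 : Cst (d + d)) :
    ∃ u ∈ Lam q w, Cst (d - (u + u)) := by
  have hs := hd.2
  rw [sum_four h hn] at hs
  have hn' := hn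
  simp only [List.nodup_cons, List.mem_cons, List.not_mem_nil, or_false, not_or] at hn'
  obtain ⟨⟨n1, n2, n3⟩, ⟨n4, n5⟩, n6, -⟩ := hn'
  rcases H.cases with ⟨rfl, rfl, -⟩ | ⟨-, hfix, hk, hq⟩
  · obtain rfl : k = 2 := by rcases hw with h | h; exacts [h.2, absurd h.1.1 n1]
    have t : ∀ x y : R 2, x + x = y + y → ∃ u, x = y + 2 * u := by decide
    obtain ⟨x, hx⟩ := t _ _ (h2 b a)
    obtain ⟨y, hy⟩ := t _ _ (h2 c a)
    obtain ⟨z, hz⟩ := t _ _ (h2 e a)
    have f : (4 : R 2) = 0 := by decide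
    refine ⟨fun i => if i = b then x else if i = c then y else if i = e then z else -(x + y + z), ⟨by simp, ?_⟩,
      cst_of_eq (c := d a) fun i => ?_⟩
    · simp [sum_four h hn, *, Ne.symm]; ring
    · rcases cover h hn i with rfl | rfl | rfl | rfl <;> simp [n1, n2, n3, Ne.symm n4, Ne.symm n5, Ne.symm n6]
      · linear_combination hs - hx - hy - hz - (d i + x + y + z) * f
      all_goals simp [*, two_mul]
  obtain ⟨⟨rfl, rfl⟩, rfl⟩ : (w a = b ∧ w c = e) ∧ k = 3 :=
    hw.resolve_left fun h => (H.exists_ne hfix).elim fun i hi => hi (by rw [h.1]; rfl)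
  have t : ∀ x y : R 3, x + x = y + y → x + x = 3 * x + 3 * x → ∃ u v, x = u + u ∧ y = v + v ∧ u + 3 * u + v + 3 * v = 0 := by
    decide
  obtain rfl : q = 3 := hq.trans (by decide)
  obtain ⟨x, y, hx, hy, hxy⟩ := t _ _ (h2 a c) (hd.1 a ▸ h2 a (w a))
  refine ⟨x • F 3 w a + y • F 3 w c, ⟨fun i => by simp [H.F_tw (Or.inr (Ne.symm n1)), H.F_tw (Or.inr (Ne.symm n6))]; ring, ?_⟩,
    cst_of_eq (c := 0) fun i => ?_⟩
  · simpa [sum_four h hn, F, *, Ne.symm, mul_comm] using hxy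
  · rcases cover h hn i with rfl | rfl | rfl | rfl <;> simp [F, hd.1, *, Ne.symm] <;> ring

omit H in
theorem propR_swap (i l : ι) : PropR q w (swap i l) := fun d _ e _ => by
  refine (chain (d l - d i) (e l - e i)).imp (fun ⟨c, h⟩ => ⟨c, cst_of_eq (c := 0) fun j => ?_⟩)
    fun ⟨c, h⟩ => ⟨c, cst_of_eq (c := 0) fun j => ?_⟩ <;>
  · simp only [Pi.sub_apply, Pi.smul_apply, cm_swap]
    rw [zsmul_eq_mul]
    split_ifs
    exacts [by linear_combination h, by linear_combination -h, by simp]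

theorem not_propR (hs : Com w s) (h2 : ∀ i, s (s i) = i) {i l : ι} (hi : s i ≠ i) (hl : s l ≠ l)
    (h1 : l ≠ i) (h3 : l ≠ s i) (h4 : l ≠ w i) (h5 : l ≠ w (s i)) (h6 : s i = w i ↔ s l = w l) :
    ¬ PropR q w s := fun h => by
  have e : ∀ i j, s i = j ↔ i = s j := fun i j => ⟨fun e => by rw [← e, h2], fun e => by rw [e, h2]⟩
  have e' : ∀ i j, w i = j ↔ i = w j := fun i j => ⟨fun e => by rw [← e, H.ww], fun e => by rw [e, H.ww]⟩
  have g : ∀ i j, s i ≠ i → s j ≠ j → w = 1 ∨ w i ≠ i ∧ w j ≠ j := fun i j hi hj => H.cases.imp And.left fun h =>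
    ⟨fun e => hi (h.2.1 _ _ (by rw [← hs, e]) e), fun e => hj (h.2.1 _ _ (by rw [← hs, e]) e)⟩
  have k1 : s l ≠ i := (e _ _).not.2 h3
  have k2 : s l ≠ s i := s.injective.ne h1
  have k3 : s l ≠ w i := (e _ _).not.2 (hs i ▸ h5)
  have k4 : s l ≠ w (s i) := hs i ▸ s.injective.ne h4
  have k5 : s i ≠ w l := fun e => h5 ((e' _ _).1 e.symm)
  have k6 : s i ≠ w (s l) := fun e => k4 ((e' _ _).1 e.symm)
  have k7 : l = w (s l) ↔ s l = w l := by rw [← e', eq_comm]
  have t : s i = w i → (1 - q) + (1 - q) ≠ 0 := fun e => by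
    rcases H.cases with ⟨rfl, -⟩ | ⟨-, -, hk, hq⟩
    · exact absurd e hi
    · exact fun h => H.four_ne hk (by rw [hq] at h; linear_combination h + two_mul_hf H.one_le)
  rcases h _ (H.F_sub_mem (g i l hi hl)) _ (H.F_sub_mem (g i (s l) hi (by rw [h2]; exact hl.symm))) with
    ⟨c, h⟩ | ⟨c, h⟩
  · have := h (s i) (s l)
    by_cases k : s i = w i
    · simp [cm_sub, cm_F hs, F, h2, hi, hl, h3.symm, k1, k2, k2.symm, k3, k4, k5, k6, if_pos k, if_pos (h6.1 k)] at this
      exact t k (by linear_combination this)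
    · simp [cm_sub, cm_F hs, F, h2, hi, hl, h3.symm, k1, k2, k2.symm, k3, k4, k5, k6, k, h6.not.1 k] at this
      exact H.two_ne (by linear_combination this)
  · have := h (s i) l
    by_cases k : s i = w i
    · simp [cm_sub, cm_F hs, F, h2, hi, hl.symm, h1, h3, h3.symm, h4, h5, k2.symm, k5, k6, if_pos k,
        if_pos (k7.2 (h6.1 k))] at this
      exact t k (by linear_combination this)
    · simp [cm_sub, cm_F hs, F, h2, hi, hl.symm, h1, h3, h3.symm, h4, h5, k2.symm, k5, k6, k,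
        k7.not.2 (h6.not.1 k)] at this
      exact H.two_ne (by linear_combination this)

theorem exists_one (hq : q = hf k - 1) {i p : ι} (hi : w i ≠ i)
    (h1 : p ≠ i) (h2 : p ≠ w i) : ∃ d ∈ Lam q w, d i = 1 ∧ (∀ j, j ≠ i → j ≠ w i → j ≠ p → j ≠ w p → d j = 0) ∧
      hf k * d (w p) = hf k * d p := by
  have h3 : i ≠ w p := fun e => h2 (by rw [e, H.ww])
  by_cases hp : w p = p
  · exact ⟨_, H.F_add_mem hq hi hp, by simp [F, h1.symm, h3], by simp +contextual [F], by rw [hp]⟩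
  refine ⟨_, H.F_sub_mem (Or.inr ⟨hi, hp⟩), by simp [F, h1.symm, h3], by simp +contextual [F], ?_⟩
  have := H.sq
  simp [F, h1, h2, h3.symm, hp, hq] at this ⊢
  linear_combination -this

theorem isSwap_iff : ∃ j₁ j₂ : ℕ, ∀ s, Com w s → (∀ i, s (s i) = i) →
    (s.IsSwap ↔ PropR q w s ∧ PropE q w s j₁ ∧ ¬ PropE q w s j₂) := by
  have e1 : ∀ {s : Perm ι} {j}, ¬ PropE q w s j → ∃ i, s i ≠ i := fun {s j} h => by
    by_contra! h'
    exact h fun d _ => cst_of_eq (c := 0) fun i => by simp [cm, act, show s = 1 from Equiv.ext h']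
  have e2 : ∀ {s : Perm ι} {i}, (∀ i, s (s i) = i) → s i ≠ i → (∀ l, l ≠ i → l ≠ s i → s l = l) → s.IsSwap :=
    fun {s i} h2 hi h => ⟨i, s i, hi.symm, Equiv.ext fun l => by
      rw [swap_apply_def]; split_ifs with h3 h4
      exacts [by rw [h3], by rw [h4, h2], h l h3 h4]⟩
  rcases H.cases with ⟨rfl, rfl, hk⟩ | ⟨-, hfix, hk, hq⟩
  · refine ⟨0, 1, fun s hs h2 => ⟨?_, fun ⟨h3, _, h4⟩ => ?_⟩⟩
    · rintro ⟨a, b, hab, rfl⟩
      exact ⟨propR_swap a b, fun d _ => by simp [Cst], fun h => hab (swap_eq_one_iff.1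
        (H.faithful hs fun d hd => by simpa using h d hd))⟩
    obtain ⟨i, hi⟩ := e1 h4
    exact e2 h2 hi fun l h5 h6 => by_contra fun hl => H.not_propR hs h2 hi hl h5 h6 h5 h6 (by simp [hi, hl]) h3
  obtain ⟨u, u1, u2, u3⟩ := exists_hf_eq hk
  have h0 := hf_ne_zero H.one_le
  refine ⟨2 ^ (k - 1), 2 ^ (k - 2), fun s hs h2 => ⟨fun h => ?_, fun ⟨h3, h4, h5⟩ => ?_⟩⟩
  · obtain ⟨i, hi, rfl⟩ := exists_eq_swap hfix hs h
    refine ⟨propR_swap _ _, fun d hd => cst_of_eq (c := 0) fun j => ?_, fun h => ?_⟩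
    · rw [Pi.smul_apply, cm_swap, nsmul_eq_mul, hd.1, hq, Nat.cast_pow, Nat.cast_ofNat, ← hf, u2]
      split_ifs
      exacts [by linear_combination (2 * u - 1) * d i * u3, by linear_combination (1 - 2 * u) * d i * u3, mul_zero _]
    obtain ⟨p, p1, p2⟩ := exists_third H.three i (w i)
    obtain ⟨d, hd, d1, -⟩ := H.exists_one hq hi p1 p2
    have := h d hd i p
    simp [cm_swap, p1, p2, hd.1, d1, hq, u1, u2] at this
    exact h0 (by rw [u2]; linear_combination -this + u * u3)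
  by_cases h6 : ∃ i, s i ≠ i ∧ s i ≠ w i
  · obtain ⟨i, hi, h6⟩ := h6
    have g : w i ≠ i := fun e => hi (hfix _ _ (by rw [← hs, e]) e)
    have k1 : i ≠ w (s i) := fun e => h6 (by rw [e, H.ww, ← e])
    have c : ∀ p, p ≠ i → p ≠ w i → p ≠ s i → p = w (s i) := fun p p1 p2 p3 => by_contra fun p4 => by
      by_cases p5 : s p = p ∨ s p = w p
      · obtain ⟨d, hd, d1, d2, d3⟩ := H.exists_one hq g p1 p2
        have := h4 d hd (s i) (s p)
        simp only [Pi.smul_apply, cm, act, Pi.sub_apply, coe_inv, symm_apply_apply, nsmul_eq_mul, Nat.cast_pow, Nat.cast_ofNat,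
          ← hf.eq_1, d1, d2 _ hi h6 p3.symm fun e => p4 (by rw [e, H.ww])] at this
        rcases p5 with p5 | p5 <;> rw [p5] at this
        exacts [h0 (by linear_combination this), h0 (by linear_combination this - d3)]
      · push Not at p5
        exact H.not_propR hs h2 hi p5.1 p1 p3 p2 p4 (by simp [h6, p5.2]) h3
    have hn : [i, w i, s i, w (s i)].Nodup := by
      simp [g.symm, hi.symm, k1, h6.symm, show s i ≠ w (s i) from fun e => g (s.injective (by rw [hs, ← e]))]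
    refine absurd (fun d hd => cst_of_eq (c := 2 * u * (d (s i) - d i)) fun j => ?_) h5
    have hd2 := hd.2
    rw [sum_four (card_le_of_cover c) hn, hd.1, hd.1, hq, u2] at hd2
    have e3 : s⁻¹ = s := inv_eq_of_mul_eq_one_right (Equiv.ext h2)
    rcases cover (card_le_of_cover c) hn j with rfl | rfl | rfl | rfl <;>
      simp only [Pi.smul_apply, cm, act, Pi.sub_apply, e3, nsmul_eq_mul, Nat.cast_pow, Nat.cast_ofNat, u1, hs _, h2,
        hd.1, hq, u2]
    · linear_combination (u * (d (s i) - d i) + d i) * u3 - hd2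
    · linear_combination d i * u3 - hd2
    · linear_combination -u * (d (s i) - d i) * u3
  push Not at h6
  obtain ⟨i, hi⟩ := e1 h5
  exact e2 h2 hi fun l k1 k2 => by_contra fun hl => H.not_propR hs h2 hi hl k1 k2 (h6 i hi ▸ k2)
    (by rwa [h6 i hi, H.ww]) (by simp [h6 i hi, h6 l hl]) h3

theorem mem_of_cst_swap (Φ : AddSubgroup (ι → R k)) (h1 : ∀ d ∈ Lam q w, Cst d → d ∈ Φ)
    (h2 : ∀ r, Com w r → r.IsSwap → ∀ d ∈ Lam q w, cm r d ∈ Φ) {v : ι → R k} (hv : v ∈ Lam q w)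
    (h : ∀ r, Com w r → r.IsSwap → Cst (cm r v)) : v ∈ Φ := by
  rcases H.cases with ⟨rfl, rfl, hk⟩ | ⟨-, hfix, hk, hq⟩
  · refine h1 v hv fun i l => by_contra fun h3 => ?_
    have h4 : i ≠ l := fun e => h3 (by rw [e])
    obtain ⟨p, p1, p2⟩ := exists_third H.three i l
    have := h (swap i l) (fun _ => rfl) ⟨i, l, h4, rfl⟩ l p
    simp [cm_swap, p1, p2, h4.symm, sub_eq_zero] at this
    exact h3 this
  obtain ⟨u, u1, u2, u3⟩ := exists_hf_eq hk
  have c : ∀ i, Com w (swap i (w i)) := fun i j => by rw [w.injective.map_swap, H.ww, swap_comm]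
  have h3 : ∀ i, v i + v i = 0 := fun i => by
    have : q * v i = v i := by
      by_cases hi : w i = i
      · rw [← hv.1, hi]
      obtain ⟨p, p1, p2⟩ := exists_third H.three i (w i)
      have := h _ (c i) ⟨_, _, Ne.symm hi, rfl⟩ i p
      simpa [cm_swap, p1, p2, hv.1, sub_eq_zero] using this
    rw [hq, u2] at this
    linear_combination (-1 - 2 * u) * this + u * v i * u3
  clear h
  induction hn : (Finset.univ.filter (v · ≠ 0)).card using Nat.strong_induction_on generalizing v with | _ n ih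
  by_cases h4 : ∃ i, w i ≠ i ∧ v i ≠ 0
  · obtain ⟨i, hi, h4⟩ := h4
    obtain ⟨p, p1, p2⟩ := exists_third H.three i (w i)
    obtain ⟨d, hd, d1, -⟩ := H.exists_one hq hi p1 p2
    have h5 := (eq_zero_or_hf H.one_le (h3 i)).resolve_left h4
    have h6 := smul_mem_lam (2 * u) hd
    have h7 : ∀ j, (v - cm (swap i (w i)) ((2 * u) • d)) j = if j = i ∨ j = w i then 0 else v j := fun j => by
      rw [Pi.sub_apply, cm_swap]
      by_cases j1 : j = i
      · simp [j1, hd.1, d1, hq, h5, u2]; linear_combination (1 - u) * u3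
      by_cases j2 : j = w i
      · simp [j2, hi, hd.1, hv.1, d1, hq, h5, u2]; linear_combination (3 * u - 1) * u3
      simp [j1, j2]
    rw [← sub_add_cancel v (cm (swap i (w i)) ((2 * u) • d))]
    refine add_mem (ih _ (hn ▸ Finset.card_lt_card ⟨fun j => ?_, fun h => ?_⟩) (sub_mem hv (cm_mem (c i) h6))
      (fun j => ?_) rfl) (h2 _ (c i) ⟨_, _, Ne.symm hi, rfl⟩ _ h6)
    · rw [h7]; split_ifs
      exacts [add_zero _, h3 j]
    · simp +contextual [h7, -Pi.sub_apply]
    · simpa [h7, -Pi.sub_apply] using h (Finset.mem_filter.2 ⟨Finset.mem_univ i, h4⟩)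
  push Not at h4
  refine h1 v hv (cst_of_eq (c := 0) fun i => by_contra fun hi => hi ?_)
  rw [← hv.2, Finset.sum_eq_single i (fun j _ hj => h4 j fun e => hj (hfix _ _ e (by_contra fun e' => hi (h4 i e'))))
    (by simp)]

theorem exists_swap : ∃ r, Com w r ∧ r.IsSwap := by
  rcases H.cases with ⟨rfl, -⟩ | ⟨-, hfix, -⟩
  · obtain ⟨i, j, hij⟩ := Fintype.exists_pair_of_one_lt_card (α := ι) (by have := H.three; omega)
    exact ⟨swap i j, fun _ => rfl, i, j, hij, rfl⟩
  obtain ⟨i, hi⟩ := H.exists_ne hfix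
  exact ⟨_, fun j => by rw [w.injective.map_swap, H.ww, swap_comm], i, w i, hi.symm, rfl⟩

theorem exists_sum_eq : ∃ d : ι → R k, (∀ i, d (w i) = q * d i) ∧ ∑ i, d i = hf k := by
  rcases H.cases with ⟨rfl, rfl, -⟩ | ⟨-, hfix, -, hq⟩
  · obtain ⟨i⟩ : Nonempty ι := Fintype.card_pos_iff.1 (by have := H.three; omega)
    exact ⟨Pi.single i (hf k), by simp, by simp⟩
  obtain ⟨i, hi⟩ := H.exists_ne hfix
  exact ⟨_, H.F_tw (Or.inr hi), by rw [sum_F hi, hq, add_sub_cancel]⟩

end Par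

end CL.MonAut
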