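/-
Normal subsystems without fusion preserving automorphisms of order prime to `p`.
-/
import Cfsg.Agent.FUS.Component
import Cfsg.Agent.FUS.Simple
import Cfsg.Agent.FUS.Realized

set_option autoImplicit false

namespace CL.Fus

open Cfsg Cfsg.FusionSystem

variable {Ω : Type*} [Group Ω] {S T : Subgroup Ω} {F : FusionSystem S} {p : ℕ} {E : FusionSystem T}

/-- Every fusion preserving automorphism of order prime to `p` is trivial. -/
def Rigid (p : ℕ) (E : FusionSystem T) : Prop := ∀ f f', Corr f f' E E → CopOn p T f → ∀ x ∈ T, f x = x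

theorem Rigid.of_corr {Ω' : Type*} [Group Ω'] {T' : Subgroup Ω'} {E' : FusionSystem T'} {e : Ω → Ω'} {e' : Ω' → Ω}
    (H : Rigid p E') (h : Corr e e' E E') : Rigid p E := fun f f' hf hc x hx => by
  have := H _ _ ((h.symm.trans hf).trans h) (h.iso.img_eq ▸ hc.conj h.iso.hom hf.iso.maps fun x hx => by
    simp only [Function.comp_apply, h.iso.left x hx]) (e x) (h.iso.maps x hx)
  simp only [Function.comp_apply, h.iso.left x hx] at this
  rw [← h.iso.left _ (hf.iso.maps x hx), this, h.iso.left x hx]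

theorem rigid_of_isPGroup [Fact p.Prime] (h : IsPGroup p (MulAut T)) : Rigid p E := fun f f' hf hc x hx => by
  obtain ⟨α, hα⟩ : ∃ α : MulAut T, Set.EqOn (autFun α) f T := ⟨hf.iso.equiv, fun x hx => autFun_of_mem _ hx⟩
  obtain ⟨k, hk⟩ := h α
  have := orderOf_eq_one_iff.1 (Nat.eq_one_of_dvd_coprimes ((hc.orderOf_coprime hα).pow_right k) dvd_rfl
    (orderOf_dvd_of_pow_eq_one hk))
  rw [← hα hx, this, autFun_one hx]

theorem Rigid.corr_id [Finite S] [Fact p.Prime] (H : Rigid p E) (hS : IsPGroup p S) (hE : E.IsNormalIn F p)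
    (hc : cS F p E ≤ T) (h : F.hyperfocalSubgroup p = S) : T = S ∧ Corr id id E F := by
  have hT := hE.1.2.2.2.1
  have key : ∀ R, T ≤ R → R ≤ S → ∀ α ∈ F.autGroup R, (orderOf α).Coprime p → ∀ x ∈ T, autFun α x = x :=
    fun R h1 h2 α hα h3 => H _ _ (corr_autFun_of_invariant hE.1.2.2 h1 h2 hα) ((CopOn.of_aut h3).mono h1)
  have e : T = S := le_antisymm hT.1 (h.ge.trans (hyperfocal_le_of_sc_le hS hE.1.2.1 hT le_rfl
    fun R h1 h2 α hα h3 x hx => hc ((CopOn.of_aut h3).mem_of_mem (hS.to_le h2) (isHomOn_autFun α)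
      (fun _ => autFun_mem α) (cS_le (F := F) (p := p) (E := E)) (fun y hy hy' => focal_centSys_le_cS hS hE
        (Mor.mem_focal (P := R ⊓ centralizerIn S T) (mor_centSys.2 (CMor.of_ext inf_le_right (mor_autFun h2 hα)
          inf_le_left h1 (key R h1 h2 α hα h3))) ⟨hy, hy'⟩)) hx
      ⟨S.mul_mem (S.inv_mem (h2 hx)) (h2 (autFun_mem α hx)), inv_mul_mem_centralizer_of_fix (isHomOn_autFun α) h1
        (key R h1 h2 α hα h3) hx (sc_le_normalizer hT (h2 hx))⟩)))
  subst e
  have h1 : F.autGroup T = Inn T := autGroup_top_eq_inn hS hE.1.2.1 fun α => by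
    obtain ⟨k, m, hm, e⟩ := Nat.exists_eq_pow_mul_and_not_dvd (orderOf_pos α.1).ne' p (Fact.out : p.Prime).ne_one
    refine ⟨k, Subtype.ext (MulEquiv.ext fun x => Subtype.ext ?_)⟩
    have := key T le_rfl le_rfl (α.1 ^ p ^ k) ((F.autGroup T).pow_mem α.2 _) (Nat.Coprime.coprime_dvd_left
      (orderOf_dvd_of_pow_eq_one (by rw [← pow_mul, ← e, pow_orderOf_eq_one]))
      ((Nat.Prime.coprime_iff_not_dvd Fact.out).2 hm).symm) x x.2
    rwa [autFun_coe] at this
  refine ⟨rfl, corr_id_of_isSubsystemOf hE.1.2.2.1 (isSubsystemOf_iff.2 fun P f hf => ?_)⟩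
  obtain ⟨α, hα, f₀, h2, h3⟩ := (isInvariantIn_iff_aut.1 hE.1.2.2).2.2.2 P hf.le f hf
  exact ((mor_autFun le_rfl (inn_le_autGroup E le_rfl (h1 ▸ hα))).comp h2 fun _ => h2.map_mem).congr
    fun x hx => (h3 x hx).symm

theorem Rigid.exists_realization {G L : Type*} [Group G] [Finite G] [IsSimpleGroup G] (hG : ¬ IsMulCommutative G)
    [Fact p.Prime] (S : Sylow p G) {T : Subgroup G} {E : FusionSystem T}
    (hE : E.IsNormalIn (groupFusionSystem (S : Subgroup G)) p) (hc : cS (groupFusionSystem (S : Subgroup G)) p E ≤ T)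
    [Group L] (H : ∀ T' : Sylow p L, Rigid p (groupFusionSystem (T' : Subgroup L)))
    (hiso : ∃ ι : T →* L, E.IsRealizedBy ι ∧ ∃ T' : Sylow p L, (T' : Subgroup L) = ι.range) :
    ∃ ι : (S : Subgroup G) →* L, (groupFusionSystem (S : Subgroup G)).IsRealizedBy ι ∧
      ∃ T' : Sylow p L, (T' : Subgroup L) = ι.range := by
  obtain ⟨ι, h1, T', h2⟩ := hiso
  obtain ⟨e', h3⟩ := exists_corr_sylow h1 h2
  have h4 : commutator G = ⊤ := (IsSimpleGroup.eq_bot_or_eq_top_of_normal (commutator G) inferInstance).resolve_left fun h =>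
    hG ((commutator_eq_bot_iff _).1 h)
  obtain ⟨rfl, h5⟩ := ((H T').of_corr h3).corr_id S.isPGroup' hE hc
    ((focal_eq_top_iff S.isPGroup' hE.1.2.1).1 (by rw [focal_group, h4, top_inf_eq]))
  exact ⟨ι, (h5.symm.trans h3).isRealizedBy fun x => (homFn_coe ι x).symm, T', h2⟩

end CL.Fus
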