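/-
Rigidity of the `2`-fusion system of a group whose Sylow `2`-subgroup consists of (twisted) monomial matrices.
-/
import Cfsg.Agent.FUS.MonComb
import Cfsg.Agent.FUS.RigidTop
import Cfsg.Agent.FUS.SimpleLocal
import Cfsg.Agent.INV.OddAut
import Cfsg.Agent.INV.SylowAux

set_option autoImplicit false
set_option linter.unusedSectionVars false

namespace CL.MonAut

open Equiv Equiv.Perm Cfsg CL.Fus

theorem fix_of_chain {L : Type*} [Group L] {T : Subgroup L} [Finite T] (hT : IsPGroup 2 T) {f f' : L → L}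
    (hf : IsoOn T T f f') (hc : CopOn 2 T f) {x : L} (hx : x ∈ T)
    (h : f x ∈ Subgroup.zpowers x ∨ x ∈ Subgroup.zpowers (f x)) : f x = x := by
  have h1 := Subgroup.zpowers_le.2 hx
  have := finite_of_le h1
  have h2 : img f (Subgroup.zpowers x) = Subgroup.zpowers x := by
    have h3 := hf.card_img h1
    have h4 := hf.img_le h1
    rw [hf.img_zpowers hx] at h3 h4 ⊢
    rcases h with h | h
    exacts [eq_of_le_of_card_ge (Subgroup.zpowers_le.2 h) h1 h3.ge,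
      (eq_of_le_of_card_ge (Subgroup.zpowers_le.2 h) h4 h3.le).symm]
  have h3 := hf.mono h1
  rw [h2] at h3
  obtain ⟨α, hα⟩ : ∃ α : MulAut (Subgroup.zpowers x), Set.EqOn (autFun α) f (Subgroup.zpowers x) :=
    ⟨h3.equiv, fun x hx => autFun_of_mem _ hx⟩
  obtain ⟨k, hk⟩ := CL.OddAut.isPGroup_mulAut_of_isCyclic (hT.to_le h1) α
  have := orderOf_eq_one_iff.1 (Nat.eq_one_of_dvd_coprimes (((hc.mono h1).orderOf_coprime hα).pow_right k) dvd_rfl
    (orderOf_dvd_of_pow_eq_one hk))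
  rw [← hα (Subgroup.mem_zpowers x), this, autFun_one (Subgroup.mem_zpowers x)]

/-- Monomial matrices with entries of `2`-power order. -/
@[ext] structure Mon (ι : Type*) (k : ℕ) where
  d : ι → R k
  s : Perm ι

variable {ι : Type*} {k : ℕ} {q : R k} {w s : Perm ι}

theorem act_mul (s t : Perm ι) (d : ι → R k) : act (s * t) d = act s (act t d) := rfl

theorem act_one (d : ι → R k) : act 1 d = d := rfl

theorem act_sub (s : Perm ι) (d e : ι → R k) : act s (d - e) = act s d - act s e := rfl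

theorem Cst.act {d : ι → R k} (h : Cst d) (s : Perm ι) : Cst (act s d) := fun _ _ => h _ _

instance : Mul (Mon ι k) := ⟨fun x y => ⟨x.d + act x.s y.d, x.s * y.s⟩⟩
instance : One (Mon ι k) := ⟨⟨0, 1⟩⟩
instance : Inv (Mon ι k) := ⟨fun x => ⟨-act x.s⁻¹ x.d, x.s⁻¹⟩⟩

@[simp] theorem mul_d (x y : Mon ι k) (i : ι) : (x * y).d i = x.d i + y.d (x.s⁻¹ i) := rfl
@[simp] theorem mul_s (x y : Mon ι k) : (x * y).s = x.s * y.s := rfl
@[simp] theorem one_d (i : ι) : (1 : Mon ι k).d i = 0 := rfl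
@[simp] theorem one_s : (1 : Mon ι k).s = 1 := rfl
@[simp] theorem inv_d (x : Mon ι k) (i : ι) : x⁻¹.d i = -x.d (x.s i) := rfl
@[simp] theorem inv_s (x : Mon ι k) : x⁻¹.s = x.s⁻¹ := rfl

instance : Group (Mon ι k) := Group.ofLeftAxioms
  (fun _ _ _ => Mon.ext (funext fun _ => add_assoc _ _ _) (mul_assoc _ _ _))
  (fun _ => Mon.ext (funext fun _ => zero_add _) (one_mul _))
  fun _ => Mon.ext (funext fun _ => neg_add_cancel _) (inv_mul_cancel _)

instance [Finite ι] : Finite (Mon ι k) := Finite.of_injective (fun x : Mon ι k => (x.d, x.s)) fun _ _ h =>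
  Mon.ext (congrArg Prod.fst h) (congrArg Prod.snd h)

variable [Fintype ι] [DecidableEq ι]

/-- The twisted monomial group. -/
def M1 (q : R k) (w : Perm ι) : Subgroup (Mon ι k) where
  carrier := {x | Com w x.s ∧ ∀ i, x.d (w i) = q * x.d i}
  one_mem' := ⟨fun _ => rfl, by simp⟩
  mul_mem' {x y} hx hy := ⟨fun i => by simp [hx.1 _, hy.1 _], fun i => by
    rw [mul_d, mul_d, hx.1.inv, hx.2, hy.2, mul_add]⟩
  inv_mem' {x} hx := ⟨hx.1.inv, fun i => by simp [hx.1 _, hx.2]⟩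

/-- The sign of a permutation, written additively. -/
def sgn (k : ℕ) (s : Perm ι) : R k := if sign s = 1 then 0 else hf k

theorem hf_add_hf : hf k + hf k = 0 := by
  rcases k.eq_zero_or_pos with rfl | h
  exacts [rfl, (two_mul _).symm.trans (two_mul_hf h)]

theorem sgn_mul (s t : Perm ι) : sgn k (s * t) = sgn k s + sgn k t := by
  rcases Int.units_eq_one_or (sign s) with h | h <;> rcases Int.units_eq_one_or (sign t) with h' | h' <;>
    simp [sgn, h, h', hf_add_hf]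

/-- The twisted monomial matrices of determinant one. -/
def M0 (q : R k) (w : Perm ι) : Subgroup (Mon ι k) where
  carrier := {x | x ∈ M1 q w ∧ ∑ i, x.d i = sgn k x.s}
  one_mem' := ⟨one_mem _, by simp [sgn]⟩
  mul_mem' {x y} hx hy := ⟨mul_mem hx.1 hy.1, by
    simp only [mul_d, Finset.sum_add_distrib, mul_s, sgn_mul, hx.2, Equiv.sum_comp x.s⁻¹ y.d, hy.2]⟩
  inv_mem' {x} hx := ⟨inv_mem hx.1, by
    simp only [inv_d, Finset.sum_neg_distrib, Equiv.sum_comp x.s x.d, hx.2, inv_s, sgn, sign_inv]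
    split_ifs
    exacts [neg_zero, neg_eq_of_add_eq_zero_left hf_add_hf]⟩

def dg (d : ι → R k) (hd : d ∈ Lam q w) : M0 q w := ⟨⟨d, 1⟩, ⟨fun _ => rfl, hd.1⟩, hd.2.trans (by simp [sgn])⟩

theorem mem_lam {x : M0 q w} (h : x.1.s = 1) : x.1.d ∈ Lam q w := ⟨x.2.1.2, x.2.2.trans (by simp [h, sgn])⟩

/-- The projection onto the Weyl group. -/
def pr (q : R k) (w : Perm ι) : M0 q w →* Subgroup.centralizer {w} :=
  MonoidHom.mk' (fun x => ⟨x.1.s, Subgroup.mem_centralizer_singleton_iff.2 (Equiv.ext x.2.1.1)⟩) fun _ _ => rfl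

theorem com (s : Subgroup.centralizer {w}) : Com w s.1 := fun i =>
  congrArg (· i) (Subgroup.mem_centralizer_singleton_iff.1 s.2)

theorem Par.pr_surjective (H : Par q w) : Function.Surjective (pr q w) := fun s => by
  obtain ⟨d, h1, h2⟩ := H.exists_sum_eq
  by_cases h : sign s.1 = 1
  · exact ⟨⟨⟨0, s⟩, ⟨com s, by simp⟩, by simp [sgn, h]⟩, rfl⟩
  · exact ⟨⟨⟨d, s⟩, ⟨com s, h1⟩, by simp [sgn, h, h2]⟩, rfl⟩

theorem Par.eq_of_cst (H : Par q w) {s t : Perm ι} (hs : Com w s) (ht : Com w t)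
    (h : ∀ d ∈ Lam q w, Cst (act s d - act t d)) : s = t :=
  (inv_mul_eq_one.1 (H.faithful (s := t⁻¹ * s) (fun i => by rw [mul_apply, hs, ht.inv, mul_apply]) fun d hd => by
    have := (h d hd).act t⁻¹
    rwa [act_sub, ← act_mul, ← act_mul, inv_mul_cancel] at this)).symm

variable {L : Type*} [Group L] (φ : M0 q w →* L)

open Classical in
/-- The image of a diagonal matrix. -/
noncomputable def tor (d : ι → R k) : L := if h : d ∈ Lam q w then φ (dg d h) else 1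

variable {φ} {d e : ι → R k}

theorem tor_eq (hd : d ∈ Lam q w) : tor φ d = φ (dg d hd) := dif_pos hd

theorem tor_of_eq_one {x : M0 q w} (h : x.1.s = 1) : tor φ x.1.d = φ x := by
  rw [tor_eq (mem_lam h)]; exact congrArg φ (Subtype.ext (Mon.ext rfl h.symm))

theorem tor_add (hd : d ∈ Lam q w) (he : e ∈ Lam q w) : tor φ (d + e) = tor φ d * tor φ e := by
  rw [tor_eq hd, tor_eq he, tor_eq (add_mem hd he), ← map_mul]; rfl

theorem tor_zero : tor φ 0 = 1 := by rw [tor_eq (zero_mem _)]; exact map_one φ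

theorem tor_neg (hd : d ∈ Lam q w) : tor φ (-d) = (tor φ d)⁻¹ :=
  eq_inv_of_mul_eq_one_left (by rw [← tor_add (neg_mem hd) hd, neg_add_cancel, tor_zero])

theorem tor_sub (hd : d ∈ Lam q w) (he : e ∈ Lam q w) : tor φ (d - e) = tor φ d * (tor φ e)⁻¹ := by
  rw [sub_eq_add_neg, tor_add hd (neg_mem he), tor_neg he]

theorem tor_zsmul (hd : d ∈ Lam q w) (c : ℤ) : tor φ (c • d) = tor φ d ^ c := by
  induction c using Int.induction_on with
  | zero => simp [tor_zero]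
  | succ n ih => rw [add_smul, one_smul, tor_add (zsmul_mem hd _) hd, ih, zpow_add_one]
  | pred n ih => rw [sub_smul, one_smul, tor_sub (zsmul_mem hd _) hd, ih, zpow_sub_one]

theorem cj_tor (x : M0 q w) (hd : d ∈ Lam q w) : cj (φ x) (tor φ d) = tor φ (act x.1.s d) := by
  rw [tor_eq hd, tor_eq (act_mem x.2.1.1 hd), cj_apply, ← map_inv, ← map_mul, ← map_mul]
  exact congrArg φ (Subtype.ext (Mon.ext (funext fun i => by simp [dg, act]) (by simp [dg])))

variable (φ) in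
/-- The `2`-part of the maximal torus. -/
def torus : Subgroup L := (pr q w).ker.map φ

theorem mem_torus {x : L} : x ∈ torus φ ↔ ∃ d ∈ Lam q w, tor φ d = x :=
  ⟨fun ⟨_, hy, e⟩ => ⟨_, mem_lam (congrArg Subtype.val hy), (tor_of_eq_one (congrArg Subtype.val hy)).trans e⟩,
    fun ⟨d, hd, e⟩ => ⟨dg d hd, rfl, (tor_eq hd).symm.trans e⟩⟩

theorem tor_mem (hd : d ∈ Lam q w) : tor φ d ∈ torus φ := mem_torus.2 ⟨d, hd, rfl⟩

theorem isPGroup_ker_pr : IsPGroup 2 (pr q w).ker := fun ⟨x, hx⟩ => ⟨k, by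
  have h : ∀ n : ℕ, tor (MonoidHom.id _) ((n : ℤ) • x.1.d) = x ^ n := fun n => by
    rw [tor_zsmul (mem_lam (congrArg Subtype.val hx)), tor_of_eq_one (congrArg Subtype.val hx), zpow_natCast]; rfl
  refine Subtype.ext ((h _).symm.trans ?_)
  rw [show ((2 ^ k : ℕ) : ℤ) • x.1.d = 0 from funext fun i => by simp [two_pow_eq_zero], tor_zero]; rfl⟩

theorem torus_comm {x y : L} (hx : x ∈ torus φ) (hy : y ∈ torus φ) : x * y = y * x := by
  obtain ⟨d, hd, rfl⟩ := mem_torus.1 hx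
  obtain ⟨e, he, rfl⟩ := mem_torus.1 hy
  rw [← tor_add hd he, add_comm, tor_add he hd]

theorem cj_mem_torus {t x : L} (ht : t ∈ φ.range) (hx : x ∈ torus φ) : cj t x ∈ torus φ := by
  obtain ⟨y, rfl⟩ := ht
  obtain ⟨d, hd, rfl⟩ := mem_torus.1 hx
  rw [cj_tor y hd]; exact tor_mem (act_mem y.2.1.1 hd)

variable (hker : ∀ x, φ x = 1 ↔ x.1.s = 1 ∧ Cst x.1.d)
include hker

theorem tor_eq_one (hd : d ∈ Lam q w) : tor φ d = 1 ↔ Cst d := by rw [tor_eq hd, hker]; exact and_iff_right rfl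

theorem tor_eq_iff (hd : d ∈ Lam q w) (he : e ∈ Lam q w) : tor φ d = tor φ e ↔ Cst (d - e) := by
  rw [← tor_eq_one hker (sub_mem hd he), tor_sub hd he, mul_inv_eq_one]

theorem cst_of_commute (x : M0 q w) (hd : d ∈ Lam q w) (h : φ x * tor φ d = tor φ d * φ x) : Cst (cm x.1.s d) :=
  (tor_eq_iff hker (act_mem x.2.1.1 hd) hd).1 (by rw [← cj_tor x hd, cj_apply, h, mul_inv_cancel_right])

variable [Finite L] (H : Par q w) (T : Sylow 2 L) (hT : (T : Subgroup L) ≤ φ.range)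
include H hT

theorem exists_sylow : ∃ P : Sylow 2 (Subgroup.centralizer {w}), (∀ x, φ x ∈ (T : Subgroup L) → pr q w x ∈ P) ∧
    (∀ s ∈ P, ∃ x, φ x ∈ (T : Subgroup L) ∧ pr q w x = s) ∧ torus φ ≤ T := by
  let T' := T.comapOfKerIsPGroup φ (isPGroup_ker_pr.to_le fun x hx => Subtype.ext ((hker x).1 hx).1) hT
  exact ⟨T'.mapSurjective H.pr_surjective, fun x hx => ⟨x, hx, rfl⟩, fun _ h => h,
    Subgroup.map_le_iff_le_comap.2 (isPGroup_ker_pr.le_sylow_of_normal T')⟩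

/-- The torus is a characteristic subgroup of the Sylow subgroup. -/
theorem img_torus_le {f f' : L → L} (hI : IsoOn (T : Subgroup L) (T : Subgroup L) f f') :
    img f (torus φ) ≤ torus φ := by
  obtain ⟨P, hP, hP', hA⟩ := exists_sylow hker H T hT
  set B := img f (torus φ)
  have hB : B ≤ T := hI.img_le hA
  have hn : ∀ t ∈ (T : Subgroup L), ∀ b ∈ B, cj t b ∈ B := fun t ht b hb => by
    obtain ⟨x, hx, rfl⟩ := (hI.mem_img hA).1 hb
    rw [← hI.right t ht, ← hI.map_cj (hI.maps' t ht) (hA hx)]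
    exact mem_img_of_mem f (cj_mem_torus (hT (hI.maps' t ht)) hx)
  have hc : ∀ y, φ y ∈ B → ∀ d ∈ Lam q w, tor φ d ∈ B → Cst (cm y.1.s d) := fun y hy d hd h => by
    refine cst_of_commute hker y hd ?_
    obtain ⟨a, ha, e⟩ := (hI.mem_img hA).1 hy
    obtain ⟨b, hb, e'⟩ := (hI.mem_img hA).1 h
    rw [← e, ← e', ← hI.map_mul (hA ha) (hA hb), torus_comm ha hb, hI.map_mul (hA hb) (hA ha)]
  have hq : ∀ y, φ y ∈ B → ∀ d ∈ Lam q w, Cst (cm y.1.s (cm y.1.s d)) := fun y hy d hd =>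
    hc y hy _ (cm_mem y.2.1.1 hd) (by
      rw [cm, tor_sub (act_mem y.2.1.1 hd) hd, ← cj_tor y hd]
      simpa only [cj_apply, mul_assoc] using B.mul_mem hy (hn _ (hA (tor_mem hd)) _ (B.inv_mem hy)))
  by_contra h
  obtain ⟨z, ⟨⟨y, hy, rfl⟩, hz⟩, hz2⟩ : ∃ z ∈ (B.comap φ).map (pr q w) ⊓ Subgroup.centralizer (P.1 : Set _),
      orderOf z = 2 := by
    have h1 : (B.comap φ).map (pr q w) ≤ P := fun _ ⟨y, hy, e⟩ => e ▸ hP y (hB hy)
    obtain ⟨z, h2, h3, h4⟩ := exists_central_of_cj_mem P.isPGroup' h1 (fun _ ⟨y, hy, e⟩ s hs => by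
      obtain ⟨t, ht, rfl⟩ := hP' s hs
      exact ⟨t * y * t⁻¹, by simpa [cj_apply] using hn _ ht _ hy, by simp [cj_apply, ← e]⟩) fun e => h fun b hb => by
        obtain ⟨y, rfl⟩ := hT (hB hb)
        exact ⟨y, e.le ⟨y, hb, rfl⟩, rfl⟩
    exact exists_orderOf_eq_prime_of_ne_bot P.isPGroup' (inf_le_left.trans h1) fun e => h3 (e.le ⟨h2, h4⟩)
  replace hy : φ y ∈ B := hy
  have z2 : y.1.s * y.1.s = 1 := by
    have : pr q w y ^ 2 = 1 := hz2 ▸ pow_orderOf_eq_one _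
    exact congrArg Subtype.val ((pow_two (pr q w y)).symm.trans this)
  have zz : ∀ i, y.1.s (y.1.s i) = i := fun i => congrArg (· i) z2
  obtain ⟨h4, hz1, hk⟩ := H.quad y.2.1.1 zz
    (fun e => by rw [show pr q w y = 1 from Subtype.ext e, orderOf_one] at hz2; cases hz2) (hq y hy)
  obtain ⟨t, ht, a, b, hab, hr⟩ : ∃ t, φ t ∈ (T : Subgroup L) ∧ t.1.s.IsSwap := by
    obtain ⟨r, h1, a, b, hab, rfl⟩ := H.exists_swap
    obtain ⟨g, hg⟩ := CL.SylowAux.exists_conj_mem_sylow_of_pow P (n := 1)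
      (x := ⟨swap a b, Subgroup.mem_centralizer_singleton_iff.2 (Equiv.ext h1)⟩) (Subtype.ext (by simp [pow_two]))
    obtain ⟨t, ht, e⟩ := hP' _ hg
    exact ⟨t, ht, g.1 a, g.1 b, g.1.injective.ne hab, (congrArg Subtype.val e).trans (swap_apply_apply _ _ _).symm⟩
  have rz : t.1.s * y.1.s = y.1.s * t.1.s := congrArg Subtype.val (hz _ (hP t ht))
  have g : ∀ v : Perm ι, Com v (swap a b) → v a ≠ a → v a = b := fun v hv h1 => by_contra fun h2 => by
    have := hv a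
    rw [swap_apply_left, swap_apply_of_ne_of_ne h1 h2] at this
    exact hab (v.injective this)
  have za : y.1.s a = b := g _ (fun i => hr ▸ congrArg (· i) rz) (hz1 a)
  have zb : y.1.s b = a := by rw [← za, zz]
  obtain ⟨c, ca, cb⟩ := exists_third H.three a b
  have ea : y.1.s c ≠ a := fun e => cb (by rw [← za, ← e, zz])
  have eb : y.1.s c ≠ b := fun e => ca (by rw [← zb, ← e, zz])
  have hnd : [a, b, c, y.1.s c].Nodup := by simp [hab, ca.symm, cb.symm, ea.symm, eb.symm, (hz1 c).symm]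
  have hw : w ≠ 1 → ∀ i, w i = y.1.s i := fun h1 => by
    have hfix := (H.cases.resolve_left fun h => h1 h.1).2.1
    have g' : ∀ i, w i ≠ i := fun i e => hz1 i (hfix _ _ (by rw [← y.2.1.1, e]) e)
    have k1 := g w (hr ▸ t.2.1.1) (g' a)
    have k2 : w c = y.1.s c := by
      rcases Par.cover h4 hnd (w c) with e | e | e | e
      exacts [absurd (by rw [← k1, ← e, H.ww]) cb, absurd (w.injective (e.trans k1.symm)) ca, absurd e (g' c), e]
    intro i
    rcases Par.cover h4 hnd i with rfl | rfl | rfl | rfl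
    exacts [k1.trans za.symm, by rw [zb, ← k1, H.ww], k2, by rw [zz, ← k2, H.ww]]
  have zi : y.1.s⁻¹ = y.1.s := inv_eq_of_mul_eq_one_right z2
  have hs : y.1.d a + y.1.d b + y.1.d c + y.1.d (y.1.s c) = 0 := by
    rw [← Par.sum_four h4 hnd, y.2.2, show y.1.s = swap a b * swap c (y.1.s c) from Equiv.ext fun i => by
      rcases Par.cover h4 hnd i with rfl | rfl | rfl | rfl <;> simp [swap_apply_of_ne_of_ne, *, Ne.symm]]
    simp [sgn, hab, (hz1 c).symm]
  have hy2 : φ (y * y) = 1 := by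
    suffices h2 : 2 * (y.1.d a + y.1.d b) = 0 by
      refine (hker _).2 ⟨z2, cst_of_eq (c := y.1.d a + y.1.d b) fun i => ?_⟩
      rw [Subgroup.coe_mul, mul_d, zi]
      rcases Par.cover h4 hnd i with rfl | rfl | rfl | rfl
      exacts [by rw [za], by rw [zb, add_comm], by linear_combination hs - h2, by rw [zz]; linear_combination hs - h2]
    rcases H.cases with ⟨rfl, -⟩ | ⟨-, hfix, -, hq⟩
    · obtain rfl : k = 2 := (hk.resolve_right fun h => h.1 rfl).2
      have x1 : (t * y * t⁻¹ * y⁻¹).1.s = 1 := by simp [rz]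
      have x2 := hc y hy _ (mem_lam x1) (by
        rw [tor_of_eq_one x1]; simpa [cj_apply] using B.mul_mem (hn _ ht _ hy) (B.inv_mem hy)) a c
      have x3 := t.2.2
      rw [Par.sum_four h4 hnd, hr, sgn, if_neg (by simp [hab])] at x3
      simp [cm, act, hr, zi, za, zb, zz, swap_apply_of_ne_of_ne, ca, cb, ea, eb] at x2
      have f : (4 : R 2) = 0 := by decide
      have f' : hf 2 = 2 := by decide
      rw [f'] at x3
      linear_combination x2 + 2 * x3 + (1 - t.1.d b - t.1.d c + y.1.d b) * f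
    · rw [← za, ← hw fun e => (H.exists_ne hfix).elim fun i hi => hi (by rw [e]; rfl), y.2.1.2]
      linear_combination y.1.d a * two_mul_hf H.one_le + 2 * y.1.d a * hq
  obtain ⟨_, hx, e⟩ := (hI.mem_img hA).1 hy
  obtain ⟨d, hd, rfl⟩ := mem_torus.1 hx
  obtain ⟨u, hu, h5⟩ := H.exists_sqrt h4 hnd (hk.imp_right fun h => ⟨⟨(hw h.1 a).trans za, hw h.1 c⟩, h.2⟩) hd (by
    rw [← tor_eq_one hker (add_mem hd hd), ← hI.eq_one_iff (hA (tor_mem (add_mem hd hd))), tor_add hd hd,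
      hI.map_mul (hA hx) (hA hx), e, ← map_mul, hy2])
  have h6 := mem_img_of_mem f (tor_mem (φ := φ) hu)
  obtain ⟨y', e'⟩ := hT (hB h6)
  have h7 : y'.1.s * y'.1.s = y.1.s := mul_inv_eq_one.1 ((hker (y' * y' * y⁻¹)).1 (by
    rw [map_mul, map_mul, map_inv, e', ← e, (tor_eq_iff hker hd (add_mem hu hu)).2 h5, tor_add hu hu,
      hI.map_mul (hA (tor_mem hu)) (hA (tor_mem hu)), mul_inv_cancel])).1
  have h8 : ∀ i, y'.1.s (y'.1.s i) = y.1.s i := fun i => congrArg (· i) h7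
  exact H.not_quad y'.2.1.1 (fun i => h8 i ▸ hz1 i) (fun i => by rw [h8, h8, zz]) (fun h i => h8 i ▸ hw h i)
    (hq y' (e' ▸ h6))

theorem rigid (hN : ∀ g, (∀ x ∈ torus φ, cj g x ∈ torus φ) →
    ∃ s, Com w s ∧ ∀ d ∈ Lam q w, cj g (tor φ d) = tor φ (act s d)) :
    Rigid 2 (groupFusionSystem (T : Subgroup L)) := by
  intro f f' hC hc
  obtain ⟨P, hP, hP', hA⟩ := exists_sylow hker H T hT
  have hI := hC.iso
  have hAA : img f (torus φ) = torus φ := le_antisymm (img_torus_le hker H T hT hI)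
    ((hI.symm.img_le_iff_le_img hA hA).1 (img_torus_le hker H T hT hI.symm))
  have hm : ∀ x ∈ torus φ, f x ∈ torus φ := fun x hx => hAA ▸ mem_img_of_mem f hx
  have hm' : ∀ x ∈ torus φ, f' x ∈ torus φ := fun x hx => ((hI.mem_img_iff hA).1 (hAA.symm ▸ hx)).2
  let Γ : AddSubgroup ((ι → R k) × (ι → R k)) :=
    { carrier := {x | x.1 ∈ Lam q w ∧ x.2 ∈ Lam q w ∧ f (tor φ x.1) = tor φ x.2}
      zero_mem' := ⟨zero_mem _, zero_mem _, by simp [tor_zero, hI.map_one]⟩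
      add_mem' := fun {x y} hx hy => ⟨add_mem hx.1 hy.1, add_mem hx.2.1 hy.2.1, by
        rw [Prod.fst_add, Prod.snd_add, tor_add hx.1 hy.1, tor_add hx.2.1 hy.2.1,
          hI.map_mul (hA (tor_mem hx.1)) (hA (tor_mem hy.1)), hx.2.2, hy.2.2]⟩
      neg_mem' := fun {x} hx => ⟨neg_mem hx.1, neg_mem hx.2.1, by
        rw [Prod.fst_neg, Prod.snd_neg, tor_neg hx.1, tor_neg hx.2.1, hI.map_inv (hA (tor_mem hx.1)), hx.2.2]⟩ }
  have cst : ∀ x ∈ Γ, Cst x.1 ↔ Cst x.2 := fun x hx => by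
    rw [← tor_eq_one hker hx.1, ← tor_eq_one hker hx.2.1, ← hx.2.2, hI.eq_one_iff (hA (tor_mem hx.1))]
  have ex : ∀ d ∈ Lam q w, ∃ e, (d, e) ∈ Γ := fun d hd =>
    (mem_torus.1 (hm _ (tor_mem hd))).imp fun e h => ⟨hd, h.1, h.2.symm⟩
  have ex' : ∀ e ∈ Lam q w, ∃ d, (d, e) ∈ Γ := fun e he =>
    (mem_torus.1 (hm' _ (tor_mem he))).imp fun d h => ⟨h.1, he, by rw [h.2, hI.right _ (hA (tor_mem he))]⟩
  let Rel : Subgroup.centralizer {w} → Subgroup.centralizer {w} → Prop := fun s t =>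
    ∀ d e, (d, e) ∈ Γ → (act s d, act t e) ∈ Γ
  have uniq : ∀ {s s' t t'}, Rel s s' → Rel t t' → (s = t ↔ s' = t') := fun {s s' t t'} h h' => by
    refine ⟨fun e => Subtype.ext (H.eq_of_cst (com _) (com _) fun d hd => ?_),
      fun e => Subtype.ext (H.eq_of_cst (com _) (com _) fun d hd => ?_)⟩
    · obtain ⟨c, hc⟩ := ex' d hd
      exact (cst _ (Γ.sub_mem (h _ _ hc) (h' _ _ hc))).1 (by rw [e]; simp [Cst])
    · obtain ⟨c, hc⟩ := ex d hd
      exact (cst _ (Γ.sub_mem (h _ _ hc) (h' _ _ hc))).2 (by rw [e]; simp [Cst])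
  obtain ⟨β₀, hβ⟩ : ∃ β : _ → _, ∀ s, Rel s (β s) := Classical.skolem.1 fun s => by
    obtain ⟨x, rfl⟩ := H.pr_surjective s
    have h1 := fun y => cj_mem_torus (x := y) (φ := φ) ⟨x, rfl⟩
    obtain ⟨-, -, g, hg⟩ := mor_group_iff.1 (hC.mor (mor_group_iff.2 ⟨hA, fun y hy => hA (h1 y hy), φ x, fun _ _ => rfl⟩))
    rw [hAA] at hg
    obtain ⟨t, ht, h2⟩ := hN g fun y hy => hg hy ▸ hm _ (h1 _ (hm' y hy))
    refine ⟨⟨t, Subgroup.mem_centralizer_singleton_iff.2 (Equiv.ext ht)⟩, fun d e h =>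
      ⟨act_mem x.2.1.1 h.1, act_mem ht h.2.1, ?_⟩⟩
    rw [← h2 e h.2.1, ← hg (tor_mem h.2.1), ← h.2.2]
    simp only [Function.comp_apply, hI.left _ (hA (tor_mem h.1)), cj_tor x h.1]; rfl
  let β := MonoidHom.mk' β₀ fun s t => (uniq (t := s * t) (t' := β₀ s * β₀ t) (hβ _) fun d e h => hβ s _ _ (hβ t d e h)).1 rfl
  have hcm : ∀ s d e, (d, e) ∈ Γ → (cm s.1 d, cm (β s).1 e) ∈ Γ := fun s d e h => Γ.sub_mem (hβ s d e h) h
  obtain ⟨n, hn, hfn⟩ := id hc
  have it : ∀ m s, ∀ d ∈ Lam q w, ∀ e ∈ Lam q w, f^[m] (tor φ d) = tor φ e →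
      f^[m] (tor φ (act s.1 d)) = tor φ (act (β^[m] s).1 e) := fun m => by
    induction m with
    | zero =>
      exact fun s d hd e he h => (tor_eq_iff hker (act_mem (com s) hd) (act_mem (com s) he)).2
        (((tor_eq_iff hker hd he).1 h).act s.1)
    | succ m ih =>
      intro s d hd e he h
      obtain ⟨c, h1⟩ := ex d hd
      rw [Function.iterate_succ_apply] at h ⊢
      exact (congrArg _ (hβ s _ _ h1).2.2).trans (ih _ c h1.2.1 e he (h1.2.2 ▸ h))
  have hfix := fix_swap H.three (H.cases.imp And.left fun h => ⟨Equiv.ext h.1, h.2.1⟩) β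
    (fun s t h => (uniq (hβ s) (hβ t)).2 h) (fun s hs => by
      obtain ⟨j₁, j₂, hj⟩ := H.isSwap_iff
      have h1 : s * s = 1 := by obtain ⟨a, b, -, e⟩ := hs; exact Subtype.ext (by simp [e])
      have h2 : β s * β s = 1 := by rw [← map_mul, h1, map_one]
      obtain ⟨h3, h4, h5⟩ := (hj _ (com s) fun i => congrArg (·.1 i) h1).1 hs
      refine (hj _ (com _) fun i => congrArg (·.1 i) h2).2 ⟨fun d hd e he => ?_, fun d hd => ?_, fun h => h5 fun d hd => ?_⟩
      · obtain ⟨d', hd'⟩ := ex' d hd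
        obtain ⟨e', he'⟩ := ex' e he
        exact (h3 d' hd'.1 e' he'.1).imp
          (Exists.imp fun c => (cst _ (Γ.sub_mem (hcm s _ _ hd') (Γ.zsmul_mem (hcm s _ _ he') c))).1)
          (Exists.imp fun c => (cst _ (Γ.sub_mem (hcm s _ _ he') (Γ.zsmul_mem (hcm s _ _ hd') c))).1)
      · obtain ⟨d', hd'⟩ := ex' d hd
        exact (cst _ (Γ.nsmul_mem (hcm s _ _ hd') j₁)).1 (h4 d' hd'.1)
      · obtain ⟨d', hd'⟩ := ex d hd
        exact (cst _ (Γ.nsmul_mem (hcm s _ _ hd') j₂)).2 (h d' hd'.2.1)) P (fun s hs => by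
      obtain ⟨x, hx, rfl⟩ := hP' s hs
      obtain ⟨y, hy⟩ := hT (hI.maps _ hx)
      refine (show β (pr q w x) = pr q w y from (uniq (hβ _) fun d e h => ⟨act_mem (com _) h.1,
        act_mem (com _) h.2.1, ?_⟩).1 rfl).symm ▸ hP y (hy ▸ hI.maps _ hx)
      exact (congrArg f (cj_tor x h.1).symm).trans ((hI.map_cj hx (hA (tor_mem h.1))).trans
        (by rw [← hy, h.2.2]; exact cj_tor y h.2.1))) hn fun s =>
      Subtype.ext (H.eq_of_cst (com _) (com _) fun d hd => (tor_eq_iff hker (act_mem (com _) hd)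
        (act_mem (com _) hd)).1 ((it n s d hd d hd (hfn _ (hA (tor_mem hd)))).symm.trans
          (hfn _ (hA (tor_mem (act_mem (com _) hd))))))
  have key : ∀ r, Com w r → r.IsSwap → ∀ d e, (d, e) ∈ Γ → (cm r d, cm r e) ∈ Γ ∧ tor φ (cm r e) = tor φ (cm r d) :=
    fun r h1 h2 d e h => by
      have h3 := hcm ⟨r, Subgroup.mem_centralizer_singleton_iff.2 (Equiv.ext h1)⟩ d e h
      rw [hfix _ h2] at h3
      refine ⟨h3, h3.2.2.symm.trans (fix_of_chain T.isPGroup' hI hc (hA (tor_mem h3.1)) ?_)⟩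
      obtain ⟨a, b, -, rfl⟩ := h2
      rw [h3.2.2]
      exact (Par.propR_swap a b e h.2.1 d h.1).imp
        (fun ⟨c, h4⟩ => ⟨c, (tor_zsmul h3.1 c).symm.trans ((tor_eq_iff hker h3.2.1 (zsmul_mem h3.1 c)).2 h4).symm⟩)
        fun ⟨c, h4⟩ => ⟨c, (tor_zsmul h3.2.1 c).symm.trans ((tor_eq_iff hker h3.1 (zsmul_mem h3.2.1 c)).2 h4).symm⟩
  have fixA : ∀ x ∈ torus φ, f x = x := fun x hx => by
    obtain ⟨d, hd, rfl⟩ := mem_torus.1 hx
    obtain ⟨e, he⟩ := ex d hd
    have h1 := H.mem_of_cst_swap (Γ.comap ((AddMonoidHom.id _).prod (AddMonoidHom.id _)))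
      (fun d hd h => ⟨hd, hd, by simp [(tor_eq_one hker hd).2 h, hI.map_one]⟩)
      (fun r h1 h2 d hd => by
        obtain ⟨e, he⟩ := ex d hd
        obtain ⟨h3, h4⟩ := key r h1 h2 d e he
        exact ⟨h3.1, h3.1, h3.2.2.trans h4⟩) (sub_mem he.2.1 hd) fun r h1 h2 => by
        obtain ⟨h3, h4⟩ := key r h1 h2 d e he
        rw [cm_sub]; exact (tor_eq_iff hker h3.2.1 h3.1).1 h4
    refine hc.eq_of_trivMod (B := Subgroup.zpowers (tor φ (e - d))) T.isPGroup' hI.hom hI.maps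
      (fun _ _ ⟨c, e⟩ => ?_) (hA hx) ?_
    · rw [← (tor_zsmul (sub_mem he.2.1 hd) c).trans e]; exact (AddSubgroup.zsmul_mem _ h1 c).2.2
    · rw [he.2.2, tor_sub he.2.1 hd, torus_comm (inv_mem hx) (tor_mem he.2.1)]; exact Subgroup.mem_zpowers _
  refine fun x hx => hc.eq_of_trivMod T.isPGroup' hI.hom hI.maps (fun y hy h => fixA y ?_) hx
    (inv_mul_mem_centralizer_of_fix hI.hom hA fixA hx (Subgroup.mem_normalizer_fintype fun _ => cj_mem_torus (hT hx)))
  obtain ⟨y, rfl⟩ := hT hy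
  exact ⟨y, Subtype.ext (H.faithful y.2.1.1 fun d hd => cst_of_commute hker y hd (h _ (tor_mem hd)).symm), rfl⟩

end CL.MonAut
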