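/-
The `2`-fusion system of `PSL_n(q)` has no fusion preserving automorphisms of odd order.
-/
import Cfsg.Agent.FUS.MonRigid
import Cfsg.Agent.FUS.PSL2Dih
import Cfsg.Agent.FGS.TwoRankLin
import Cfsg.Agent.PLOC.NPC
import Cfsg.Agent.S3116

set_option autoImplicit false
set_option linter.unusedSectionVars false

namespace CL.MonAut

open Equiv Equiv.Perm Matrix Cfsg CL.Fus

variable {ι : Type*} [Fintype ι] [DecidableEq ι] {k : ℕ} {q : R k} {w : Perm ι}

theorem Par.exists_sep (H : Par q w) {i j : ι} (h : i ≠ j) : ∃ d ∈ Lam q w, d i ≠ d j := by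
  rcases H.cases with ⟨rfl, rfl, hk⟩ | ⟨-, hfix, hk, hq⟩
  · obtain ⟨l, h1, h2⟩ := exists_third H.three i j
    refine ⟨_, H.F_sub_mem (i := i) (j := l) (Or.inl rfl), ?_⟩
    simpa [F, h.symm, h1.symm, h2.symm] using cast_ne_zero (j := 2) (c := 1) hk (by decide)
  · wlog hi : w i ≠ i generalizing i j
    · exact (this h.symm fun e => h (hfix _ _ (not_not.1 hi) e)).imp fun d h => ⟨h.1, h.2.symm⟩
    refine ⟨_, H.two_F_mem hq hi, fun e => ?_⟩
    simp only [F, Pi.smul_apply, smul_eq_mul, if_true, if_neg h.symm, hq] at e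
    split_ifs at e
    exacts [H.four_ne hk (by linear_combination e + two_mul_hf H.one_le), H.two_ne (by simpa using e)]

theorem card_M1 : Nat.card (M1 q w) = Nat.card {d : ι → R k // ∀ i, d (w i) = q * d i} *
    Nat.card (Subgroup.centralizer {w}) := by
  rw [← Nat.card_prod]
  exact Nat.card_congr ⟨fun x => ⟨⟨x.1.d, x.2.2⟩, x.1.s, Subgroup.mem_centralizer_singleton_iff.2 (Equiv.ext x.2.1)⟩,
    fun x => ⟨⟨x.1, x.2⟩, com x.2, x.1.2⟩, fun _ => rfl, fun _ => rfl⟩

theorem Par.exists_dvd_card [LinearOrder ι] (H : Par q w) (hfix : ∀ i j, w i = i → w j = j → i = j)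
    (hq : q = hf k - 1) : ∃ m r, r ≤ 1 ∧ Fintype.card ι = 2 * m + r ∧
      2 ^ (k * m + r + m) * m.factorial ∣ Nat.card (M1 q w) := by
  set A := Finset.univ.filter fun i => i < w i
  set B := Finset.univ.filter fun i => w i = i
  have h1 : w.support.card = A.card * 2 := by
    rw [mul_two, ← Finset.card_filter_add_card_filter_not (s := w.support) fun i => i < w i]
    congr 1
    · exact congrArg _ (Finset.ext fun i => by simpa [A] using fun h => h.ne')
    · exact Finset.card_bijective w w.bijective fun i => by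
        simpa [A, H.ww] using ⟨fun h => h.2.lt_of_ne h.1, fun h => ⟨h.ne, h.le⟩⟩
  have h2 : Fintype.card ι = 2 * A.card + B.card := by
    rw [mul_comm, ← h1, add_comm]; exact (Finset.card_filter_add_card_filter_not (s := Finset.univ) _).symm
  refine ⟨A.card, B.card, Finset.card_le_one.2 fun i hi j hj => hfix i j (by simpa [B] using hi) (by simpa [B] using hj),
    h2, ?_⟩
  rw [card_M1, pow_add, mul_assoc]
  refine mul_dvd_mul ?_ ?_
  · let Λ : AddSubgroup (ι → R k) :=
      { carrier := {d | ∀ i, d (w i) = q * d i}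
        zero_mem' := by simp
        add_mem' := fun ha hb i => by simp [ha i, hb i, mul_add]
        neg_mem' := fun ha i => by simp [ha i] }
    obtain ⟨j, -, hj⟩ := (Nat.dvd_prime_pow Nat.prime_two (m := k * Fintype.card ι)).1
      (by simpa [pow_mul] using Λ.card_addSubgroup_dvd_card)
    have := Nat.card_le_card_of_injective (fun x : (A → R k) × (B → Bool) => (⟨fun i =>
      if h : i < w i then x.1 ⟨i, by simpa [A] using h⟩ else if h' : w i = i then
        if x.2 ⟨i, by simpa [B] using h'⟩ then hf k else 0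
      else q * x.1 ⟨w i, by simpa [A, H.ww] using (not_lt.1 h).lt_of_ne h'⟩, fun i => by
        rcases lt_trichotomy i (w i) with h | h | h
        · simp [h, H.ww, h.not_gt, h.ne]
        · have : (hf k - 1) * hf k = hf k := by
            obtain ⟨u, -, h3, h4⟩ := exists_hf_eq (k := k) (by
              rcases H.cases with h | h
              exacts [(H.exists_ne hfix).elim fun i hi => (hi (by rw [h.1]; rfl)).elim, h.2.2.1])
            rw [h3]; linear_combination (2 * u - 1) * h4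
          simp [← h, hq, this]
        · simp [h, H.ww, h.not_gt, h.ne, ← mul_assoc, H.sq]⟩ : Λ)) fun x y e => by
      refine Prod.ext (funext fun ⟨i, hi⟩ => ?_) (funext fun ⟨i, hi⟩ => ?_)
      · simpa [show i < w i by simpa [A] using hi] using congrArg (·.1 i) e
      · have := congrArg (·.1 i) e
        simp only [show w i = i by simpa [B] using hi, lt_irrefl, dite_false, dite_true] at this
        revert this
        cases x.2 _ <;> cases y.2 _ <;> simp [hf_ne_zero H.one_le, (hf_ne_zero H.one_le).symm]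
    rw [hj] at this
    refine (pow_dvd_pow 2 ((Nat.pow_le_pow_iff_right one_lt_two).1 (le_of_eq_of_le ?_ this))).trans hj.symm.dvd
    simp [pow_add, pow_mul]
  · have h3 := cycleType_of_pow_prime_eq_one (σ := w) (p := 2) (Equiv.ext H.ww)
    have h4 : w.cycleType.card = A.card := by
      have := w.sum_cycleType
      rw [h3, Multiset.sum_replicate, h1] at this; simpa using this
    rw [nat_card_centralizer, h3, h4, mul_assoc, Multiset.prod_replicate, Multiset.toFinset_replicate]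
    refine Dvd.dvd.mul_left (dvd_of_eq ?_) _
    split_ifs with h <;> simp [h]

variable {K : Type*} [Field K] (χ : AddChar (R k) K)

/-- The monomial matrix of an element of `Mon`. -/
def mon : Mon ι k →* Matrix ι ι K where
  toFun x := Matrix.of fun i j => if i = x.s j then χ (x.d i) else 0
  map_one' := by ext i j; simp [Matrix.one_apply]
  map_mul' x y := by
    ext i j
    simp only [of_apply, mul_s, Perm.mul_apply, mul_d, Matrix.mul_apply, mul_ite, mul_zero, Finset.sum_ite_eq',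
      Finset.mem_univ, if_true, AddChar.map_add_eq_mul]
    split_ifs with h <;> simp [h]

theorem mon_apply (x : Mon ι k) (i j : ι) : mon χ x i j = if i = x.s j then χ (x.d i) else 0 := rfl

theorem mon_dg {d : ι → R k} (hd : d ∈ Lam q w) : mon χ (dg d hd).1 = diagonal fun i => χ (d i) := rfl

variable {χ} (hχ : ∀ x, χ x = 1 → x = 0)

theorem chi_ne_zero (x : R k) : χ x ≠ 0 := (χ.val_isUnit x).ne_zero

include hχ in
theorem chi_inj {x y : R k} (h : χ x = χ y) : x = y :=
  sub_eq_zero.1 (hχ _ (by rw [AddChar.map_sub_eq_div, h, div_self (chi_ne_zero y)]))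

include hχ in
theorem det_mon (hk : 1 ≤ k) (x : Mon ι k) : (mon χ x).det = 1 ↔ ∑ i, x.d i = sgn k x.s := by
  have h1 : χ (hf k) = -1 := (mul_self_eq_one_iff.1 (by rw [← AddChar.map_add_eq_mul, hf_add_hf, χ.map_zero_eq_one])).resolve_left
    fun h => hf_ne_zero hk (hχ _ h)
  have h2 : mon χ x = diagonal (fun i => χ (x.d i)) * x.s⁻¹.permMatrix K := by
    ext i j; simp [mon_apply, PEquiv.toMatrix_apply, eq_comm, Equiv.eq_symm_apply]
  have h3 : ∏ i, χ (x.d i) = χ (∑ i, x.d i) := (map_prod χ.toMonoidHom (fun i => Multiplicative.ofAdd (x.d i)) _).symm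
  rw [h2, det_mul, det_diagonal, det_permutation, h3, sign_inv, sgn]
  rcases Int.units_eq_one_or (sign x.s) with h | h
  · simpa [h] using ⟨hχ _, fun h => by simp [h]⟩
  · simpa [h, neg_eq_iff_eq_neg] using ⟨fun h => chi_inj hχ (h.trans h1.symm), fun h => h ▸ h1⟩

variable {F : Type*} [Field F] [Algebra F K] (σ : K →+* K)

theorem exists_twist (hσ : ∀ x, σ x = x ↔ x ∈ Set.range (algebraMap F K)) (hσσ : ∀ x, σ (σ x) = x) {θ : K}
    (hθ : θ ^ 2 ≠ σ θ ^ 2) (hw : ∀ i, w (w i) = i) : ∃ J : Matrix ι ι F →* Matrix ι ι K, Function.Injective J ∧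
      (∀ X, (J X).det = algebraMap F K X.det) ∧ (∀ r, J (scalar ι r) = scalar ι (algebraMap F K r)) ∧
      ∀ Y, (∃ X, J X = Y) ↔ ∀ i j, Y (w i) (w j) = σ (Y i j) := by
  set P := w.permMatrix K
  have hP : P * P = 1 := by rw [← permMatrix_mul, show w * w = 1 from Equiv.ext hw, permMatrix_one]
  have hY : ∀ Y : Matrix ι ι K, (∀ i j, Y (w i) (w j) = σ (Y i j)) ↔ σ.mapMatrix Y = P * Y * P := fun Y => by
    rw [PEquiv.toMatrix_toPEquiv_mul, PEquiv.mul_toMatrix_toPEquiv, ← Matrix.ext_iff,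
      show w.symm = w from inv_eq_of_mul_eq_one_left (Equiv.ext hw)]
    exact forall₂_congr fun _ _ => eq_comm
  set g : Matrix ι ι K := θ • 1 + σ θ • P with hg
  obtain ⟨g', h1⟩ : ∃ g', g * g' = 1 := ⟨(θ ^ 2 - σ θ ^ 2)⁻¹ • (θ • 1 - σ θ • P), by
    rw [Matrix.mul_smul, hg, show (θ • 1 + σ θ • P) * (θ • 1 - σ θ • P) = (θ ^ 2 - σ θ ^ 2) • 1 by
      simp only [add_mul, mul_sub, Matrix.smul_mul, Matrix.mul_smul, hP, one_mul, mul_one]; module,
      smul_smul, inv_mul_cancel₀ (sub_ne_zero.2 hθ), one_smul]⟩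
  have h2 : g' * g = 1 := mul_eq_one_comm.1 h1
  have h3 : σ.mapMatrix g = g * P := by
    rw [hg, add_mul, Matrix.smul_mul, Matrix.smul_mul, hP, one_mul, add_comm]
    ext i j
    simp only [P, RingHom.mapMatrix_apply, map_apply, Matrix.add_apply, Matrix.smul_apply, smul_eq_mul, map_add, map_mul,
      hσσ, Matrix.one_apply, PEquiv.toMatrix_apply, apply_ite σ, map_one, map_zero]
  have hc : ∀ {A B : Matrix ι ι K}, g * A = g * B → A = B := fun h => by
    simpa [← mul_assoc, h2] using congrArg (g' * ·) h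
  refine ⟨⟨⟨fun X => g' * (algebraMap F K).mapMatrix X * g, by simp [h2]⟩, fun X Y => by
    simp only [map_mul, mul_assoc, ← mul_assoc g g', h1, one_mul]⟩, fun X Y h => ?_, fun X => ?_, fun r => ?_,
    fun Y => Iff.trans ⟨?_, fun h => ?_⟩ (hY Y).symm⟩
  · have := congrArg (g * · * g') h
    simp only [MonoidHom.coe_mk, OneHom.coe_mk, mul_assoc, h1, mul_one, ← mul_assoc g g', one_mul] at this
    exact Matrix.map_injective (algebraMap F K).injective this
  · simp only [MonoidHom.coe_mk, OneHom.coe_mk]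
    rw [det_mul_comm, ← mul_assoc, h1, one_mul, RingHom.map_det]
  · simp only [MonoidHom.coe_mk, OneHom.coe_mk]
    rw [show (algebraMap F K).mapMatrix (scalar ι r) = scalar ι (algebraMap F K r) by simp, mul_assoc,
      (scalar_commute _ (fun _ => Commute.all _ _) g).eq, ← mul_assoc, h2, one_mul]
  · rintro ⟨X, rfl⟩
    simp only [MonoidHom.coe_mk, OneHom.coe_mk]
    set Y := g' * (algebraMap F K).mapMatrix X * g
    have h4 : g * Y = (algebraMap F K).mapMatrix X * g := by simp only [Y, ← mul_assoc, h1, one_mul]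
    have h5 := congrArg σ.mapMatrix h4
    rw [map_mul _ g, map_mul _ ((algebraMap F K).mapMatrix X), h3, show σ.mapMatrix ((algebraMap F K).mapMatrix X) = _ from
      Matrix.ext fun i j => (hσ _).2 ⟨_, rfl⟩, ← mul_assoc, ← h4, mul_assoc, mul_assoc] at h5
    rw [mul_assoc, ← hc h5, ← mul_assoc, hP, one_mul]
  · have h4 : σ.mapMatrix (g * Y * g') = g * Y * g' := by
      have h5 := congrArg σ.mapMatrix (show g * Y * g' * g = g * Y by rw [mul_assoc, h2, mul_one])
      rw [map_mul, map_mul _ g Y, h3, h] at h5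
      simpa only [mul_assoc, ← mul_assoc P P, hP, one_mul, h1, mul_one] using congrArg (· * P * g') h5
    choose X hX using fun i j => (hσ _).1 (congrFun (congrFun h4 i) j)
    refine ⟨Matrix.of X, ?_⟩
    simp only [MonoidHom.coe_mk, OneHom.coe_mk]
    rw [show (algebraMap F K).mapMatrix (Matrix.of X) = g * Y * g' from Matrix.ext hX]
    simp only [← mul_assoc, h2, one_mul]; rw [mul_assoc, h2, mul_one]

theorem rigid_of_twist [Finite F] (H : Par q w) (hχ : ∀ x, χ x = 1 → x = 0) (hσχ : ∀ x, χ (q * x) = σ (χ x))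
    (J : Matrix ι ι F →* Matrix ι ι K) (hJ : Function.Injective J) (hdet : ∀ X, (J X).det = algebraMap F K X.det)
    (hsc : ∀ r, J (scalar ι r) = scalar ι (algebraMap F K r))
    (hr : ∀ Y, (∃ X, J X = Y) ↔ ∀ i j, Y (w i) (w j) = σ (Y i j))
    (hcard : padicValNat 2 (Nat.card (GL ι F)) ≤ padicValNat 2 (Nat.card (M1 q w)))
    (T : Sylow 2 (ProjectiveSpecialLinearGroup ι F)) :
    Rigid 2 (groupFusionSystem (T : Subgroup (ProjectiveSpecialLinearGroup ι F))) := by
  choose ψ₀ hψ₀ using fun x : M1 q w => (hr (mon χ x.1)).2 fun i j => by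
    simp only [mon_apply, x.2.1 j, w.apply_eq_iff_eq, x.2.2, hσχ, apply_ite σ, map_zero]
  let ψ : M1 q w →* Matrix ι ι F := ⟨⟨ψ₀, hJ (by rw [hψ₀, map_one]; exact map_one _)⟩, fun x y => hJ (by
    simp only [map_mul, hψ₀, Subgroup.coe_mul])⟩
  have hd : ∀ x : M1 q w, (ψ₀ x).det = 1 ↔ ∑ i, x.1.d i = sgn k x.1.s := fun x => by
    rw [← det_mon hχ H.one_le, ← hψ₀, hdet, map_eq_one_iff _ (algebraMap F K).injective]
  let φ₀ : M0 q w →* Matrix.SpecialLinearGroup ι F :=
    MonoidHom.mk' (fun x => ⟨ψ₀ ⟨x.1, x.2.1⟩, (hd _).2 x.2.2⟩) fun x y => Subtype.ext (ψ.map_mul ⟨x.1, x.2.1⟩ ⟨y.1, y.2.1⟩)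
  have hφ₀ : ∀ x, J (φ₀ x).1 = mon χ x.1 := fun x => hψ₀ _
  have hz : ∀ X : Matrix.SpecialLinearGroup ι F, X ∈ Subgroup.center _ ↔ ∃ c, J X.1 = scalar ι c := fun X =>
    ⟨fun h => (Matrix.SpecialLinearGroup.mem_center_iff.1 h).elim fun r h => ⟨_, h.2 ▸ hsc r⟩, fun ⟨c, h⟩ =>
      Subgroup.mem_center_iff.2 fun Y => Subtype.ext (hJ (show J (Y.1 * X.1) = J (X.1 * Y.1) by
        rw [map_mul, map_mul, h, (scalar_commute _ (fun _ => Commute.all _ _) _).eq]))⟩
  have hm : ∀ (x : Mon ι k) c, mon χ x = scalar ι c → x.s = 1 ∧ ∀ i, χ (x.d i) = c := fun x c h => by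
    have h1 : x.s = 1 := Equiv.ext fun j => by_contra fun h1 => chi_ne_zero (χ := χ) (x.d (x.s j)) (by
      simpa [mon_apply, diagonal_apply_ne _ (show x.s j ≠ j from h1)] using congrFun (congrFun h (x.s j)) j)
    exact ⟨h1, fun i => by simpa [mon_apply, h1] using congrFun (congrFun h i) i⟩
  let φ : M0 q w →* ProjectiveSpecialLinearGroup ι F := (QuotientGroup.mk' _).comp φ₀
  have hker : ∀ x, φ x = 1 ↔ x.1.s = 1 ∧ Cst x.1.d := fun x => by
    refine (QuotientGroup.eq_one_iff _).trans ((hz _).trans ⟨fun ⟨c, h⟩ => ?_, fun h => ?_⟩)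
    · exact (hm _ c (hφ₀ x ▸ h)).imp_right fun h i j => chi_inj hχ ((h i).trans (h j).symm)
    · obtain ⟨a, -⟩ := exists_notMem (∅ : Finset ι) (by have := H.three; simp; omega)
      refine ⟨χ (x.1.d a), (hφ₀ x).trans (Matrix.ext fun i j => ?_)⟩
      simp [mon_apply, h.1, diagonal_apply, h.2 i a]
  obtain ⟨T', hT'⟩ : ∃ T' : Sylow 2 (ProjectiveSpecialLinearGroup ι F), (T' : Subgroup _) ≤ φ.range := by
    have h1 : Function.Injective ψ.toHomUnits := (injective_iff_map_eq_one _).2 fun x h => by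
      obtain ⟨h2, h3⟩ := hm x.1 1 (by
        rw [← hψ₀, show ψ₀ x = 1 from congrArg Units.val h, map_one, map_one])
      exact Subtype.ext (Mon.ext (funext fun i => hχ _ (h3 i)) h2)
    obtain ⟨P⟩ : Nonempty (Sylow 2 (M1 q w)) := inferInstance
    obtain ⟨Q, hQ⟩ := (P.isPGroup'.map ψ.toHomUnits).exists_le_sylow
    have h2 : (P : Subgroup _).map ψ.toHomUnits = Q := Subgroup.eq_of_le_of_card_ge hQ (by
      rw [Subgroup.card_map_of_injective h1, P.card_eq_multiplicity, Q.card_eq_multiplicity,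
        Nat.factorization_def _ Nat.prime_two, Nat.factorization_def _ Nat.prime_two]
      exact Nat.pow_le_pow_right two_pos hcard)
    have h3 : (Matrix.SpecialLinearGroup.toGL (n := ι) (R := F)).range = (GeneralLinearGroup.det (n := ι) (R := F)).ker :=
      Subgroup.ext fun x => ⟨fun ⟨y, e⟩ => e ▸ Units.ext y.2, fun h => ⟨⟨x.1, congrArg Units.val h⟩, Units.ext rfl⟩⟩
    refine ⟨((Q.isPGroup'.comap_of_injective _ Matrix.SpecialLinearGroup.toGL_injective).toSylow (by
      rw [Subgroup.index_comap, h3]; exact not_dvd_relIndex_sylow_normal Q _)).mapSurjective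
        (QuotientGroup.mk'_surjective _), fun _ ⟨x, hx, e⟩ => ?_⟩
    obtain ⟨y, -, hy⟩ := h2.ge hx
    replace hy : ψ₀ y = x.1 := congrArg Units.val hy
    exact ⟨⟨y.1, y.2, (hd y).1 (hy ▸ x.2)⟩, (congrArg (QuotientGroup.mk' _) (show φ₀ ⟨y.1, y.2, (hd y).1 (hy ▸ x.2)⟩ = x from
      Subtype.ext hy)).trans e⟩
  obtain ⟨g, hg⟩ := exists_corr_sylow_sylow T T'
  refine (rigid hker H T' hT' fun g hg => ?_).of_corr hg
  obtain ⟨X, rfl⟩ := QuotientGroup.mk'_surjective _ g
  have hrow : ∀ {i j j'}, J X.1 i j ≠ 0 → J X.1 i j' ≠ 0 → j = j' := fun {i j j'} h h' => by_contra fun hj => by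
    obtain ⟨d, hd, h1⟩ := H.exists_sep hj
    obtain ⟨e, he, h2⟩ := mem_torus.1 (hg _ (tor_mem hd))
    rw [tor_eq hd, tor_eq he] at h2
    obtain ⟨c, h3⟩ := (hz ((φ₀ (dg e he))⁻¹ * (X * φ₀ (dg d hd) * X⁻¹))).1 (QuotientGroup.eq.1 h2)
    have h4 : J X.1 * mon χ (dg d hd).1 = mon χ (dg e he).1 * scalar ι c * J X.1 := by
      rw [← h3, ← hφ₀, ← hφ₀, ← map_mul, ← map_mul, ← map_mul, ← Matrix.SpecialLinearGroup.coe_mul, ← Matrix.SpecialLinearGroup.coe_mul,
        ← Matrix.SpecialLinearGroup.coe_mul, mul_inv_cancel_left, inv_mul_cancel_right]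
    have h5 : ∀ l, J X.1 i l * χ (d l) = χ (e i) * c * J X.1 i l := fun l => by
      simpa [mon_dg] using congrFun (congrFun h4 i) l
    exact h1 (chi_inj hχ ((mul_left_cancel₀ h ((h5 j).trans (mul_comm _ _))).trans
      (mul_left_cancel₀ h' ((h5 j').trans (mul_comm _ _))).symm))
  obtain ⟨s, -, hs⟩ := Finset.exists_ne_zero_of_sum_ne_zero
    ((det_apply (J X.1)).symm.trans_ne (by rw [hdet, X.2, map_one]; exact one_ne_zero))
  replace hs : ∀ j, J X.1 (s j) j ≠ 0 := fun j => Finset.prod_ne_zero_iff.1 (right_ne_zero_of_smul hs) j (Finset.mem_univ j)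
  have hc : Com w s := fun j => by
    have := hrow (hs (s.symm (w (s j)))) (j' := w j) (by
      rw [apply_symm_apply, (hr _).1 ⟨_, rfl⟩]; exact (map_ne_zero σ).2 (hs j))
    rw [← this, apply_symm_apply]
  refine ⟨s, hc, fun d hd => ?_⟩
  rw [tor_eq hd, tor_eq (act_mem hc hd), cj_apply, mul_inv_eq_iff_eq_mul]
  refine congrArg (QuotientGroup.mk' _) (show X * φ₀ (dg d hd) = φ₀ (dg _ (act_mem hc hd)) * X from Subtype.ext (hJ ?_))
  change J (X.1 * _) = J (_ * X.1)
  ext i j
  rw [map_mul, map_mul, hφ₀, hφ₀, mon_dg, mon_dg, mul_diagonal, diagonal_mul, mul_comm]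
  by_cases h : J X.1 i j = 0
  · rw [h, mul_zero, mul_zero]
  · rw [act, ← hrow h (j' := s⁻¹ i) (by simpa using hs (s⁻¹ i))]

theorem rigid_psl {F : Type*} [Field F] [Fintype F] (hq : Odd (Fintype.card F)) {n : ℕ} (hn : 2 ≤ n)
    (h2 : n = 2 → Fintype.card F % 8 = 1 ∨ Fintype.card F % 8 = 7) (T : Sylow 2 (ProjectiveSpecialLinearGroup (Fin n) F)) :
    Rigid 2 (groupFusionSystem (T : Subgroup (ProjectiveSpecialLinearGroup (Fin n) F))) := by
  have q1 : 1 < Fintype.card F := Fintype.one_lt_card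
  set Q := Fintype.card F with hQ
  rcases hn.eq_or_lt with rfl | hn
  · refine rigid_of_isPGroup (Cfsg.Agent.S3116.result T.isPGroup' (Or.inl (sylow_psl2_dihedral_of_sixteen hq ?_ T)))
    refine (Nat.modEq_iff_dvd' (Nat.one_le_pow _ _ q1.le)).1 ?_
    have : Q % 16 = 1 ∨ Q % 16 = 9 ∨ Q % 16 = 7 ∨ Q % 16 = 15 := by have := h2 rfl; omega
    rcases this with h | h | h | h <;> simp [Nat.ModEq, Nat.pow_mod, h]
  obtain ⟨p, _⟩ := CharP.exists F
  have : Fact p.Prime := ⟨CharP.char_is_prime F p⟩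
  let K := FiniteField.Extension F p 2
  let σ := (FiniteField.Extension.frob F p 2 : K →+* K)
  have hσ : ∀ x, σ x = x ^ Q := fun x =>
    (FiniteField.Extension.frob_apply F p 2).trans (by rw [Nat.card_eq_fintype_card])
  have hK : Nat.card Kˣ = Q ^ 2 - 1 := by simp [K, Nat.card_units, FiniteField.natCard_extension, hQ]
  have q2 : 1 < Q ^ 2 := Nat.one_lt_pow two_ne_zero q1
  obtain ⟨θ, hθ⟩ : ∃ θ : K, IsPrimitiveRoot θ (Q ^ 2 - 1) := by
    obtain ⟨θ, hθ⟩ := IsCyclic.exists_ofOrder_eq_natCard (α := Kˣ)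
    exact ⟨θ, IsPrimitiveRoot.coe_units_iff.2 (hK ▸ hθ ▸ IsPrimitiveRoot.orderOf θ)⟩
  have key : ∀ k, 2 ^ k ∣ Q ^ 2 - 1 → ∀ w : Perm (Fin n), Par (Q : R k) w →
      TR.gv Q n ≤ padicValNat 2 (Nat.card (M1 (Q : R k) w)) →
      Rigid 2 (groupFusionSystem (T : Subgroup (ProjectiveSpecialLinearGroup (Fin n) F))) := fun k hk w H hc => by
    obtain ⟨c, hc'⟩ := hk
    have hζ := hθ.pow (by omega) (hc'.trans (mul_comm _ _))
    obtain ⟨J, h1, h3, h4, h5⟩ := exists_twist (F := F) σ (θ := θ) (fun x => by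
      rw [IsGalois.mem_range_algebraMap_iff_fixed]
      refine ⟨fun h g => ?_, fun h => h (FiniteField.Extension.frob F p 2)⟩
      obtain ⟨i, -, rfl⟩ := FiniteField.Extension.exists_frob_pow_eq F p 2 g
      rw [AlgEquiv.coe_pow]; exact Function.IsFixedPt.iterate (f := σ) h i) (fun x => by
      have := Fintype.ofFinite K
      rw [hσ, hσ, ← pow_mul, ← pow_two, hQ, ← Nat.card_eq_fintype_card, ← FiniteField.natCard_extension F p 2,
        Nat.card_eq_fintype_card, FiniteField.pow_card]) (fun h => by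
      obtain ⟨m, hm⟩ : ∃ m, Q = m + 1 := ⟨Q - 1, by omega⟩
      have h6 : θ ^ (m * 2) = 1 := mul_left_cancel₀ (pow_ne_zero 2 (hθ.ne_zero (by omega))) (by
        rw [mul_one, ← pow_add]; rw [hσ, ← pow_mul, hm] at h; rw [h]; ring)
      have := Nat.le_of_dvd (by omega) (hθ.dvd_of_pow_eq_one _ h6)
      rw [hm, add_sq] at this
      have : 0 < m ^ 2 := pow_pos (by omega) 2
      omega) H.ww
    exact rigid_of_twist σ (χ := AddChar.zmodChar _ hζ.pow_eq_one) H
      (fun x => ((AddChar.zmodChar_primitive_of_primitive_root _ hζ).zmod_char_eq_one_iff _ x).1)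
      (fun x => by rw [← nsmul_eq_mul, AddChar.map_nsmul_eq_pow, hσ]) J h1 h3 h4 h5
      ((TR.val_card_GL hq n).trans_le hc) T
  have hd : ∀ {a b c : ℕ}, b ≠ 0 → c ≠ 0 → 2 ^ a * b ∣ c → a + padicValNat 2 b ≤ padicValNat 2 c := fun hb hc h =>
    (padicValNat_dvd_iff_le hc).1 ((pow_add 2 _ _).dvd.trans ((mul_dvd_mul_left _ pow_padicValNat_dvd).trans h))
  rcases Nat.odd_mod_four_iff.1 (Nat.odd_iff.1 hq) with h | h
  · have h1 : 2 ^ padicValNat 2 (Q - 1) ∣ Q - 1 := pow_padicValNat_dvd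
    have h3 : (Q : R (padicValNat 2 (Q - 1))) = 1 := by
      simpa using ((ZMod.natCast_eq_natCast_iff _ _ _).2 ((Nat.modEq_iff_dvd' q1.le).2 h1)).symm
    refine key _ (h1.trans (by simpa using Nat.sub_dvd_pow_sub_pow Q 1 2)) 1
      ⟨(Fintype.card_fin n).symm ▸ hn, Or.inl ⟨rfl, h3, (padicValNat_dvd_iff_le (by omega)).1 (by omega)⟩⟩ ?_
    rw [TR.gv_one_mod h q1]
    refine hd n.factorial_ne_zero Nat.card_pos.ne' (dvd_of_eq ?_)
    simp [card_M1, h3, TR.gv, pow_mul', nat_card_centralizer]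
  · set k := padicValNat 2 (Q ^ 2 - 1) with hk
    have h1 : k = padicValNat 2 (Q + 1) + 1 := by
      rw [hk, show Q ^ 2 - 1 = (Q + 1) * (Q ^ (2 * 0 + 1) - 1) by simpa using Nat.sq_sub_sq Q 1,
        padicValNat.mul (by omega) (by simp; omega), TR.val_odd_pow h]
    have h3 : 2 ≤ padicValNat 2 (Q + 1) := (padicValNat_dvd_iff_le (by omega)).1 (by omega)
    have h4 : (Q : R k) = hf k - 1 := by
      obtain ⟨c, hc⟩ : 2 ^ padicValNat 2 (Q + 1) ∣ Q + 1 := pow_padicValNat_dvd
      obtain ⟨e, rfl⟩ : Odd c := Nat.not_even_iff_odd.1 fun ⟨e, he⟩ => pow_succ_padicValNat_not_dvd (p := 2)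
        (n := Q + 1) (by omega) ⟨e, by rw [pow_succ, mul_assoc, two_mul, ← he, ← hc]⟩
      have := congrArg (Nat.cast : ℕ → R k) hc
      rw [show padicValNat 2 (Q + 1) = k - 1 by omega] at this
      push_cast at this
      rw [← hf] at this
      linear_combination this + e * two_mul_hf (k := k) (by omega)
    have h5 : ∀ i j : Fin n, Fin.revPerm i = i → Fin.revPerm j = j → i = j := fun i j hi hj => by
      simp only [Fin.revPerm_apply, Fin.ext_iff, Fin.val_rev] at hi hj ⊢; omega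
    have H : Par (Q : R k) (Fin.revPerm (n := n)) := ⟨(Fintype.card_fin n).symm ▸ hn, Or.inr ⟨Fin.rev_rev, h5, by omega, h4⟩⟩
    obtain ⟨m, r, hr, h6, h7⟩ := H.exists_dvd_card h5 h4
    refine key k pow_padicValNat_dvd _ H (le_of_eq_of_le ?_ (hd m.factorial_ne_zero Nat.card_pos.ne' h7))
    have h8 : TR.gv Q 2 = 1 + k := by rw [TR.gv_succ, TR.gv_succ, TR.val_odd_pow h 0]; rfl
    rw [Fintype.card_fin] at h6
    obtain rfl | rfl : r = 0 ∨ r = 1 := by omega
    · rw [h6, add_zero, TR.gv_three_mod h, h8]; ring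
    · rw [h6, TR.gv_succ, TR.gv_three_mod h, h8, TR.val_odd_pow h]; ring

end CL.MonAut
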