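import Mathlib
import Cfsg.Agent.FUS.DStarFus
import Cfsg.Agent.FUS.QuadCent
import Cfsg.Agent.FUS.Invariant
import Cfsg.Agent.FUS.FInduct

/-!
# `p`-stable saturated fusion systems are constrained (`p` odd)
-/

set_option autoImplicit false

namespace CL.Fus
open Cfsg Cfsg.FusionSystem CL.QuadCent

variable {Ω Ω' : Type*} [Group Ω] [Group Ω'] {S K R : Subgroup Ω} {F : FusionSystem S} {p : ℕ}

theorem quadAut_iff {χ : MulAut R} : QuadAut χ ↔ ∀ a, χ (a⁻¹ * χ a) = a⁻¹ * χ a :=
  forall_congr' fun a => by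
    rw [map_mul, map_inv, eq_comm (b := a⁻¹ * χ a), ← inv_mul_eq_one (a := a⁻¹ * χ a), mul_inv_rev,
      inv_inv, ← mul_assoc]

theorem stab_of_pStab [Finite S] (hst : ∀ Q, Q ≤ S → PStabAt p F Q) (hR : R ≤ S) :
    Stab p (F.autGroup R).subtype := fun A g₁ g₂ h₁ h₂ g hg => by
  have hA : A.map R.subtype ≤ R := Subgroup.map_subtype_le A
  have := finite_of_le (hA.trans hR)
  let O := (pCore p (F.autGroup (A.map R.subtype))).map (F.autGroup (A.map R.subtype)).subtype
  have key : ∀ g : F.autGroup R, QuadOn A g →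
      g ∈ ((O.comap (resAut hA)).map (stabAut R _).subtype).comap (F.autGroup R).subtype := by
    intro g h
    have h1 : g.1 ∈ stabAut R (A.map R.subtype) := mem_stabAut_of_finite hA (by
      rintro _ ⟨a, ha, rfl⟩
      exact ⟨_, (h a ha).1, (autFun_coe _ a).symm⟩)
    refine ⟨⟨g, h1⟩, hst _ (hA.trans hR) _ (resAut_mem_autGroup hR hA g.2) (quadAut_iff.2 ?_), rfl⟩
    intro b
    obtain ⟨a, ha, hb⟩ := b.2
    have e : ∀ b : A.map R.subtype, (resAut hA ⟨g, h1⟩ b : Ω) = autFun g.1 b := fun b => by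
      rw [← autFun_coe, autFun_resAut hA _ b.2]
    have := congrArg Subtype.val (h a ha).2
    rw [← autFun_coe, Subgroup.coe_mul, ← autFun_coe] at this
    refine Subtype.ext ?_
    rw [e, Subgroup.coe_mul, e, Subgroup.coe_inv, ← hb]
    exact this
  obtain ⟨α, hα, e⟩ := (Subgroup.closure_le _).2 (Set.pair_subset (key g₁ h₁) (key g₂ h₂)) hg
  obtain ⟨k, hk⟩ := isPGroup_map_pCore _ ⟨_, hα⟩
  refine ⟨k, fun a ha => Subtype.ext ?_⟩
  have ha' : (a : Ω) ∈ A.map R.subtype := ⟨a, ha, rfl⟩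
  have h1 := autFun_resAut hA (α ^ p ^ k) ha'
  rw [map_pow, show resAut hA α ^ p ^ k = 1 from congrArg Subtype.val hk, autFun_one ha'] at h1
  rw [map_pow, ← e, ← map_pow, ← autFun_coe]
  exact h1.symm

variable [Finite S] [Fact p.Prime]

/-- An automorphism that is quadratic modulo a central subgroup lies in `O_p(Aut_F(R))`. -/
theorem mem_pCore_of_quad_mod (hp : p ≠ 2) (hS : IsPGroup p S) (hst : ∀ Q, Q ≤ S → PStabAt p F Q)
    (hK : F.IsCentral K) (hR : R ≤ S) {α : MulAut R} (hα : α ∈ F.autGroup R)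
    (hq : QuadMod (K.subgroupOf R) α) : α ∈ (pCore p (F.autGroup R)).map (F.autGroup R).subtype := by
  have := finite_of_le hR
  obtain ⟨N, hN, hNp, hx⟩ := mem_pCore_of_stab hp (isPGroup_of_le hS hR)
    (F.autGroup R).subtype_injective (Z := K.subgroupOf R) (fun z hz => Subgroup.mem_center_iff.2
      fun a => Subtype.ext ((le_center hK).trans (center_le_centralizer F) hz a (hR a.2)))
    (fun g z hz => Subtype.ext (by
      obtain ⟨k, -, e, h⟩ := (isCentral_iff.1 hK).2 _ _ (mor_autFun hR g.2)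
      exact (autFun_coe _ z).symm.trans ((e z.2).symm.trans (h z hz))))
    (stab_of_pStab hst hR) (x := ⟨α, hα⟩) hq
  exact ⟨_, CL.le_pCore hNp hx, rfl⟩

/-- `p`-stability passes to central quotients. -/
theorem Fac.pStabAt_of_central {S' Q' : Subgroup Ω'} {E : FusionSystem S'} {t : Ω → Ω'}
    (h : Fac t F K E) (hp : p ≠ 2) (hS : IsPGroup p S) (hst : ∀ Q, Q ≤ S → PStabAt p F Q)
    (hK : F.IsCentral K) (hQ : Q' ≤ S') : PStabAt p E Q' := fun β hβ hq => by
  have hwc := sc_weaklyClosed (sc_of_normal (normal_of_central hK))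
  have hs := h.surj.mono_pre hQ
  have hR := h.surj.pre_le Q'
  obtain ⟨α, hα, e⟩ := h.exists_aut_lift hwc hQ hβ
  have h1 := mem_pCore_of_quad_mod hp hS hst hK hR hα fun a => by
    have ha := a.2
    have hb := (a⁻¹ * α a).2
    rw [Subgroup.mem_subgroupOf, Subgroup.coe_mul, Subgroup.coe_inv, ← hs.eq_iff hb (α _).2,
      ← autFun_coe α, ← e _ hb, Subgroup.coe_mul, hs.hom.map_mul (a⁻¹).2 (α a).2, ← autFun_coe α,
      ← e _ ha, Subgroup.coe_inv, hs.hom.map_inv ha]
    have := congrArg Subtype.val (quadAut_iff.1 hq ⟨t a, hs.maps ha⟩)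
    rw [← autFun_coe β, Subgroup.coe_mul, ← autFun_coe β] at this
    exact this.symm
  have hle := autGroup_le_stabAut_of_wc (F := F) hwc hR hs.le
  refine le_map_pCore (N := hs.indSub ((pCore p (F.autGroup _)).map (F.autGroup _).subtype)) ?_ ?_ ?_
    (hs.mem_indSub.2 ⟨α, h1, e⟩)
  · rw [← h.indSub_autGroup hwc hs hR]
    exact Subgroup.map_mono (Subgroup.subgroupOf_mono _ (map_pCore_le _))
  · rw [← h.indSub_autGroup hwc hs hR]
    refine le_trans (Subgroup.map_mono fun x hx => ?_) (Subgroup.le_normalizer_map _)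
    exact Subgroup.le_normalizer_comap _ (le_normalizer_map_pCore _ hx)
  · exact ((isPGroup_map_pCore _).comap_subtype).map _

/-- **`p`-stable saturated fusion systems are constrained** (`p` odd). -/
theorem isConstrained_of_pStab (hp : p ≠ 2) (hS : IsPGroup p S) (hF : F.IsSaturated p)
    (hst : ∀ Q, Q ≤ S → PStabAt p F Q) : F.IsConstrained p := by
  have hO := core_normal F
  refine ⟨hF, F.core, hO, isCentric_of_normal hO ?_⟩
  have hC := centSys_isNormalIn hS hF hO
  have hT := centralizerIn_le S F.core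
  have := finite_of_le hT
  have hTp := isPGroup_of_le hS hT
  have hsat : (centSys F F.core hO.1).IsSaturated p := hC.1.1
  have hle : (centSys F F.core hO.1).core ≤ F.core :=
    le_core (core_normal_of_invariant hS hF hC.1.2.2)
  have hZ : (centSys F F.core hO.1).IsCentral (centSys F F.core hO.1).core := by
    refine central_of_fix hTp hsat (core_le _) fun P f hf x hx hx' => ?_
    obtain ⟨-, g, -, e, h⟩ := mor_centSys.1 hf
    rw [← e hx, h x (hle hx')]
  obtain ⟨_, E, h⟩ := exists_fac_of_sc (sc_of_normal (normal_of_central hZ))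
  have hst' : ∀ Q, Q ≤ centralizerIn S F.core → PStabAt p (centSys F F.core hO.1) Q := fun Q hQ =>
    pStab_of_subsystem centSys_isSubsystemOf (fun Q hQ => hst Q hQ.1) hQ
  by_contra hne
  refine core_ne_bot_of_pStab (h.surj.isPGroup hTp) (h.isSaturated hTp hsat
    (sc_weaklyClosed (sc_of_normal (normal_of_central hZ))))
    (fun Q hQ => h.pStabAt_of_central hp hTp hst' hZ hQ)
    (fun e => hne ((h.surj.eq_bot_iff.1 e).ge.trans hle)) ?_
  rw [← h.surj.pre_inj (core_le E) bot_le, h.pre_core_of_central hTp hsat hZ, h.surj.pre_bot]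

end CL.Fus
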