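import Mathlib
import Cfsg.Agent.FUS.SR3Loc

/-!
# Sectional rank three: lemmas on pairs of local data
-/

set_option autoImplicit false

namespace CL.SR3
open Subgroup Cfsg Cfsg.FusionSystem CL.Fus CL.TV CL.EssSm
open scoped commutatorElement

variable {G : Type*} [Group G] {p : ℕ} {B C D E R M M' N V W X Z : Subgroup G} {A : Subgroup (MulAut E)}

/-- the elements of the normalizer of `N` centralizing `s` modulo `N` -/
def cmN (s : Set G) (N : Subgroup G) : Subgroup G where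
  carrier := {g | g ∈ normalizer (N : Set G) ∧ ∀ c ∈ s, ⁅c, g⁆ ∈ N}
  one_mem' := ⟨one_mem _, fun m _ => by simp⟩
  mul_mem' := fun {a b} ha hb => ⟨mul_mem ha.1 hb.1, fun m hm => by
    convert N.mul_mem (ha.2 m hm) (cj_mem_of_mem_normalizer ha.1 (hb.2 m hm)) using 1
    rw [cj]; group⟩
  inv_mem' := fun {a} ha => ⟨inv_mem ha.1, fun m hm => by
    convert cj_mem_of_mem_normalizer (inv_mem ha.1) (N.inv_mem (ha.2 m hm)) using 1
    rw [cj]; group⟩

theorem comm_sup_zpowers_le' {x : G} (hM : M ≤ normalizer (N : Set G)) (hx : x ∈ normalizer (N : Set G))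
    (h1 : ⁅C, M⁆ ≤ N) (h2 : ∀ c ∈ C, ⁅c, x⁆ ∈ N) : ⁅C, M ⊔ zpowers x⁆ ≤ N :=
  have : M ⊔ zpowers x ≤ cmN C N := sup_le (fun m hm => ⟨hM hm, fun c hc => commutator_le.1 h1 c hc m hm⟩)
    (zpowers_le_of_mem ⟨hx, h2⟩)
  commutator_le.2 fun c hc _ hm => (this hm).2 c hc

theorem comm_mem_of_sup {x y m : G} (hM : M ≤ normalizer (N : Set G)) (hx : x ∈ normalizer (N : Set G))
    (h1 : ∀ c ∈ M, ⁅c, y⁆ ∈ N) (h2 : ⁅x, y⁆ ∈ N) (hm : m ∈ M ⊔ zpowers x) : ⁅m, y⁆ ∈ N :=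
  have : M ⊔ zpowers x ≤ cmN {y} N := sup_le (fun m hm => ⟨hM hm, fun _ hc => hc ▸ comm_mem_swap (h1 m hm)⟩)
    (zpowers_le_of_mem ⟨hx, fun _ hc => hc ▸ comm_mem_swap h2⟩)
  comm_mem_swap ((this hm).2 y rfl)

theorem comm_sup_self_le {x : G} (hM : M ≤ normalizer (N : Set G)) (hx : x ∈ normalizer (N : Set G))
    (h1 : ⁅M, M⁆ ≤ N) (h2 : ∀ c ∈ M, ⁅c, x⁆ ∈ N) : ⁅M ⊔ zpowers x, M ⊔ zpowers x⁆ ≤ N :=
  comm_sup_zpowers_le' hM hx (comm_le_swap (comm_sup_zpowers_le' hM hx h1 h2)) fun _ hc =>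
    comm_mem_of_sup hM hx h2 (by simp) hc

theorem card_img_autFun (α : MulAut E) (hM : M ≤ E) : Nat.card (img (autFun α) M) = Nat.card M :=
  ((isHomOn_autFun α).mono hM).card_img ((autFun_injOn α).mono hM)

theorem img_autFun_le (α : MulAut E) (hM : M ≤ E) : img (autFun α) M ≤ E :=
  img_le_iff.2 fun _ hy => autFun_mem α (hM hy)

theorem exists_move (hD : D ≤ E) {y : G} (h : C ⊔ zpowers y = D) (hC : AutInv A C) (hn : ¬ AutInv A D) :
    ∃ α ∈ A, autFun α y ∉ D := by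
  by_contra! H
  have h1 : C ≤ D := h ▸ le_sup_left
  refine hn fun α hα d _ hd => (h.ge.trans (b := _) (c := (isHomOn_autFun α).preim D) (sup_le (fun c hc => ?_)
    (zpowers_le_of_mem ⟨hD (h.le (mem_sup_right (mem_zpowers y))), H α hα⟩)) hd).2
  exact ⟨hD (h1 hc), h1 (hC α hα c (hD (h1 hc)) hc)⟩

/-- the `A`-invariant subgroup generated by `M` -/
def cl (A : Subgroup (MulAut E)) (M : Subgroup G) : Subgroup G := closure {z | ∃ α ∈ A, ∃ y ∈ M, autFun α y = z}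

theorem mem_cl {α : MulAut E} (hα : α ∈ A) {y : G} (hy : y ∈ M) : autFun α y ∈ cl A M :=
  subset_closure ⟨α, hα, y, hy, rfl⟩

theorem le_cl (hM : M ≤ E) : M ≤ cl A M := fun _ hy => autFun_one (hM hy) ▸ mem_cl A.one_mem hy

theorem cl_le (hM : M ≤ E) (hX : AutInv A X) (h : M ≤ X) : cl A M ≤ X := (closure_le _).2 (by
  rintro _ ⟨α, hα, y, hy, rfl⟩; exact hX α hα y (hM hy) (h hy))

theorem cl_le_self (hM : M ≤ E) : cl A M ≤ E := cl_le hM (autInv_of_le A le_rfl) hM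

theorem autInv_cl (hM : M ≤ E) : AutInv A (cl A M) := fun α hα _ _ hy =>
  ((closure_le (K := (isHomOn_autFun α).preim (cl A M))).2 (by
    rintro _ ⟨β, hβ, y, hy, rfl⟩
    exact ⟨autFun_mem β (hM hy), autFun_mul α β (hM hy) ▸ mem_cl (A.mul_mem hα hβ) hy⟩) hy).2

theorem pow_eq_one_cl (hp : Odd p) (hM : M ≤ E) (h : ∀ y ∈ M, y ^ p = 1) (h1 : ⁅cl A M, cl A M⁆ ≤ Z)
    (h2 : cl A M ≤ centralizer (Z : Set G)) : ∀ y ∈ cl A M, y ^ p = 1 := fun _ =>
  PG.pow_eq_one_of_mem_closure (by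
    rintro _ ⟨α, hα, y, hy, rfl⟩
    rw [← autFun_pow_apply α (hM hy), h y hy, (isHomOn_autFun α).map_one]) fun x hx y hy =>
    have := commutator_le.1 h1 y hy x hx
    PG.mul_pow_eq_one_of_odd (h2 hx _ this).symm (h2 hy _ this).symm hp

/-- `Ω₁ Z(E)` -/
def om (p : ℕ) (E : Subgroup G) : Subgroup G where
  carrier := {y | y ∈ E ∧ y ∈ centralizer (E : Set G) ∧ y ^ p = 1}
  one_mem' := ⟨one_mem _, one_mem _, one_pow p⟩
  mul_mem' := fun {a b} ha hb => ⟨mul_mem ha.1 hb.1, mul_mem ha.2.1 hb.2.1, by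
    rw [Commute.mul_pow (hb.2.1 a ha.1), ha.2.2, hb.2.2, one_mul]⟩
  inv_mem' := fun ha => ⟨inv_mem ha.1, inv_mem ha.2.1, by rw [inv_pow, ha.2.2, inv_one]⟩

theorem autInv_om : AutInv A (om p E) := fun α hα y hy h => ⟨autFun_mem α hy,
  autInv_centralizer le_rfl (autInv_of_le A le_rfl) α hα y hy h.2.1, by
    rw [← autFun_pow_apply α hy, h.2.2, (isHomOn_autFun α).map_one]⟩

theorem om_top_le_center : om p (⊤ : Subgroup G) ≤ center G := fun _ h => mem_center_iff.2 fun g => h.2.1 g trivial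

theorem mem_om_top {z : G} (h1 : z ∈ center G) (h2 : z ^ p = 1) : z ∈ om p (⊤ : Subgroup G) :=
  ⟨trivial, center_le_centralizer _ h1, h2⟩

theorem comm_le_of_le_center (h : Z ≤ center G) : ⁅Z, M⁆ ≤ N :=
  (EigC.commutator_eq_bot_of_le (h.trans (center_le_centralizer _))).trans bot_le

theorem normal_of_le_center (h : Z ≤ center G) : Z.Normal := normal_of_comm_le (comm_le_of_le_center h)

theorem sup_le_centralizer (h1 : V ≤ centralizer (V : Set G)) (h2 : W ≤ centralizer (W : Set G))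
    (h3 : V ≤ centralizer (W : Set G)) : V ⊔ W ≤ centralizer ((V ⊔ W : Subgroup G) : Set G) :=
  commutator_eq_bot_iff_le_centralizer.1 (le_bot_iff.1 (sup_comm_le (comm_sup_le (EigC.commutator_eq_bot_of_le h1)
    (EigC.commutator_eq_bot_of_le h3)) (comm_sup_le (comm_le_swap (EigC.commutator_eq_bot_of_le h3))
      (EigC.commutator_eq_bot_of_le h2))))

theorem SR.card_sup_le (hsr : SR p G) (h1 : V ≤ centralizer (V : Set G)) (h2 : W ≤ centralizer (W : Set G))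
    (h3 : V ≤ centralizer (W : Set G)) (e1 : ∀ y ∈ V, y ^ p = 1) (e2 : ∀ y ∈ W, y ^ p = 1) :
    Nat.card (V ⊔ W : Subgroup G) ≤ p ^ 3 :=
  hsr.card_le (sup_le_centralizer h1 h2 h3) fun _ => PG.pow_eq_one_of_mem_sup
    (le_centralizer_iff_isMulCommutative.1 (sup_le_centralizer h1 h2 h3)) e1 e2

theorem SR.le_of_card [Finite G] (hsr : SR p G) (h1 : V ≤ centralizer (V : Set G))
    (h2 : W ≤ centralizer (W : Set G)) (h3 : W ≤ centralizer (V : Set G)) (e1 : ∀ y ∈ V, y ^ p = 1)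
    (e2 : ∀ y ∈ W, y ^ p = 1) (hc : Nat.card V = p ^ 3) : W ≤ V :=
  le_sup_left.trans (Subgroup.eq_of_le_of_card_ge le_sup_right (hc ▸ hsr.card_sup_le h2 h1 h3 e2 e1)).ge

theorem img_le_centralizer (α : MulAut E) (hV : V ≤ E) (hW : W ≤ E) (h : V ≤ centralizer (W : Set G)) :
    img (autFun α) V ≤ centralizer (img (autFun α) W : Set G) := by
  rw [← commutator_eq_bot_iff_le_centralizer] at h ⊢
  rw [← (isHomOn_autFun α).img_commutator hV hW, h, ((isHomOn_autFun α).mono bot_le).img_bot]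

theorem pow_eq_one_img (α : MulAut E) (hV : V ≤ E) (h : ∀ y ∈ V, y ^ p = 1) : ∀ y ∈ img (autFun α) V, y ^ p = 1 :=
  fun _ hy => by
    obtain ⟨y, hy', rfl⟩ := ((isHomOn_autFun α).mono hV).mem_img.1 hy
    rw [← autFun_pow_apply α (hV hy'), h y hy', (isHomOn_autFun α).map_one]

variable [hp : Fact p.Prime] [Finite G]

omit [Finite G] in
theorem comm_top_le_of [N.Normal] (hE : E.index = p) {x : G} (hx : x ∉ E) (h1 : ⁅C, E⁆ ≤ N)
    (h2 : ∀ c ∈ C, ⁅c, x⁆ ∈ N) : ⁅C, (⊤ : Subgroup G)⁆ ≤ N :=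
  top_eq_sup_zpowers hE hx ▸ comm_sup_le h1 (comm_zpowers_le h2)

theorem autInv_of_elem (hsr : SR p G) (hW : W ≤ E) (h1 : W ≤ centralizer (W : Set G)) (h2 : ∀ y ∈ W, y ^ p = 1)
    (h3 : Nat.card W = p ^ 3) (h4 : ⁅W, E⁆ = Z) (h5 : Nat.card Z = p) : AutInv A Z := by
  have hZ : Z ≤ E := h4 ▸ (commutator_mono hW le_rfl).trans (commutator_le_self E)
  refine autInv_of_forall fun α _ => img_le_iff.1 ?_
  have e : ⁅img (autFun α) W, E⁆ = img (autFun α) Z := by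
    rw [← h4, (isHomOn_autFun α).img_commutator hW le_rfl, img_autFun]
  by_cases h : img (autFun α) W ≤ centralizer (W : Set G)
  · exact e.ge.trans ((commutator_mono (hsr.le_of_card h1 (img_le_centralizer α hW hW h1) h h2
      (pow_eq_one_img α hW h2) h3) le_rfl).trans h4.le)
  · rw [← commutator_eq_bot_iff_le_centralizer] at h
    exact ((eq_or_eq ((relIndex_bot_left _).trans ((card_img_autFun α hZ).trans h5)) bot_le
      ((commutator_mono le_rfl hW).trans e.le)).resolve_left h).ge.trans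
      (comm_le_swap ((commutator_mono le_rfl (img_autFun_le α hW)).trans h4.le))

theorem om_le_of_normal (hG : IsPGroup p G) (h : Nat.card (om p (⊤ : Subgroup G)) = p) [M.Normal] (hM : M ≠ ⊥) :
    om p ⊤ ≤ M := by
  obtain ⟨z, h1, h2, h3⟩ := PN.exists_mem_center_orderOf_eq hG M hM
  exact le_of_not_le ((relIndex_bot_left _).trans h) bot_le bot_le (mem_om_top h2 (h3 ▸ pow_orderOf_eq_one z))
    (fun e => hp.out.ne_one (h3 ▸ orderOf_eq_one_iff.2 e)) h1

namespace Loc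
variable (h : Loc p ⊤ E A) {x : G}
include h

omit hp [Finite G] in
theorem index : E.index = p := relIndex_top_right E ▸ h.idx

omit hp [Finite G] in
theorem pgG : IsPGroup p G := h.pg.of_equiv topEquiv

theorem normal (hM : M ≤ E) (hi : AutInv A M) : M.Normal :=
  normalizer_eq_top_iff.1 (top_le_iff.1 (h.le_normalizer hM hi))

theorem normalE : E.Normal := h.normal le_rfl (autInv_of_le A le_rfl)

theorem center_le : center G ≤ E := fun _ hz => h.cent trivial (center_le_centralizer _ hz)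

omit hp [Finite G] in
theorem triv_top (hM : AutInv A M) (hM' : AutInv A M') (hc : ⁅M', (⊤ : Subgroup G)⁆ ≤ M) :
    ∀ α ∈ A, ∀ y ∈ E, y ∈ M' → y⁻¹ * autFun α y ∈ M :=
  h.triv hM hM' fun g _ _ _ hy => inv_mul_cj_mem (comm_le_swap hc) (mem_top g) hy

omit hp [Finite G] in
theorem between (hM : AutInv A M) (hM' : AutInv A M') (hc : ⁅M', (⊤ : Subgroup G)⁆ ≤ M) (h1 : M ≤ X)
    (h2 : X ≤ M') : AutInv A X :=
  h.autInv_of_triv hM hM' (fun g _ _ _ hy => inv_mul_cj_mem (comm_le_swap hc) (mem_top g) hy) h1 h2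

theorem not_flag (hx : x ∉ E) (hME : M ≤ E) (hM : AutInv A M) (h1 : ∀ y ∈ E, ⁅y, x⁆ ∈ M)
    (h2 : ∀ y ∈ M, x * y = y * x) : False :=
  have := h.normal hME hM
  (h.toRad trivial hx).notMem (h.mem_inn₂ (h.cj_mem trivial) hM (fun y hy hyM =>
    (autFun_cjAut _ hy).trans (cj_eq_self_iff.2 (h2 y hyM))) fun y hy =>
      autFun_cjAut (h.norm (mem_top x)) hy ▸ inv_mul_cj_iff.2 (h1 y hy))

theorem not_flag_Ph (hx : x ∉ E) (h1 : Ph E ≤ M) (h2 : M ≤ M') (h3 : M' ≤ E) (hM : AutInv A M) (hM' : AutInv A M')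
    (t1 : ∀ y ∈ M, ⁅y, x⁆ ∈ Ph E) (t2 : ∀ y ∈ M', ⁅y, x⁆ ∈ M) (t3 : ∀ y ∈ E, ⁅y, x⁆ ∈ M') : False :=
  have := h.normalE
  have := h.normal (h2.trans h3) hM
  have := h.normal h3 hM'
  have k : ∀ {Y : Subgroup G} [Y.Normal] {y}, y ∈ E → ⁅y, x⁆ ∈ Y →
      y⁻¹ * autFun (cjAut E x (h.norm (mem_top x))) y ∈ Y := fun hy h' =>
    autFun_cjAut (h.norm (mem_top x)) hy ▸ inv_mul_cj_iff.2 h'
  (h.toRad trivial hx).notMem (h.mem_inn_Ph (h.cj_mem trivial) h1 h2 hM hM' (fun y hy hM => k hy (t1 y hM))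
    (fun y hy hM => k hy (t2 y hM)) fun y hy => k hy (t3 y hy))

theorem not_triv_Ph (hx : x ∉ E) (t : ∀ y ∈ E, ⁅y, x⁆ ∈ Ph E) : False :=
  have := autInv_map_of_char A (frattini E)
  h.not_flag_Ph hx le_rfl le_rfl (Ph_le E) this this (fun y hy => t y (Ph_le E hy)) (fun y hy => t y (Ph_le E hy)) t

theorem not_cent_le (hM : M ≤ E) (hi : AutInv A M) (hc : ⁅M, (⊤ : Subgroup G)⁆ ≤ Ph M) :
    ¬ E ⊓ centralizer (M : Set G) ≤ M := fun e =>
  have ⟨_, h1, h2, h3⟩ := h.exists_cent hM hi fun g _ _ hy => inv_mul_cj_mem (comm_le_swap hc) (mem_top g) hy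
  h3 (e ⟨h1, h2⟩)

theorem tvS_top (hx : x ∉ E) (hV : V ≤ E) (hVi : AutInv A V) (hBi : AutInv A B) (hBL : B ≤ Z) (hLV : Z ≤ V)
    (hc : ⁅V, E⁆ ≤ B) (hL : Z.relIndex V = p) (h1 : ⁅Z, (⊤ : Subgroup G)⁆ ≤ B) (h2 : ¬ AutInv A Z) :
    ∃ L₁ D, TvS p A (cjAut E x (h.norm trivial)) V B Z L₁ D :=
  h.tvS trivial hx hV hVi hBi hBL hLV (fun _ hg _ hy => inv_mul_cj_mem (comm_le_swap hc) hg hy) hL
    (fun _ hy => inv_mul_cj_mem (comm_le_swap h1) (mem_top x) hy) h2

theorem le_of_comm_le (hp2 : Odd p) (hZ : Nat.card (om p (⊤ : Subgroup G)) = p) (hn : ¬ AutInv A (om p ⊤))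
    (hi : (om p ⊤).relIndex (cl A (om p ⊤)) = p) (hx : x ∉ E) (hc : ∀ y ∈ E, ⁅y, x⁆ ∈ cl A (om p ⊤)) :
    E ≤ cl A (om p ⊤) := by
  by_contra H
  have hZE : om p ⊤ ≤ E := om_top_le_center.trans h.center_le
  have hVi := autInv_cl (A := A) hZE
  have hVE := cl_le_self (A := A) hZE
  have := h.normalE
  have := h.normal hVE hVi
  have hP : Ph E = ⊥ := by_contra fun e => h.not_triv_Ph hx fun y hy =>
    cl_le hZE (autInv_map_of_char A _) (om_le_of_normal h.pgG hZ e) (hc y hy)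
  have hEE : ⁅E, E⁆ ≤ ⊥ := hP ▸ comm_le_Ph h.pgE
  have hab := commutator_eq_bot_iff_le_centralizer.1 (le_bot_iff.1 hEE)
  obtain ⟨L₁, D, t⟩ := h.tvS_top hx hVE hVi (autInv_bot A) bot_le (le_cl hZE) ((commutator_mono hVE le_rfl).trans hEE)
    hi (comm_le_of_le_center om_top_le_center) hn
  obtain ⟨w, hw, w1, -, -, w4⟩ := t.tor (-1) (-1) (by simp)
  have hu := h.cj_mem (mem_top x)
  set u := cjAut E x _
  have tr := h.triv_top hVi (autInv_of_le A le_rfl) (comm_top_le_of h.index hx (hEE.trans bot_le) hc)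
  have hβ : u⁻¹ * (w * u * w⁻¹) ∈ A := mul_mem (inv_mem hu) (Fus.cj_mem hw hu)
  have e1 : u⁻¹ * (w * u * w⁻¹) = 1 := (inn_eq_bot_of_comm (le_centralizer_iff_isMulCommutative.1 hab)).le
    (h.mem_inn₂ hβ hVi (fun y hy hV => by
      have := inv_mul_eq_one.1 (w4 y hV)
      rw [autFun_mul _ _ hy, ← this, neg_mul_neg, mul_one, zpow_one, autFun_inv_autFun u hy])
      fun y hy => tr _ hβ y hy hy)
  rw [inv_mul_eq_one, eq_mul_inv_iff_mul_eq] at e1
  let K := (isHomOn_autFun w).eqSub (isHomOn_id E)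
  obtain ⟨y, hy, hy1, hwy⟩ := exists_fixed_of_lt (isHomOn_autFun w) (lt_of_le_not_ge hVE H) fun y hy => tr w hw y hy hy
  have : K.Normal := normalizer_eq_top_iff.1 (eq_top_of_not_mem h.index (fun g hg => centralizer_le_normalizer _
    fun k hk => (hab hg k hk.1)) hx (mem_normalizer_of_cj_mem fun k hk => ⟨cj_mem_of_mem_normalizer (h.norm trivial)
      hk.1, by rw [id, ← autFun_cjAut (h.norm trivial) hk.1, ← autFun_mul _ _ hk.1, ← e1, autFun_mul _ _ hk.1, hk.2]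
               rfl⟩))
  obtain ⟨z, hz, hz1⟩ := exists_not_mem t.idx
  have h1 := (om_le_of_normal h.pgG hZ (M := K) (fun e => hy1 (e.le ⟨hy, hwy⟩)) (t.sup.le (mem_sup_left hz))).2
  have h2 := w1 z hz
  rw [h1, mem_bot, zpow_neg_one, inv_inv, id, mul_eq_one_iff_eq_inv] at h2
  exact hz1 (eq_one_of_eq_inv hp2 (t.sup.le (mem_sup_left hz)).2.2 h2)

end Loc

theorem not_card_five' (hG : IsPGroup p G) (hsr : SR p G) (h2 : _root_.commutator G ≤ V) (h3 : V ≤ center G)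
    (h4 : ∀ y : G, y ^ p = 1) (h5 : Nat.card V = p ^ 2) (h6 : p ^ 5 ≤ Nat.card G) : False := by
  have hl : ∀ {m n : ℕ}, m < n → p ^ m < p ^ n := fun h => Nat.pow_lt_pow_right hp.out.one_lt h
  have ab : ∀ {X : Subgroup G} {x}, X ≤ centralizer (X : Set G) → x ∈ centralizer (X : Set G) →
      X ⊔ zpowers x ≤ centralizer ((X ⊔ zpowers x : Subgroup G) : Set G) := fun h h' =>
    sup_le_centralizer h (le_centralizer _) (le_centralizer_iff.1 (zpowers_le_of_mem h'))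
  have c3 : ∀ x, Nat.card (V ⊔ zpowers x : Subgroup G) ≤ p ^ 3 := fun x => hsr.card_le (ab (h3.trans
    (center_le_centralizer _)) fun v hv => (mem_center_iff.1 (h3 hv) x).symm) fun y _ => h4 y
  have ex : ∀ {X : Subgroup G}, Nat.card X ≤ p ^ 4 → ∃ x, x ∉ X := fun h => by
    by_contra! H
    exact (hl (by omega)).not_ge ((h6.trans (card_top.ge.trans (Subgroup.card_le_of_le fun x _ => H x))).trans h)
  have := Normal.of_commutator_le _ h2
  obtain ⟨a, ha⟩ := ex (h5.le.trans (hl (by omega)).le)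
  obtain ⟨b, hb⟩ := ex ((c3 a).trans (hl (by omega)).le)
  have := Normal.of_commutator_le _ (h2.trans (le_sup_left (b := zpowers a)))
  have i1 := MC.relIndex_sup_zpowers_dvd_of_pow_mem ((normalizer_eq_top (V ⊔ zpowers a)).ge (mem_top b))
    (h4 b ▸ one_mem _)
  set W := V ⊔ zpowers a ⊔ zpowers b
  have hVW : V ≤ W := le_sup_left.trans le_sup_left
  obtain ⟨c, hc⟩ := ex (X := W) ((card_eq_of_relIndex le_sup_left rfl).trans_le ((Nat.mul_le_mul
    (Nat.le_of_dvd hp.out.pos i1) (c3 a)).trans_eq (pow_succ' p 3).symm))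
  have ht : ⁅a, b⁆ ∈ V := h2 (commutator_mem_commutator trivial trivial)
  have := normal_of_le_center (zpowers_le_of_mem (h3 ht))
  have hW : ⁅W, W⁆ ≤ zpowers ⁅a, b⁆ := comm_sup_zpowers_le (comm_sup_zpowers_le (comm_le_of_le_center h3)
    fun v hv => comm_le_of_le_center h3 (commutator_mem_commutator hv (mem_top a))) fun y hy => mem_ce.1
      (sup_le (fun v hv => mem_ce.2 (comm_le_of_le_center h3 (commutator_mem_commutator hv (mem_top b))))
        (zpowers_le_of_mem (mem_ce.2 (mem_zpowers _))) hy)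
  have n1 : ¬ V ⊔ zpowers a ≤ V := fun e => ha (e (mem_sup_right (mem_zpowers a)))
  have n2 : ¬ W ≤ V ⊔ zpowers a := fun e => hb (e (mem_sup_right (mem_zpowers b)))
  have c4 : ∀ x, x ∉ V → centralizer {x} ≤ V ⊔ zpowers x := fun x hx y hy => by_contra fun e => (hl (by omega : 3 < 4)).not_ge
      ((PG.pow_succ_le_card_of_lt hG (lt_of_le_not_ge le_sup_left fun e' => e (e' (mem_sup_right (mem_zpowers y))))
        (PG.pow_succ_le_card_of_lt hG (lt_of_le_not_ge le_sup_left fun e' => hx (e' (mem_sup_right (mem_zpowers x))))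
          h5.ge)).trans (hsr.card_le (ab (ab (h3.trans (center_le_centralizer _))
            fun v hv => (mem_center_iff.1 (h3 hv) x).symm) (le_centralizer_iff.1 (zpowers_le_of_mem
              (PG.centralizer_sup_zpowers V x ▸ ⟨fun v hv => (mem_center_iff.1 (h3 hv) y).symm, hy⟩))
                |> le_centralizer_iff.1 <| mem_zpowers y)) fun y _ => h4 y))
  have hT : Nat.card (zpowers ⁅a, b⁆) ≤ p := (Nat.card_zpowers _).trans_le (orderOf_le_of_pow_eq_one hp.out.pos (h4 _))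
  have c5 : ∀ x, x ∉ V → (∀ y, ⁅y, x⁆ ∈ zpowers ⁅a, b⁆) → False := fun x hx h =>
    (hl (by omega : 4 < 5)).not_ge (h6.trans ((card_mul_index _).ge.trans ((Nat.mul_le_mul
      ((Subgroup.card_le_of_le (c4 x hx)).trans (c3 x)) ((relIndex_top_right _).ge.trans
        ((PG.relIndex_centralizer_le_card ⊤ _ x fun y _ => h y).trans hT))).trans_eq (pow_succ p 3).symm)))
  have i2 : W.index = p := relIndex_top_right W ▸ relIndex_eq hG ((relIndex_le_right hG le_sup_left le_top n2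
    (relIndex_le_right hG le_sup_left le_top n1 (hsr V ⊤ h2 fun y _ => h4 y ▸ one_mem _))).trans_eq (pow_one p))
    fun e => hc (e trivial)
  have i3 : (ce c (zpowers ⁅a, b⁆)).relIndex W ≤ p := (relIndex_ce_le fun y _ => h2 (commutator_mem_commutator
    trivial trivial)).trans ((relIndex_le_right hG (B := ⊥) (k := 1) bot_le (zpowers_le_of_mem ht) (fun e => hb (c4 a ha
      (mem_centralizer_singleton_iff.2 (commutatorElement_eq_one_iff_mul_comm.1 (e (mem_zpowers _))).symm)))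
      ((relIndex_bot_left V).trans h5).le).trans_eq (pow_one p))
  obtain ⟨x, hx, hxV⟩ : ∃ x ∈ ce c (zpowers ⁅a, b⁆) ⊓ W, x ∉ V := by
    by_contra! H
    exact hp.out.one_lt.not_ge ((le_relIndex hG n2).trans (relIndex_le_right hG (k := 0) le_sup_left
      le_sup_left n1 ((relIndex_le_of_le_left H index_ne_zero_of_finite).trans ((inf_relIndex_right _ _).trans_le
        (i3.trans_eq (pow_one p).symm)))))
  exact c5 x hxV fun y => mem_ce.1 ((eq_top_of_not_mem i2 (fun w hw => mem_ce.2 (commutator_le.1 hW w hw x hx.2)) hc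
    (mem_ce.2 (comm_mem_swap (mem_ce.1 hx.1)))).ge (mem_top y))

theorem not_card_five (hG : IsPGroup p G) (hsr : SR p G) (h1 : V ≤ X) (h2 : ⁅X, X⁆ ≤ V)
    (h3 : V ≤ centralizer (X : Set G)) (h4 : ∀ y ∈ X, y ^ p = 1) (h5 : Nat.card V = p ^ 2)
    (h6 : p ^ 5 ≤ Nat.card X) : False :=
  not_card_five' (V := V.subgroupOf X) (hG.to_subgroup X) (hsr.comap X.subtype_injective)
    (fun _ hx => h2 (map_subtype_commutator X ▸ mem_map_of_mem _ hx))
    (fun _ hx => mem_center_iff.2 fun y => Subtype.ext (h3 hx y y.2)) (fun y => Subtype.ext (h4 y y.2))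
    ((Nat.card_congr (subgroupOfEquivOfLe h1).toEquiv).trans h5) h6

variable (hG : IsPGroup p G) (hp2 : Odd p) (hsr : SR p G)
include hG hp2 hsr

theorem sl3 {A' : Subgroup (MulAut R)} (hE : E.index = p) (hR : R.index = p) (hne : E ≠ R) [C.Normal]
    (hC : C ≤ E ⊓ R) (hi : C.relIndex (E ⊓ R) = p) (iE : AutInv A C) (iR : AutInv A' C) (nE : ¬ AutInv A (E ⊓ R))
    (nR : ¬ AutInv A' (E ⊓ R)) (hc : ¬ _root_.commutator G ≤ C) : ⁅C, (⊤ : Subgroup G)⁆ ≤ Ph C := by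
  have := PG.normal_of_index_eq hG hE
  have := PG.normal_of_index_eq hG hR
  have hCp := hG.to_subgroup C
  set D := E ⊓ R with hD
  set N := Ph C with hN
  obtain ⟨y, hy, hyC⟩ := exists_not_mem hi
  have eD := eq_sup_zpowers hC hi hy hyC
  have hCC : ⁅C, C⁆ ≤ N := comm_le_Ph hCp
  have key : ∀ M : Subgroup G, (∀ (P : Subgroup G) (A : Subgroup (MulAut P)) (α : MulAut P), α ∈ A → P.index = p →
      D ≤ P → D.relIndex P = p → autFun α y ∉ D → AutInv A C → AutInv A N → ⁅M, P⁆ ≤ N) →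
      ⁅M, (⊤ : Subgroup G)⁆ ≤ N := fun M h => by
    obtain ⟨α, hα, h1⟩ := exists_move inf_le_left eD iE nE
    obtain ⟨β, hβ, h2⟩ := exists_move inf_le_right eD iR nR
    exact sup_eq_top hE hR hne ▸ comm_sup_le (h E A α hα hE inf_le_left (relIndex_inf hG hE hR hne) h1 iE
      (autInv_Ph (hC.trans inf_le_left) hCp iE)) (h R A' β hβ hR inf_le_right
        (hD.trans (inf_comm E R) ▸ relIndex_inf hG hR hE hne.symm) h2 iR (autInv_Ph (hC.trans inf_le_right) hCp iR))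
  by_cases hK : y ∈ cm C N
  · exact key C fun P A α hα _ h1 h2 h3 h4 h5 => le_cm.1 (le_of_not_le h2 h1 (eD.ge.trans (sup_le (le_cm.2 hCC)
      (zpowers_le_of_mem hK))) (autFun_mem α (h1 hy)) h3 (autInv_cm (hC.trans h1) h4 h5 α hα y (h1 hy) hK))
  exfalso
  have hNC : N ≤ C := Ph_le C
  have hG' : _root_.commutator G ≤ D := commutator_le.2 fun a _ b _ =>
    ⟨comm_mem_of_index hG hE a b, comm_mem_of_index hG hR a b⟩
  have eD' : _root_.commutator G ⊔ C = D := (eq_or_eq hi le_sup_right (sup_le hG' hC)).resolve_left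
    fun e => hc (le_sup_left.trans e.le)
  set L₁ := ⁅C, (⊤ : Subgroup G)⁆ ⊔ N with hL₁
  set L₂ := ⁅L₁, (⊤ : Subgroup G)⁆ ⊔ N with hL₂
  have l1 : L₁ ≤ C := sup_le (commutator_le_left _ _) hNC
  have l2 : L₂ ≤ L₁ := sup_le (commutator_le_left _ _) le_sup_right
  have three : ∀ {X Y Z : Subgroup G} [Z.Normal], ⁅X, (⊤ : Subgroup G)⁆ ≤ Y → ⁅Y, (⊤ : Subgroup G)⁆ ≤ Z → X ≤ C →
      N ≤ Z → ⁅X, D⁆ ≤ Z := fun h1 h2 h3 h4 => eD' ▸ comm_sup_le (comm_le_swap (HP.three_sub_le _ _ _ _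
        ((commutator_mono (comm_le_swap h1) le_rfl).trans h2) ((commutator_mono h1 le_rfl).trans h2)))
      (((commutator_mono h3 le_rfl).trans hCC).trans h4)
  have c1 : ⁅C, D⁆ ≤ L₂ := three le_sup_left le_sup_left le_rfl le_sup_right
  have n2 : ¬ L₂ ≤ N := fun e => hK (le_cm.2 (c1.trans e) hy)
  have n1 : ¬ L₁ ≤ L₂ := not_le_comm_sup hG fun e => n2 (l2.trans e)
  have n0 : ¬ C ≤ L₁ := not_le_comm_sup hG fun e => n2 (l2.trans (l1.trans e))
  have i0 := hsr.relIndex_Ph hCp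
  have i1 := relIndex_le_left hG le_sup_right l1 n0 i0
  have i2 := relIndex_eq hG ((relIndex_le_left hG le_sup_right l2 n1 i1).trans_eq (pow_one p)) n2
  have i3 := relIndex_eq hG ((relIndex_le_right hG le_sup_right l2 n2 i1).trans_eq (pow_one p)) n1
  have i4 := relIndex_eq hG ((relIndex_le_right hG l2 l1 n1 (relIndex_le_right hG le_sup_right (l2.trans l1) n2
    i0)).trans_eq (pow_one p)) n0
  have c2 : ⁅L₂, (⊤ : Subgroup G)⁆ ≤ N := comm_top_le hG i2.le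
  have c3 : ⁅L₁, D⁆ ≤ N := three le_sup_left c2 l1 le_rfl
  have c4 : ⁅D, (⊤ : Subgroup G)⁆ ≤ C := comm_top_le hG hi.le
  have hyp : y ^ p ∈ L₂ := by
    have h1 : y ^ p ∈ C := hi ▸ pow_relIndex_mem C hy
    have h2 : y ^ p ∈ cm ⊤ N := fun s _ => by
      have h3 : ⁅s, y⁆ ∈ C := comm_mem_swap (commutator_le.1 c4 y hy s trivial)
      have h4 : ⁅y, ⁅s, y⁆⁆ ∈ L₂ := comm_mem_swap (commutator_le.1 c1 _ h3 y hy)
      have h5 := N.mul_mem (pow_mem_Ph hCp h3) ((inferInstance : N.Normal).conj_mem _ (mul_pow_mem hp2 ((normalizer_eq_top N).ge (mem_top _))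
        ((normalizer_eq_top N).ge (mem_top y)) (comm_mem_swap (commutator_le.1 c2 _ h4 _ trivial))
        (comm_mem_swap (commutator_le.1 c2 _ h4 _ trivial)) (pow_mem_Ph hCp (l1 (l2 h4)))) (y ^ p))
      rw [← PG.conj_eq_commutator_mul, conj_pow] at h5
      convert h5 using 1
      group
    by_contra h3
    by_cases h4 : y ^ p ∈ L₁
    · exact n2 (sup_le (le_cm'.1 (le_of_not_le i3 l2 (le_cm'.2 c2) h4 h3 h2)) le_rfl)
    · exact hK fun c hc => commutator_le.1 (le_cm'.1 (le_of_not_le (X := cm (zpowers y) N) i4 l1 (le_cm'.2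
        ((commutator_mono le_rfl (zpowers_le_of_mem hy)).trans c3)) h1 h4 fun m _ => h2 m trivial)) c hc y
        (mem_zpowers y)
  refine n2 (sup_le (key L₁ fun P A α hα hP h1 h2 h3 h4 h5 => ?_) le_rfl)
  have := PG.normal_of_index_eq hG hP
  have hCP := hC.trans h1
  have ha := autFun_mem α (h1 hy)
  have eP := eq_sup_zpowers h1 h2 ha h3
  have hf := isHomOn_autFun α
  have k1 : ∀ {X Y : Subgroup G}, X ≤ C → (∀ x ∈ X, ⁅x, y⁆ ∈ Y) → ∀ x ∈ img (autFun α) X,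
      ⁅x, autFun α y⁆ ∈ img (autFun α) Y := fun hX h x hx => by
    obtain ⟨x, hx', rfl⟩ := (hf.mono (hX.trans hCP)).mem_img.1 hx
    exact hf.map_commutator (hCP (hX hx')) (h1 hy) ▸ mem_img_of_mem _ (h x hx')
  have eC := img_eq_of_autInv hCP h4 hα
  have eN := img_eq_of_autInv (hNC.trans hCP) h5 hα
  have k2 : AutInv A L₁ → ⁅L₁, P⁆ ≤ N := fun h => eP ▸ comm_sup_le c3 (comm_zpowers_le fun l hl => eN ▸ k1 l1
    (fun x hx => commutator_le.1 c3 x hx y hy) l ((img_eq_of_autInv (l1.trans hCP) h hα).ge hl))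
  by_contra H
  obtain ⟨l, hl, hlN⟩ : ∃ l ∈ L₁, ⁅l, autFun α y⁆ ∉ N := by
    by_contra! H'
    exact H (eP ▸ comm_sup_le c3 (comm_zpowers_le H'))
  have k3 := k1 le_rfl fun x hx => commutator_le.1 c1 x hx y hy
  rw [eC] at k3
  have c5 : ⁅C, P⁆ ≤ L₂ := eP ▸ comm_sup_le c1 (comm_zpowers_le fun c hc => le_of_not_le (relIndex_eq_of_card
    (eN.ge.trans (img_mono _ le_sup_right)) ((card_img_autFun α (l2.trans (l1.trans hCP))).trans
      (card_eq_of_relIndex le_sup_right i2))) (eN.ge.trans (img_mono _ le_sup_right)) le_sup_right (k3 l (l1 hl)) hlN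
        (mem_sup_left (commutator_mem_commutator hl (mem_top _))) (k3 c hc))
  have j2 : AutInv A L₂ := hL₂ ▸ ((eq_or_eq i2 le_sup_right (sup_le c5 le_sup_right)).resolve_left fun e =>
    hK (le_cm.2 (le_sup_left.trans e.le) (h1 hy))) ▸ autInv_sup ((commutator_le_left _ _).trans hCP)
      (hNC.trans hCP) (autInv_comm hCP le_rfl h4 (autInv_of_le A le_rfl)) h5
  have hDD : ⁅D, D⁆ ≤ L₂ := eD ▸ comm_sup_zpowers_le (hCC.trans le_sup_right) fun c hc =>
    commutator_le.1 c1 c hc y hy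
  have hpD : ∀ d ∈ D, d ^ p ∈ L₂ := eD ▸ pow_mem_sup ((commutator_mono le_rfl (zpowers_le_of_mem hy)).trans c1)
    (fun c hc => mem_sup_right (pow_mem_Ph hCp hc)) (pow_mem_zpowers hyp) (hCC.trans le_sup_right) comm_zpowers_self
  have ht : ⁅y, autFun α y⁆ ∈ C := commutator_le.1 c4 y hy _ trivial
  have h7 : ∀ {Y : Subgroup G}, P ≤ normalizer (Y : Set G) → L₂ ≤ Y → ⁅y, autFun α y⁆ ∈ Y → ⁅P, P⁆ ≤ Y :=
    fun hn h h' => eP ▸ comm_sup_self_le (h1.trans hn) (hn ha) (hDD.trans h) fun d hd => comm_mem_of_sup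
      (hCP.trans hn) (hn (h1 hy)) (fun c hc => h (commutator_le.1 c5 c hc _ ha)) h' (eD.ge hd)
  by_cases h6 : ⁅y, autFun α y⁆ ∈ L₂
  · have h7 := h7 (le_top.trans (normalizer_eq_top L₂).ge) le_rfl h6
    have h8 := hsr L₂ P h7 (eP ▸ pow_mem_sup ((commutator_mono h1 (zpowers_le_of_mem ha)).trans h7) hpD
      (pow_mem_zpowers (hf.map_pow (h1 hy) p ▸ j2 α hα _ (pow_mem (h1 hy) p) hyp)) hDD comm_zpowers_self)
    exact hp.out.one_lt.not_ge (h2.ge.trans (relIndex_le_right hG hC h1 (not_le_of_relIndex hi) (relIndex_le_right hG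
      l1 hCP n0 (relIndex_le_right hG l2 (l1.trans hCP) n1 h8))))
  have hY : L₂ ⊔ zpowers ⁅y, autFun α y⁆ ≤ C := sup_le (l2.trans l1) (zpowers_le_of_mem ht)
  have h8 := sup_le (h7 (le_normalizer_iff_commutator_le_left.2 (((commutator_mono hY le_rfl).trans c5).trans
    le_sup_left)) le_sup_left (mem_sup_right (mem_zpowers _))) le_sup_left
  have h9 := mem_sup_left (T := L₂) (commutator_mem_commutator (h1 hy) ha)
  have i5 : L₂.relIndex (⁅P, P⁆ ⊔ L₂) ≤ p := (relIndex_le_of_le_right h8 index_ne_zero_of_finite).trans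
    (Nat.le_of_dvd hp.out.pos (MC.relIndex_sup_zpowers_dvd_of_pow_mem ((normalizer_eq_top L₂).ge (mem_top _))
      (mem_sup_right (pow_mem_Ph hCp ht))))
  have h10 : ⁅P, P⁆ ⊔ L₂ ≤ L₁ := by
    by_contra e
    obtain ⟨x, hx, hxL⟩ := SetLike.not_le_iff_exists.1 e
    exact n1 (sup_le (le_cm'.1 (le_of_not_le i4 l1 (le_cm'.2 le_sup_left) (hY (h8 hx)) hxL
      (le_cm'.2 (comm_top_le hG i5) hx))) le_sup_right)
  have c6 := k2 (le_antisymm h10 (le_of_not_le i3 l2 le_sup_right (h10 h9) h6 h9) ▸ autInv_sup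
    (commutator_le_left _ _) (l2.trans (l1.trans hCP)) (autInv_comm le_rfl le_rfl (autInv_of_le A le_rfl)
      (autInv_of_le A le_rfl)) j2)
  exact H c6

end CL.SR3
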