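import Mathlib
import Cfsg.Agent.FUS.SR3Lem

/-!
# Sectional rank three: families of local data without common invariant subgroup
-/

set_option autoImplicit false

namespace CL.SR3
open Subgroup Cfsg Cfsg.FusionSystem CL.Fus CL.TV CL.EssSm
open scoped commutatorElement

variable {G : Type*} [Group G] {p : ℕ} [hp : Fact p.Prime] [Finite G] {B C D E R M V W X Z : Subgroup G}
  {A : Subgroup (MulAut E)} {A' : Subgroup (MulAut R)}

omit [Finite G] in
theorem pow_lt {m n : ℕ} (h : m < n) : p ^ m < p ^ n := Nat.pow_lt_pow_right hp.out.one_lt h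

omit hp [Finite G] in
theorem mem_cent_sup {c u : G} (h1 : ∀ v ∈ V, v * c = c * v) (h2 : u * c = c * u) :
    c ∈ centralizer ((V ⊔ zpowers u : Subgroup G) : Set G) := fun _ hy => mem_centralizer_singleton_iff.1
  ((sup_le (fun v hv => mem_centralizer_singleton_iff.2 (h1 v hv)) (zpowers_le_of_mem
    (mem_centralizer_singleton_iff.2 h2)) : V ⊔ zpowers u ≤ centralizer {c}) hy)

theorem comm_of_relIndex_le (hG : IsPGroup p G) (h1 : M ≤ E ⊓ centralizer (E : Set G))
    (h : (Ph E ⊔ M).relIndex E ≤ p) : E ≤ centralizer (E : Set G) := by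
  obtain ⟨y, hy, e⟩ : ∃ y ∈ E, E ≤ Ph E ⊔ M ⊔ zpowers y := by
    by_cases h' : E ≤ Ph E ⊔ M
    · exact ⟨1, one_mem _, h'.trans le_sup_left⟩
    · obtain ⟨y, hy, hy'⟩ := SetLike.not_le_iff_exists.1 h'
      exact ⟨y, hy, (eq_sup_zpowers (sup_le (Ph_le E) (h1.trans inf_le_left)) (relIndex_eq hG h h') hy hy').ge⟩
  have h2 : M ⊔ zpowers y ≤ E := sup_le (h1.trans inf_le_left) (zpowers_le_of_mem hy)
  rw [sup_assoc, sup_comm] at e
  rw [← h2.antisymm (le_of_le_sup_Ph h2 e)]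
  exact sup_le_centralizer (fun m hm x hx => (h1 hm).2 x (h1 hx).1) (le_centralizer _)
    fun m hm x hx => (h1 hm).2 x (zpowers_le_of_mem hy hx)

theorem fix_lemma (hG : IsPGroup p G) {b : G} (hW : Nat.card W = p ^ 3) (hV : Nat.card V = p ^ 2)
    (hZ : Nat.card Z = p) (h1 : V ≤ W) (h2 : Z ≤ W) (h3 : Z ≤ center G) (h4 : ∀ y ∈ W, ⁅y, b⁆ ∈ Z)
    (h5 : ¬ V ≤ centralizer {b}) [(centralizer {b} ⊓ W).Normal] :
    ⁅centralizer {b} ⊓ W, (⊤ : Subgroup G)⁆ ≤ Z ∧ V ⊔ centralizer {b} ⊓ W = W ∧ ¬ centralizer {b} ⊓ W ≤ Z := by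
  have := normal_of_le_center h3
  have c1 : p ^ 2 ≤ Nat.card (centralizer {b} ⊓ W : Subgroup G) := Nat.le_of_mul_le_mul_right
    ((pow_succ p 2).ge.trans (hW ▸ hZ ▸ EigC.card_le_mul h4)) hp.out.pos
  have c2 := (PG.card_le_pow_of_lt hG (lt_of_le_not_ge inf_le_right fun e => h5 (h1.trans (e.trans inf_le_left)))
    hW.le).antisymm c1
  refine ⟨comm_top_le hG (EigC.relIndex_of_card (le_inf (h3.trans (center_le_centralizer _)) h2) c2
    (hZ.trans (pow_one p).symm)).le, (eq_or_eq (EigC.relIndex_of_card h1 hW hV) le_sup_left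
      (sup_le h1 inf_le_right)).resolve_left fun e => h5 ((Subgroup.eq_of_le_of_card_ge (le_sup_right.trans e.le)
        (hV.trans c2.symm).le).ge.trans inf_le_left), fun e => (pow_lt (by omega : 1 < 2)).not_ge
          (c1.trans ((Subgroup.card_le_of_le e).trans (hZ.trans (pow_one p).symm).le))⟩

namespace Loc
variable (h : Loc p ⊤ E A)
include h

theorem pow_eq_one (hc : Nat.card E ≤ p ^ 2) : ∀ y ∈ E, y ^ p = 1 := fun y hy => by
  obtain ⟨x, -, hx⟩ := exists_not_mem h.idx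
  obtain ⟨k, hk⟩ := PG.card_eq_pow h.pgG E
  have h1 := (h.toRad trivial hx).index_eq₀ ((index_dvd_card _).trans
    (hk ▸ pow_dvd_pow p ((Nat.pow_le_pow_iff_right hp.out.one_lt).1 (hk ▸ hc))))
  have h2 : frattini E = ⊥ := card_eq_one.1 (Nat.le_one_iff_eq_zero_or_eq_one.1 (Nat.le_of_mul_le_mul_right
    ((h1 ▸ card_mul_index _).trans_le (hc.trans_eq (one_mul _).symm)) (pow_pos hp.out.pos 2)) |>.resolve_left
      Nat.card_pos.ne')
  exact congrArg Subtype.val (((PG.frattini_eq_bot_iff h.pgE).1 h2).2 ⟨y, hy⟩)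

theorem om_le : om p ⊤ ≤ E := om_top_le_center.trans h.center_le

theorem cl_le_om : cl A (om p ⊤) ≤ om p E :=
  cl_le h.om_le autInv_om fun _ hz => ⟨h.om_le hz, center_le_centralizer _ (om_top_le_center hz), hz.2.2⟩

omit [Finite G] in
theorem mem_om {v x : G} (hv : v ∈ om p E) (hx : x ∉ E) (hc : x * v = v * x) : v ∈ om p (⊤ : Subgroup G) :=
  mem_om_top (mem_center_of h.index hx hv.2.1 hc) hv.2.2

theorem lt_cl (hn : ¬ AutInv A (om p ⊤)) : om p ⊤ < cl A (om p ⊤) :=
  lt_of_le_of_ne (le_cl h.om_le) fun e => hn (e ▸ autInv_cl h.om_le)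

theorem cent_cl_le (hn : ¬ AutInv A (om p ⊤)) : centralizer (cl A (om p ⊤) : Set G) ≤ E := fun _ hx =>
  by_contra fun e => (h.lt_cl hn).not_ge fun v hv => h.mem_om (h.cl_le_om hv) e (hx v hv).symm

theorem cl_le_cent (hM : M ≤ E) : cl A (om p ⊤) ≤ centralizer (M : Set G) :=
  fun _ hv y hy => (h.cl_le_om hv).2.1 y (hM hy)

theorem card_cl_le (hsr : SR p G) : Nat.card (cl A (om p ⊤)) ≤ p ^ 3 :=
  hsr.card_le (h.cl_le_cent (cl_le_self h.om_le)) fun _ hv => (h.cl_le_om hv).2.2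

theorem normal_cl : (cl A (om p ⊤)).Normal := h.normal (cl_le_self h.om_le) (autInv_cl h.om_le)

theorem le_card_om : p ^ 1 ≤ Nat.card (om p (⊤ : Subgroup G)) := by
  obtain ⟨z, -, h2, h3⟩ := PN.exists_mem_center_orderOf_eq h.pgG ⊤ fun e => not_le_of_relIndex h.idx (e.le.trans bot_le)
  exact ((pow_one p).trans (h3.symm.trans (Nat.card_zpowers z).symm)).trans_le (Subgroup.card_le_of_le
    (zpowers_le_of_mem (mem_om_top h2 ((congrArg (z ^ ·) h3).symm.trans (pow_orderOf_eq_one z)))))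

end Loc

variable (hp2 : Odd p) (hsr : SR p G) (h : Loc p ⊤ E A) (h' : Loc p ⊤ R A') (hn : ¬ AutInv A (om p ⊤))
include hp2 hsr h h' hn

theorem caseB (hV : ¬ cl A (om p ⊤) ≤ R) :
    (center G = E ⊓ R ∧ (∃ a ∈ E, a ∉ R ∧ a ^ p = 1) ∧ ∃ b ∈ R, b ∉ E ∧ b ^ p = 1) ∨
    (Nat.card G = p ^ 4 ∧ Nat.card (center G) = p ∧ IsElementaryAbelian p E ∧ IsExtraspecial p R ∧
      (∀ x ∈ R, x ^ p = 1) ∧ ∀ M ≤ E, AutInv A M → M ≠ ⊥ → M = E) := by
  have hG := h.pgG
  have hZc : om p ⊤ ≤ center G := om_top_le_center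
  have := normal_of_le_center hZc
  have := h.normal_cl
  have := h.normalE
  obtain ⟨a, ha, haR⟩ := SetLike.not_le_iff_exists.1 hV
  have ha' := h.cl_le_om ha
  have hne : E ≠ R := fun e => haR (e ▸ ha'.1)
  have i1 := relIndex_inf hG h.index h'.index hne
  have hc := le_inf h.center_le h'.center_le
  have fl : (om p ⊤).relIndex (cl A (om p ⊤)) ≤ p → ¬ AutInv A' (om p ⊤) := fun e hi => h'.not_flag haR h'.om_le hi
    (fun y _ => comm_mem_swap (commutator_le.1 (comm_top_le hG e) a ha y trivial)) fun z hz => mem_center_iff.1 (hZc hz) a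
  by_cases hZ : Nat.card (om p (⊤ : Subgroup G)) = p
  · have hP : Ph E = ⊥ := by_contra fun e => hV ((cl_le h.om_le (autInv_map_of_char A _)
      (om_le_of_normal hG hZ e)).trans (Ph_le_of_index hG h'.index E))
    have hab := commutator_eq_bot_iff_le_centralizer.1 (le_bot_iff.1 (hP ▸ comm_le_Ph h.pgE))
    have he : ∀ y ∈ E, y ^ p = 1 := fun y hy => hP.le (pow_mem_Ph h.pgE hy)
    have c1 : Nat.card R = Nat.card E := Nat.eq_of_mul_eq_mul_right hp.out.pos
      ((h'.index ▸ card_mul_index R).trans (h.index ▸ card_mul_index E).symm)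
    have c2 := card_eq_of_relIndex inf_le_left i1
    obtain ⟨b, hb, hbE⟩ := SetLike.not_le_iff_exists.1 (not_le_of_ne h'.index h.index hne.symm)
    by_cases c3 : Nat.card E ≤ p ^ 2
    · refine .inl ⟨hc.antisymm ((Subgroup.eq_of_le_of_card_ge (hZc.trans hc) ((Nat.le_of_mul_le_mul_left
        (c2.ge.trans (c3.trans_eq (sq p))) hp.out.pos).trans hZ.ge)).ge.trans hZc), ⟨a, ha'.1, haR, ha'.2.2⟩, b, hb, hbE,
        h'.pow_eq_one (c1 ▸ c3) b hb⟩
    have c4 : Nat.card E = p ^ 3 := by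
      obtain ⟨k, hk⟩ := PG.card_eq_pow hG E
      have := hsr.card_le hab he
      rw [hk, Nat.pow_le_pow_iff_right hp.out.one_lt] at c3 this
      rw [hk, show k = 3 by omega]
    have e1 : center G = om p ⊤ := le_antisymm (fun z hz => mem_om_top hz (he z (h.center_le hz))) hZc
    rcases (h'.toRad trivial haR).card_cube (c1.trans c4) with ⟨h1, -⟩ | ⟨-, h1, h2⟩ | ⟨rfl, -⟩
    · refine absurd (Subgroup.card_le_of_le (fun z hz => h.mem_om ⟨hz.1, hab hz.1, he z hz.1⟩ hbE
        (setLike_mul_comm (s := R) hb hz.2) : E ⊓ R ≤ _)) (not_le.2 (Nat.lt_of_mul_lt_mul_left (a := p) ?_))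
      rw [← c2, hZ, c4, ← sq]
      exact pow_lt (by omega)
    · refine .inr ⟨(card_mul_index E).symm.trans (by rw [c4, h.index, ← pow_succ]), e1 ▸ hZ,
        ⟨le_centralizer_iff_isMulCommutative.1 hab, he⟩, h1, fun x hx => congrArg Subtype.val (h2 ⟨x, hx⟩),
        fun M hM hi h3 => hM.antisymm (le_trans (by_contra fun e => fl (EigC.relIndex_of_card (k := 1) (le_cl h.om_le)
          ((PG.card_le_pow_of_lt hG (lt_of_le_not_ge (cl_le_self h.om_le) e) c4.le).antisymm
            (PG.pow_succ_le_card_of_lt hG (h.lt_cl hn) h.le_card_om)) (hZ.trans (pow_one p).symm)).le ?_)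
          (cl_le h.om_le hi (have := h.normal hM hi; om_le_of_normal hG hZ h3)))⟩
      exact Subgroup.eq_of_le_of_card_ge (le_inf h'.om_le (hZc.trans (center_le_centralizer _))) (by
        rw [hZ, ← map_center_eq, card_subtype, h1.2]) ▸ autInv_inf (autInv_of_le A' le_rfl)
          (autInv_centralizer le_rfl (autInv_of_le A' le_rfl))
    · exact absurd hp2 (by decide)
  have c0 : p ^ 2 ≤ Nat.card (om p (⊤ : Subgroup G)) := by
    obtain ⟨k, hk⟩ := PG.card_eq_pow hG (om p ⊤)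
    have := h.le_card_om
    rw [hk, Nat.pow_le_pow_iff_right hp.out.one_lt] at this ⊢
    exact lt_of_le_of_ne this fun e => hZ (by rw [hk, ← e, pow_one])
  have hn' := fl (EigC.relIndex_of_card (le_cl h.om_le) ((h.card_cl_le hsr).antisymm
    (PG.pow_succ_le_card_of_lt hG (h.lt_cl hn) c0))
      ((PG.card_le_pow_of_lt hG (h.lt_cl hn) (h.card_cl_le hsr)).antisymm c0)).le
  obtain ⟨b, hb, hbE⟩ := SetLike.not_le_iff_exists.1 fun e : cl A' (om p ⊤) ≤ E =>
    haR (h'.cent_cl_le hn' fun y hy => ha'.2.1 y (e hy))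
  have hb' := h'.cl_le_om hb
  have := h'.normal_cl
  have := h.normal (Ph_le E) (autInv_map_of_char A _)
  have hz : ⁅a, b⁆ ∈ om p (⊤ : Subgroup G) := h.mem_om (h.cl_le_om (commutator_le_left _ ⊤ (commutator_mem_commutator
    ha trivial))) hbE (hb'.2.1 _ (comm_mem_of_index hG h'.index a b)).symm
  have hz' : ⁅a, b⁆ ∉ Ph E := fun e => h.not_triv_Ph hbE fun y hy => mem_ce.1 (le_of_not_le i1 inf_le_left
    (fun y hy => mem_ce.2 (commutatorElement_eq_one_iff_mul_comm.2 (hb'.2.1 y hy.2) ▸ one_mem _)) ha'.1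
      (fun e => haR e.2) (mem_ce.2 e) hy)
  have hab := comm_of_relIndex_le hG (le_inf (cl_le_self h.om_le) (h.cl_le_cent le_rfl)) ((relIndex_le_right hG
    (sup_le_sup_left (le_cl h.om_le) _) (sup_le (Ph_le E) (cl_le_self h.om_le)) (fun e => haR (sup_le
      (Ph_le_of_index hG h'.index E) h'.om_le (e (mem_sup_right ha)))) (relIndex_le_right hG le_sup_left
        (sup_le (Ph_le E) h.om_le) (fun e => hz' (e (mem_sup_right hz))) (hsr.relIndex_Ph h.pgE))).trans_eq (pow_one p))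
  exact .inl ⟨hc.antisymm fun y hy => mem_center_of h.index hbE (hab hy.1) (hb'.2.1 y hy.2).symm,
    ⟨a, ha'.1, haR, ha'.2.2⟩, b, hb'.1, hbE, hb'.2.2⟩

omit hp2 in
theorem caseA1 (hne : E ≠ R) (hn' : ¬ AutInv A' (om p ⊤)) (h2 : cl A' (om p ⊤) ≤ E) :
    False := by
  have hG := h.pgG
  have := normal_of_le_center (om_top_le_center (G := G) (p := p))
  have := h'.normal_cl
  obtain ⟨b, hb, hbE⟩ := SetLike.not_le_iff_exists.1 (not_le_of_ne h'.index h.index hne.symm)
  have e : cl A (om p ⊤) ⊓ cl A' (om p ⊤) ≤ om p ⊤ := fun y hy =>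
    h.mem_om (h.cl_le_om hy.1) hbE ((h'.cl_le_om hy.2).2.1 b hb)
  have c1 := h.cl_le_cent (cl_le_self (A := A) h.om_le)
  have c2 := h'.cl_le_cent (cl_le_self (A := A') h'.om_le)
  have c3 := h.cl_le_cent h2
  have hW := hsr.card_sup_le c1 c2 c3 (fun _ hv => (h.cl_le_om hv).2.2) fun _ hv => (h'.cl_le_om hv).2.2
  have l1 : cl A (om p ⊤) < cl A (om p ⊤) ⊔ cl A' (om p ⊤) :=
    left_lt_sup.2 fun e' => (h'.lt_cl hn').not_ge ((le_inf e' le_rfl).trans e)
  have l2 : cl A' (om p ⊤) < cl A (om p ⊤) ⊔ cl A' (om p ⊤) :=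
    right_lt_sup.2 fun e' => (h.lt_cl hn).not_ge ((le_inf le_rfl e').trans e)
  have d2 := PG.card_le_pow_of_lt hG l2 hW
  have d3 := (PG.card_le_pow_of_lt hG (h'.lt_cl hn') d2).antisymm h.le_card_om
  have d4 := PG.pow_succ_le_card_of_lt hG (h'.lt_cl hn') d3.ge
  have hZ := d3.trans (pow_one p)
  have k : ⁅cl A (om p ⊤) ⊔ cl A' (om p ⊤), E⁆ ≤ om p ⊤ := sup_comm_le ((commutator_eq_bot_iff_le_centralizer.2
    (h.cl_le_cent le_rfl)).le.trans bot_le) (comm_le_top (comm_top_le hG (EigC.relIndex_of_card (le_cl h'.om_le)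
      (d2.antisymm d4) d3).le))
  have := h.normalE
  have := h.normal_cl
  refine hn (autInv_of_elem hsr (sup_le (cl_le_self h.om_le) h2) (sup_le_centralizer c1 c2 c3) (fun y hy => ?_)
    (hW.antisymm (PG.pow_succ_le_card_of_lt hG l2 d4)) (k.antisymm (om_le_of_normal hG hZ fun e => ?_)) hZ)
  · exact pow_mem_sup (N := ⊥) (commutator_eq_bot_iff_le_centralizer.2 c3).le (fun _ hv => (h.cl_le_om hv).2.2)
      (fun _ hv => (h'.cl_le_om hv).2.2) (commutator_eq_bot_iff_le_centralizer.2 c1).le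
        (commutator_eq_bot_iff_le_centralizer.2 c2).le y hy
  · exact not_le_of_ne h.index h'.index hne ((le_centralizer_iff.1 (le_sup_right.trans
      (commutator_eq_bot_iff_le_centralizer.1 e))).trans (h'.cent_cl_le hn'))

omit hp2 h' in
theorem caseA3 (hV : cl A (om p ⊤) ≤ R) (hn' : ¬ AutInv A' (cl A (om p ⊤))) (hc : Nat.card (cl A (om p ⊤)) = p ^ 3) :
    ∃ D, D ≠ ⊥ ∧ D ≤ om p ⊤ ∧ AutInv A D := by
  have hG := h.pgG
  obtain ⟨α, hα, v, hv, hv'⟩ : ∃ α ∈ A', ∃ v ∈ cl A (om p ⊤), autFun α v ∉ cl A (om p ⊤) := by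
    by_contra! e
    exact hn' (autInv_of_forall e)
  have c1 := h.cl_le_cent (cl_le_self (A := A) h.om_le)
  have c2 := img_le_centralizer α hV hV c1
  have c3 : img (autFun α) (cl A (om p ⊤)) ⊓ E ≤ cl A (om p ⊤) := hsr.le_of_card c1 (inf_le_left.trans (c2.trans
    (centralizer_le inf_le_left))) (le_centralizer_iff.1 (h.cl_le_cent inf_le_right))
      (fun _ hv => (h.cl_le_om hv).2.2) (fun y hy => pow_eq_one_img α hV (fun _ hv => (h.cl_le_om hv).2.2) y hy.1) hc
  have hb := mem_img_of_mem (autFun α) hv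
  have hbE : autFun α v ∉ E := fun e => hv' (c3 ⟨hb, e⟩)
  have c4 : img (autFun α) (cl A (om p ⊤)) ⊓ E ≤ om p ⊤ := fun y hy =>
    h.mem_om (h.cl_le_om (c3 hy)) hbE (c2 hy.1 _ hb)
  have c5 := card_eq_of_relIndex inf_le_left ((inf_relIndex_left _ _).trans (relIndex_of_not_le hG h.index
    fun e : img (autFun α) (cl A (om p ⊤)) ≤ E => hbE (e hb)))
  rw [card_img_autFun α hV, hc, pow_succ'] at c5
  have c6 := (PG.card_le_pow_of_lt hG (h.lt_cl hn) hc.le).antisymm ((Nat.eq_of_mul_eq_mul_left hp.out.pos c5).trans_le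
    (Subgroup.card_le_of_le c4))
  obtain ⟨L₁, D, t⟩ := h.tvS_top hbE (cl_le_self h.om_le) (autInv_cl h.om_le) (autInv_bot A) bot_le (le_cl h.om_le)
    (commutator_eq_bot_iff_le_centralizer.2 (h.cl_le_cent le_rfl)).le (EigC.relIndex_of_card (le_cl h.om_le) hc c6)
    (comm_le_of_le_center om_top_le_center) hn
  refine ⟨D, fun e => ?_, le_sup_right.trans t.sup.le, autInv_of_forall fun β hβ y hy => ?_⟩
  · have h1 := t.sup
    rw [e, sup_bot_eq] at h1
    have h2 := t.idx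
    rw [relIndex_bot_left, h1, c6] at h2
    exact (pow_lt (by omega : 1 < 2)).ne' (h2.trans (pow_one p).symm)
  · rw [t.memD] at hy ⊢
    exact ⟨autInv_cl h.om_le β hβ y (cl_le_self h.om_le hy.1) hy.1, fun k hk =>
      autFun_mul k β (cl_le_self h.om_le hy.1) ▸ hy.2 _ (A.mul_mem hk hβ)⟩

theorem caseA2 (hne : E ≠ R) (hi : AutInv A' (om p ⊤)) (hV : cl A (om p ⊤) ≤ R) (hn' : ¬ AutInv A' (cl A (om p ⊤)))
    (hc : Nat.card (cl A (om p ⊤)) ≤ p ^ 2) : False := by
  have hG := h.pgG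
  have hZc : om p ⊤ ≤ center G := om_top_le_center
  have := normal_of_le_center hZc
  have := h.normal_cl
  have := h.normalE
  have := h'.normalE
  have hVE := cl_le_self (A := A) h.om_le
  have hZV := le_cl (A := A) h.om_le
  have hVe : ∀ y ∈ cl A (om p ⊤), y ^ p = 1 := fun _ hv => (h.cl_le_om hv).2.2
  have d1 := (PG.card_le_pow_of_lt hG (h.lt_cl hn) hc).antisymm h.le_card_om
  have d2 := hc.antisymm (PG.pow_succ_le_card_of_lt hG (h.lt_cl hn) d1.ge)
  have hZ := d1.trans (pow_one p)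
  have i1 := EigC.relIndex_of_card hZV d2 d1
  have hC := h.cent_cl_le hn
  have hcl := fun {M} => h.cl_le_cent (M := M)
  have hom := fun {v x} => h.mem_om (v := v) (x := x)
  have hlc := fun {x} => h.le_of_comm_le (x := x)
  have hom' := h.cl_le_om
  have iV := autInv_cl (A := A) h.om_le
  generalize cl A (om p ⊤) = V at *
  have hUR := cl_le_self (A := A') hV
  have iU := autInv_cl (A := A') hV
  have hVU := le_cl (A := A') hV
  have := h'.normal hUR iU
  have k0 : ¬ ⁅cl A' V, (⊤ : Subgroup G)⁆ ≤ om p ⊤ := fun e => hn' (h'.between hi iU e hZV hVU)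
  have k1 : ⁅cl A' V, R⁆ ≤ om p ⊤ := le_cm'.1 (cl_le hV (autInv_cm le_rfl (autInv_of_le A' le_rfl) hi)
    (le_cm'.2 (comm_le_top (comm_top_le hG i1.le))))
  have k2 := (commutator_mono le_rfl hUR).trans k1
  have hUe := pow_eq_one_cl hp2 hV hVe k2 (le_centralizer_iff.1 (hZc.trans (center_le_centralizer _)))
  have l1 : V < cl A' V := lt_of_le_of_ne hVU fun e => hn' (e ▸ iU)
  have hcl' : ∀ {X}, AutInv A' X → V ≤ X → cl A' V ≤ X := cl_le hV
  generalize cl A' V = U at *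
  obtain ⟨b, hb, hbE⟩ := SetLike.not_le_iff_exists.1 (not_le_of_ne h'.index h.index hne.symm)
  by_cases hUE : U ≤ E
  · have c1 : U ≤ centralizer (U : Set G) := hcl' (autInv_centralizer hUR iU) (hcl hUE)
    have d3 := (hsr.card_le c1 hUe).antisymm (PG.pow_succ_le_card_of_lt hG l1 d2.ge)
    have i2 := EigC.relIndex_of_card hVU d3 d2
    have k3 := comm_top_le hG i2.le
    obtain ⟨u, hu, huV⟩ := exists_not_mem i2
    have eU := eq_sup_zpowers hVU i2 hu huV
    by_cases hX : AutInv A U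
    · have hCE : centralizer (U : Set G) ≤ E := (centralizer_le hVU).trans hC
      have hCR : centralizer (U : Set G) ≤ R := fun c hc => by_contra fun e => k0 (comm_top_le_of h'.index e k1
        fun y hy => commutatorElement_eq_one_iff_mul_comm.2 (hc y hy) ▸ one_mem _)
      have hc' : ¬ _root_.commutator G ≤ centralizer (U : Set G) := fun e => k0 ((commutator_mono le_rfl
        (sup_eq_top h.index h'.index hne).ge).trans <| comm_sup_le (comm_le_swap fun y hy => hom (hom' (comm_le_swap (comm_le_top k3) hy)) hbE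
          (commutator_eq_bot_iff_le_centralizer.1 (le_bot_iff.1 (HP.three_sub_le E U R ⊥ ((commutator_mono k1
            le_rfl).trans (comm_le_of_le_center hZc)) (commutator_eq_bot_iff_le_centralizer.2 ((commutator_mono
              le_top le_top).trans e)).le)) hy b hb)) k1)
      have n1 : ¬ E ⊓ R ≤ centralizer (U : Set G) := fun e => hc' (le_trans (commutator_le.2 fun x _ y _ =>
        mem_inf.2 ⟨comm_mem_of_index hG h.index x y, comm_mem_of_index hG h'.index x y⟩) e)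
      have i3 : (centralizer (U : Set G)).relIndex (E ⊓ R) ≤ p := by
        have := relIndex_ce_le (N := ⊥) (A := E ⊓ R) fun a ha => comm_mem_swap (commutator_le.1 k1 u hu a ha.2)
        rw [relIndex_bot_left, hZ, ← inf_relIndex_right] at this
        refine (relIndex_le_of_le_left (fun c hc => ?_) index_ne_zero_of_finite).trans this
        exact eU ▸ mem_cent_sup (fun v hv => (hcl le_rfl hv c hc.2.1).symm)
          (commutatorElement_eq_one_iff_mul_comm.1 (mem_ce.1 hc.1)).symm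
      refine h.not_cent_le hCE (autInv_centralizer hUE hX) (sl3 hG hp2 hsr h.index h'.index hne (le_inf hCE hCR)
        (relIndex_eq hG i3 n1) (autInv_centralizer hUE hX) (autInv_centralizer hUR iU) (fun e => hn ?_)
        (fun e => hn' ?_) hc') (inf_le_right.trans (centralizer_le c1))
      · have k4 : ⁅U, E ⊓ R⁆ ≤ om p ⊤ := (commutator_mono le_rfl inf_le_right).trans k1
        exact k4.antisymm (om_le_of_normal hG hZ fun e' => n1 (le_centralizer_iff.1
          (commutator_eq_bot_iff_le_centralizer.1 e'))) ▸ autInv_comm hUE inf_le_left hX e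
      · exact (eq_or_eq i2 (le_inf hVU (hcl inf_le_left)) inf_le_left).resolve_right (fun e' => n1
          (le_centralizer_iff.1 (e'.ge.trans inf_le_right))) ▸ autInv_inf iU (autInv_centralizer inf_le_right e)
    have hXE := cl_le_self (A := A) hUE
    have iX := autInv_cl (A := A) hUE
    have := h.normal hXE iX
    have k4 : ⁅cl A U, cl A U⁆ ≤ V := (commutator_mono le_rfl hXE).trans (le_cm'.1 (cl_le hUE (autInv_cm le_rfl
      (autInv_of_le A le_rfl) iV) (le_cm'.2 (comm_le_top k3))))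
    have hXe := pow_eq_one_cl hp2 hUE hUe k4 (le_centralizer_iff.1 (hcl hXE))
    have hUX := le_cl (A := A) hUE
    have d4 := PG.pow_succ_le_card_of_lt hG (lt_of_le_of_ne hUX fun e => hX (e ▸ iX)) d3.ge
    have d5 : Nat.card (cl A U) = p ^ 4 := by
      obtain ⟨k, hk⟩ := PG.card_eq_pow hG (cl A U)
      have : ¬ _ := fun e => not_card_five hG hsr (hVU.trans hUX) k4 (hcl hXE) hXe d2 e
      rw [hk, Nat.pow_le_pow_iff_right hp.out.one_lt] at d4 this
      rw [hk, show k = 4 by omega]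
    have i3 := EigC.relIndex_of_card hUX d5 d3
    obtain ⟨x, hx, hxU⟩ := exists_not_mem i3
    have hz := commutator_le.1 k4 u (hUX hu) x hx
    have hN : cl A U ≤ normalizer (zpowers ⁅u, x⁆ : Set G) := (le_centralizer_iff.1 ((zpowers_le_of_mem hz).trans
      (hcl hXE))).trans (centralizer_le_normalizer _)
    have k5 := eq_sup_zpowers hUX i3 hx hxU ▸ comm_sup_self_le (hUX.trans hN) (hN hx)
      ((commutator_eq_bot_iff_le_centralizer.2 c1).le.trans bot_le) fun c hc => comm_mem_of_sup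
        ((hVU.trans hUX).trans hN) (hN (hUX hu)) (fun v hv => commutatorElement_eq_one_iff_mul_comm.2
          (hcl hXE hv x hx).symm ▸ one_mem _) (mem_zpowers _) (eU.ge hc)
    have k6 : om p ⊤ ≤ ⁅cl A U, cl A U⁆ := om_le_of_normal hG hZ fun e => (pow_lt (by omega : 3 < 4)).not_ge
      (d5.ge.trans (hsr.card_le (commutator_eq_bot_iff_le_centralizer.1 e) hXe))
    exact hn (Subgroup.eq_of_le_of_card_ge k6 ((Subgroup.card_le_of_le k5).trans ((Nat.card_zpowers _).trans_le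
      ((orderOf_le_of_pow_eq_one hp.out.pos (hVe _ hz)).trans hZ.ge))) ▸ autInv_comm hXE hXE iX iX)
  obtain ⟨c, hc, hcE⟩ := SetLike.not_le_iff_exists.1 hUE
  have hVW := le_inf hVU hVE
  by_cases hW : U ⊓ E ≤ V
  · exact not_le_of_ne h.index h'.index hne ((hlc hp2 hZ hn i1 hcE fun y _ => hW ⟨commutator_le_right ⊤ U
      (commutator_mem_commutator trivial hc), comm_mem_of_index hG h.index y c⟩).trans hV)
  have i2 := (inf_relIndex_left _ _).trans (relIndex_of_not_le hG h.index hUE)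
  have d3 : Nat.card (U ⊓ E : Subgroup G) = p ^ 3 := by
    refine le_antisymm (Nat.le_of_mul_le_mul_left ?_ hp.out.pos)
      (PG.pow_succ_le_card_of_lt hG (lt_of_le_not_ge hVW hW) d2.ge)
    rw [← card_eq_of_relIndex inf_le_left i2, card_eq_of_relIndex (hZV.trans hVU) rfl, hZ, mul_comm]
    exact Nat.mul_le_mul_left p (hsr _ _ k2 fun y hy => hUe y hy ▸ one_mem _)
  have c1 := comm_of_relIndex_le hG (le_inf hVW (hcl inf_le_right)) ((relIndex_le_of_le_left le_sup_right
    index_ne_zero_of_finite).trans (EigC.relIndex_of_card hVW d3 d2).le)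
  have eY : centralizer {c} ⊓ (U ⊓ E) = centralizer (U : Set G) ⊓ (U ⊓ E) := le_antisymm (fun y hy => ⟨centralizer_le
    (eq_sup_zpowers inf_le_left i2 hc fun e => hcE e.2).ge (mem_cent_sup (c1 hy.2) (hy.1 c rfl)), hy.2⟩) (inf_le_inf_right _ (centralizer_le (Set.singleton_subset_iff.2 hc)))
  have : (centralizer {c} ⊓ (U ⊓ E)).Normal := eY ▸ inferInstance
  obtain ⟨f1, f2, f3⟩ := fix_lemma hG d3 d2 hZ hVW (hZV.trans hVW) hZc (fun y hy => commutator_le.1 k1 y hy.1 c (hUR hc))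
    fun e => hcE (hC fun v hv => (mem_centralizer_singleton_iff.1 (e hv)))
  have k3 : ⁅U ⊓ E, E⁆ ≤ om p ⊤ := f2 ▸ sup_comm_le (comm_le_top (comm_top_le hG i1.le)) (comm_le_top f1)
  exact hn (autInv_of_elem hsr inf_le_right c1 (fun y hy => hUe y hy.1) d3 (k3.antisymm (om_le_of_normal hG hZ
    fun e => f3 fun y hy => hom ⟨hy.2.2, commutator_eq_bot_iff_le_centralizer.1 e hy.2, hUe y hy.2.1⟩ hcE
      (hy.1 c rfl))) hZ)

omit hp2 hsr h h' hn

/-- first outcome: the intersection is the centre -/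
def X1 (p : ℕ) (E R : Subgroup G) : Prop :=
  center G = E ⊓ R ∧ (∃ a ∈ E, a ∉ R ∧ a ^ p = 1) ∧ ∃ b ∈ R, b ∉ E ∧ b ^ p = 1

/-- second outcome: a Sylow subgroup of `Sp₄(p)` -/
def X2 (p : ℕ) {E : Subgroup G} (A : Subgroup (MulAut E)) (R : Subgroup G) : Prop :=
  Nat.card G = p ^ 4 ∧ Nat.card (center G) = p ∧ IsElementaryAbelian p E ∧ IsExtraspecial p R ∧
    (∀ x ∈ R, x ^ p = 1) ∧ ∀ M ≤ E, AutInv A M → M ≠ ⊥ → M = E

theorem thmX {ι : Type*} [Nonempty ι] {E : ι → Subgroup G} {A : ∀ i, Subgroup (MulAut (E i))} (hp2 : Odd p)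
    (hsr : SR p G) (loc : ∀ i, Loc p ⊤ (E i) (A i)) (inj : Function.Injective E)
    (max : ∀ M, (∀ i, M ≤ E i ∧ AutInv (A i) M) → M = ⊥) : ∃ i j, i ≠ j ∧ (X1 p (E i) (E j) ∨ X2 p (A i) (E j)) := by
  obtain ⟨i, hi⟩ : ∃ i, ¬ AutInv (A i) (om p ⊤) := by
    by_contra! e
    have := (loc (Classical.arbitrary ι)).le_card_om
    rw [max _ fun i => ⟨(loc i).om_le, e i⟩, card_bot] at this
    exact (pow_lt (by omega : 0 < 1)).not_ge this
  by_cases h : ∀ i j, ¬ AutInv (A i) (om p ⊤) → cl (A i) (om p ⊤) ≤ E j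
  swap
  · push Not at h
    obtain ⟨i, j, h1, h2⟩ := h
    exact ⟨i, j, fun e => h2 (e ▸ cl_le_self (loc i).om_le), caseB hp2 hsr (loc i) (loc j) h1 h2⟩
  have h1 : ∀ j, j ≠ i → AutInv (A j) (om p ⊤) := fun j hj => by_contra fun e =>
    caseA1 hsr (loc i) (loc j) hi (fun e => hj (inj e).symm) e (h j i e)
  obtain ⟨j, hj⟩ : ∃ j, ¬ AutInv (A j) (cl (A i) (om p ⊤)) := by
    by_contra! e
    exact ((loc i).lt_cl hi).not_ge ((max _ fun j => ⟨h i j hi, e j⟩).le.trans bot_le)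
  have hji : j ≠ i := fun e => hj (by subst e; exact autInv_cl (loc j).om_le)
  by_cases hc : Nat.card (cl (A i) (om p ⊤)) ≤ p ^ 2
  · exact (caseA2 hp2 hsr (loc i) (loc j) hi (fun e => hji (inj e).symm) (h1 j hji) (h i j hi) hj hc).elim
  obtain ⟨k, hk⟩ := PG.card_eq_pow (loc i).pgG (cl (A i) (om p ⊤))
  have := (loc i).card_cl_le hsr
  rw [hk, Nat.pow_le_pow_iff_right hp.out.one_lt] at hc this
  obtain ⟨D, d1, d2, d3⟩ := caseA3 hsr (loc i) hi (h i j hi) hj (by rw [hk, show k = 3 by omega])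
  refine (d1 (max D fun j => ⟨d2.trans (loc j).om_le, ?_⟩)).elim
  by_cases e : j = i
  · exact e ▸ d3
  · exact (loc j).between (autInv_bot _) (h1 j e) (comm_le_of_le_center om_top_le_center) bot_le d2

end CL.SR3
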