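import Mathlib
import Cfsg.Agent.FUS.SR3X

/-!
# Sectional rank three: passing to the quotient by the largest common invariant subgroup
-/

set_option autoImplicit false

namespace CL.SR3
open Subgroup Cfsg Cfsg.FusionSystem CL.Fus CL.TV CL.EssSm
open scoped commutatorElement

variable {G : Type*} [Group G] {p : ℕ} [hp : Fact p.Prime] [Finite G] {B C D E R M T V W X Z : Subgroup G}
  {A : Subgroup (MulAut E)} {A' : Subgroup (MulAut R)}

omit hp [Finite G] in
theorem exists_pk (hp2 : Odd p) (hn : X ≤ normalizer (M : Set G)) (h1 : ⁅X, ⁅X, X⁆⁆ ≤ M)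
    (h2 : ∀ a ∈ X, ∀ b ∈ X, ⁅a, b⁆ ^ p ∈ M) : ∃ K : Subgroup G, ∀ y, y ∈ K ↔ y ∈ X ∧ y ^ p ∈ M :=
  ⟨⟨⟨⟨{y | y ∈ X ∧ y ^ p ∈ M}, fun {a b} ha hb => ⟨mul_mem ha.1 hb.1, (M.mul_mem_cancel_left (inv_mem (mul_mem
    ha.2 hb.2))).1 (mul_pow_mem hp2 (hn ha.1) (hn hb.1) (h1 (commutator_mem_commutator ha.1 (commutator_mem_commutator
      hb.1 ha.1))) (h1 (commutator_mem_commutator hb.1 (commutator_mem_commutator hb.1 ha.1))) (h2 b hb.1 a ha.1))⟩⟩,
    one_mem X, (one_pow (M := G) p).symm ▸ one_mem M⟩, fun {a} ha => ⟨inv_mem ha.1, (inv_pow a p).symm ▸ inv_mem ha.2⟩⟩,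
    fun _ => .rfl⟩

omit hp [Finite G] in
theorem comm_pow_eq_one {a b : G} (h1 : ⁅a, b⁆ ∈ center G) (h2 : a ^ p ∈ center G) : ⁅a, b⁆ ^ p = 1 :=
  (PG.commutator_pow_left (mem_center_iff.1 h1 a) p).symm.trans
    (commutatorElement_eq_one_iff_mul_comm.2 (mem_center_iff.1 h2 b).symm)

theorem Ph_mono (hG : IsPGroup p G) (h : D ≤ E) : Ph D ≤ Ph E := (Ph_le_iff (hG.to_subgroup _)).2
  ⟨(commutator_mono h h).trans (comm_le_Ph (hG.to_subgroup _)), fun _ hg => pow_mem_Ph (hG.to_subgroup _) (h hg)⟩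

theorem Loc.exp_of_central (h : Loc p ⊤ E A) (hp2 : Odd p) (hc : Ph E ≤ center G)
    (irr : ∀ M, Ph E ≤ M → M ≤ E → AutInv A M → M = Ph E ∨ M = E) : ∀ y ∈ E, y ^ p = 1 := by
  have := h.normalE
  have h1 : ⁅E, ⁅E, E⁆⁆ ≤ ⊥ := comm_le_swap (comm_le_of_le_center ((comm_le_Ph h.pgE).trans hc))
  have h2 : ∀ a ∈ E, ∀ b ∈ E, ⁅a, b⁆ ^ p ∈ (⊥ : Subgroup G) := fun a ha b hb =>
    comm_pow_eq_one (hc (commutator_le.1 (comm_le_Ph h.pgE) a ha b hb)) (hc (pow_mem_Ph h.pgE ha))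
  obtain ⟨K, hK⟩ := exists_pk hp2 (le_top.trans (normalizer_eq_top _).ge) h1 h2
  have hKE : K ≤ E := fun y hy => ((hK y).1 hy).1
  obtain ⟨x, -, hx⟩ := exists_not_mem h.idx
  refine fun y hy => ((hK y).1 (le_of_le_sup_Ph hKE ((irr _ le_sup_right (sup_le hKE (Ph_le E)) (autInv_sup hKE (Ph_le E)
    (fun α _ y hy hy' => (hK _).2 ⟨autFun_mem α hy, ?_⟩) (autInv_map_of_char A _))).resolve_left fun e =>
      h.not_triv_Ph hx fun y hy => e.le (mem_sup_left ((hK _).2 ⟨commutator_le_left _ ⊤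
        (commutator_mem_commutator hy trivial), ?_⟩))).ge hy)).2
  · rw [← (isHomOn_autFun α).map_pow hy, mem_bot.1 ((hK y).1 hy').2, (isHomOn_autFun α).map_one]
    exact one_mem _
  · have hb := this.conj_mem _ (inv_mem hy) x
    have := mul_pow_mem hp2 ((normalizer_eq_top _).ge (mem_top _)) ((normalizer_eq_top _).ge (mem_top _))
      (h1 (commutator_mem_commutator hy (commutator_mem_commutator hb hy)))
      (h1 (commutator_mem_commutator hb (commutator_mem_commutator hb hy))) (h2 _ hb y hy)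
    rw [conj_pow, inv_pow, mem_center_iff.1 (inv_mem (hc (pow_mem_Ph h.pgE hy))) x] at this
    simpa [commutatorElement_def, mul_assoc] using this

theorem Loc.le_cent_of_irr (h : Loc p ⊤ E A) (hT : T ≤ E) (hi : AutInv A T) (hc : ⁅T, (⊤ : Subgroup G)⁆ ≤ Ph T)
    (irr : ∀ M, T ≤ M → M ≤ E → AutInv A M → M = T ∨ M = E) (h1 : Ph E ≤ T) (h2 : (Ph E).relIndex T ≤ p) :
    E ≤ centralizer (T : Set G) := by
  have e := ((irr _ le_sup_right (sup_le inf_le_left hT) (autInv_sup inf_le_left hT (autInv_inf (autInv_of_le A le_rfl)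
    (autInv_centralizer hT hi)) hi)).resolve_left fun e => h.not_cent_le hT hi hc (le_sup_left.trans e.le)).ge
  by_cases h3 : T ≤ Ph E
  · exact (le_of_le_sup_Ph inf_le_left (e.trans (sup_le_sup_left h3 _))).trans inf_le_right
  obtain ⟨t, ht, ht'⟩ := SetLike.not_le_iff_exists.1 h3
  have e' := le_of_le_sup_Ph (sup_le inf_le_left (zpowers_le_of_mem (hT ht))) (e.trans (sup_le (le_sup_left.trans
    le_sup_left) ((eq_sup_zpowers h1 (relIndex_eq h.pgG h2 h3) ht ht').ge.trans (sup_le le_sup_right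
      (le_sup_right.trans le_sup_left)))))
  exact e'.trans (sup_le inf_le_right (zpowers_le_of_mem fun y hy =>
    mem_cent_sup (fun v hv => (hv.2 t ht).symm) rfl y (e' (hT hy))))

section
variable (hG : IsPGroup p G) (hsr : SR p G)
include hG hsr

theorem chain3 [T.Normal] : ⁅⁅⁅T, (⊤ : Subgroup G)⁆ ⊔ Ph T, (⊤ : Subgroup G)⁆ ⊔ Ph T, (⊤ : Subgroup G)⁆ ≤ Ph T := by
  have l1 : ⁅T, (⊤ : Subgroup G)⁆ ⊔ Ph T ≤ T := sup_le (commutator_le_left _ _) (Ph_le T)
  have l2 : ⁅⁅T, (⊤ : Subgroup G)⁆ ⊔ Ph T, (⊤ : Subgroup G)⁆ ⊔ Ph T ≤ ⁅T, (⊤ : Subgroup G)⁆ ⊔ Ph T :=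
    sup_le (commutator_le_left _ _) le_sup_right
  by_cases n2 : ⁅⁅T, (⊤ : Subgroup G)⁆ ⊔ Ph T, (⊤ : Subgroup G)⁆ ⊔ Ph T ≤ Ph T
  · exact (commutator_le_left _ _).trans n2
  exact comm_top_le hG ((relIndex_le_left hG le_sup_right l2 (not_le_comm_sup hG fun e => n2 (l2.trans e))
    (relIndex_le_left hG le_sup_right l1 (not_le_comm_sup hG fun e => n2 (l2.trans (l1.trans e)))
      (hsr.relIndex_Ph (hG.to_subgroup T)))).trans_eq (pow_one p))

theorem pow_mem_cm (hp2 : Odd p) [T.Normal] (y : G) : y ^ p ∈ cm T (Ph T) := fun s hs => by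
  have c := chain3 (T := T) hG hsr
  have h3 : ⁅s, y⁆ ∈ ⁅T, (⊤ : Subgroup G)⁆ := commutator_mem_commutator hs trivial
  have h4 := comm_mem_swap (mem_sup_left (T := Ph T) (commutator_mem_commutator (mem_sup_left (T := Ph T) h3)
    (mem_top y)))
  have k : ∀ {y}, y ∈ ⁅T, (⊤ : Subgroup G)⁆ ⊔ Ph T → y ^ p ∈ Ph T := fun hy =>
    pow_mem_Ph (hG.to_subgroup T) (sup_le (commutator_le_left _ _) (Ph_le T) hy)
  have h5 := (Ph T).mul_mem (k (mem_sup_left h3)) ((inferInstance : (Ph T).Normal).conj_mem _ (mul_pow_mem hp2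
    ((normalizer_eq_top (Ph T)).ge (mem_top _)) ((normalizer_eq_top (Ph T)).ge (mem_top y))
    (comm_mem_swap (commutator_le.1 c _ h4 _ trivial)) (comm_mem_swap (commutator_le.1 c _ h4 _ trivial))
    (k (sup_le (commutator_le_left _ _) le_sup_right h4))) (y ^ p))
  rw [← PG.conj_eq_commutator_mul, conj_pow] at h5
  convert h5 using 1
  group

theorem comm3_le_cm [T.Normal] : ⁅⁅(⊤ : Subgroup G), (⊤ : Subgroup G)⁆, (⊤ : Subgroup G)⁆ ≤ cm T (Ph T) :=
  have three : ∀ {X Y Z : Subgroup G} [Z.Normal], ⁅X, (⊤ : Subgroup G)⁆ ≤ Y → ⁅Y, (⊤ : Subgroup G)⁆ ≤ Z →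
      ⁅⁅(⊤ : Subgroup G), (⊤ : Subgroup G)⁆, X⁆ ≤ Z := fun h1 h2 => HP.three_sub_le _ _ _ _
    ((commutator_mono (comm_le_swap h1) le_rfl).trans h2) ((commutator_mono h1 le_rfl).trans h2)
  le_cm'.2 (HP.three_sub_le _ _ _ _ (comm_le_swap ((commutator_mono le_rfl (comm_le_swap le_sup_left)).trans
    (three le_sup_left (chain3 hG hsr)))) ((commutator_mono (comm_le_swap (three le_sup_left le_sup_left))
      le_rfl).trans (chain3 hG hsr)))

end

variable (hsr : SR p G) (h : Loc p ⊤ E A) (h' : Loc p ⊤ R A') (hne : E ≠ R)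
include hsr h h' hne

omit hsr hne in
theorem not_comm_le (hi : AutInv A (E ⊓ R)) {x : G} (hx : x ∉ E) : ¬ ∀ y ∈ E ⊓ R, ⁅y, x⁆ ∈ Ph E := fun e =>
  have := h.normalE
  have := h'.normalE
  h.not_flag_Ph hx (le_inf (Ph_le E) (Ph_le_of_index h.pgG h'.index E)) le_rfl inf_le_left hi hi e
    (fun _ hy => commutator_le_left _ ⊤ (commutator_mem_commutator hy trivial))
    fun y _ => ⟨comm_mem_of_index h.pgG h.index y x, comm_mem_of_index h.pgG h'.index y x⟩

theorem comm_le_of_inv (hi : AutInv A (E ⊓ R)) : ⁅E ⊓ R, E⁆ ≤ Ph (E ⊓ R) := by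
  have hG := h.pgG
  have := h.normalE
  have := h'.normalE
  have i1 := relIndex_inf hG h.index h'.index hne
  obtain ⟨x, -, hx⟩ := exists_not_mem h.idx
  obtain ⟨e, he, he'⟩ := exists_not_mem i1
  have l1 : Ph E ≤ E ⊓ R := le_inf (Ph_le E) (Ph_le_of_index hG h'.index E)
  have l2 : Ph (E ⊓ R) ≤ Ph E := Ph_mono hG inf_le_left
  have n1 : ¬ ⁅E ⊓ R, (⊤ : Subgroup G)⁆ ⊔ Ph E ≤ Ph E := fun e => not_comm_le h h' hi hx fun y hy =>
    e (mem_sup_left (commutator_mem_commutator hy trivial))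
  have l3 : ⁅E ⊓ R, (⊤ : Subgroup G)⁆ ⊔ Ph E ≤ E ⊓ R := sup_le (commutator_le_left _ _) l1
  have i2 := (relIndex_le_left hG l2 le_sup_right n1 (relIndex_le_left hG (l2.trans le_sup_right) l3
    (not_le_comm_sup hG fun e => n1 (l3.trans e)) (hsr.relIndex_Ph (hG.to_subgroup _)))).trans_eq (pow_one p)
  have eK : E ⊓ R ⊓ cm E (Ph (E ⊓ R)) = ce e (Ph (E ⊓ R)) ⊓ (E ⊓ R) := le_antisymm
    (fun y hy => ⟨mem_ce.2 (comm_mem_swap (hy.2 e he)), hy.1⟩) fun y hy => ⟨hy.2, fun m hm => comm_mem_of_sup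
      (le_top.trans (normalizer_eq_top _).ge) ((normalizer_eq_top _).ge (mem_top e))
      (fun c hc => commutator_le.1 (comm_le_Ph (hG.to_subgroup _)) c hc y hy.2) (comm_mem_swap (mem_ce.1 hy.1))
      ((eq_sup_zpowers inf_le_left i1 he he').ge hm)⟩
  have i3 : (E ⊓ R ⊓ cm E (Ph (E ⊓ R))).relIndex (E ⊓ R) ≤ p := by
    rw [eK, inf_relIndex_right]
    exact (relIndex_ce_le fun a ha => commutator_le.1 (comm_le_Ph h.pgE) a (mem_inf.1 ha).1 e he).trans i2
  by_contra H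
  have n2 : ¬ E ⊓ R ≤ E ⊓ R ⊓ cm E (Ph (E ⊓ R)) := fun e => H (le_cm'.1 (e.trans inf_le_right))
  have l4 := le_inf l1 (le_cm'.2 (comm_le_top (B := E) (comm_top_le hG i2)))
  exact h.not_flag_Ph hx l4 inf_le_left inf_le_left (autInv_inf hi (autInv_cm le_rfl (autInv_of_le A le_rfl)
    (autInv_Ph inf_le_left (hG.to_subgroup _) hi))) hi (fun y hy => commutator_le.1 (comm_top_le hG
      ((relIndex_le_left hG l4 inf_le_left n2 (relIndex_le_left hG l1 inf_le_left (not_le_of_relIndex i1)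
        (hsr.relIndex_Ph h.pgE))).trans_eq (pow_one p))) y hy x trivial)
    (fun y hy => commutator_le.1 (comm_top_le hG i3) y hy x trivial)
    fun y _ => ⟨comm_mem_of_index hG h.index y x, comm_mem_of_index hG h'.index y x⟩

theorem lemD (hi : AutInv A (E ⊓ R)) : ¬ AutInv A' (E ⊓ R) := fun hi' => by
  have := h.normalE
  have := h'.normalE
  obtain ⟨x, -, hx⟩ := exists_not_mem h.idx
  have h1 := comm_le_of_inv hsr h' h hne.symm (inf_comm E R ▸ hi')
  rw [inf_comm R E] at h1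
  refine not_comm_le h h' hi hx fun y hy => Ph_mono h.pgG inf_le_left (commutator_le.1 (comm_sup_le
      (comm_le_of_inv hsr h h' hne hi) h1) y hy x ((sup_eq_top h.index h'.index hne).ge trivial))

theorem good (hp2 : Odd p) (hT : T ≤ E ⊓ R) (hi : AutInv A T) (hi' : AutInv A' T) :
    ¬ ∀ α ∈ A, ∃ g ∈ (⊤ : Subgroup G), ∀ y ∈ E, (cj g y)⁻¹ * autFun α y ∈ T := fun H => by
  have hG := h.pgG
  have := h.normalE
  have := h'.normalE
  have := h.normal (hT.trans inf_le_left) hi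
  have inv : ∀ (M : Subgroup G) [M.Normal], T ≤ M → M ≤ E → AutInv A M := fun M hM h1 h2 α hα y hy hyM => by
    obtain ⟨g, -, hg⟩ := H α hα
    exact (M.mul_mem_cancel_left (M.inv_mem (hM.conj_mem y hyM g))).1 (h1 (hg y hy))
  have i1 := relIndex_inf hG h.index h'.index hne
  have iD := inv _ hT inf_le_left
  have l1 : Ph E ≤ E ⊓ R := le_inf (Ph_le E) (Ph_le_of_index hG h'.index E)
  obtain ⟨x, hxR, hx⟩ := SetLike.not_le_iff_exists.1 (not_le_of_ne h'.index h.index hne.symm)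
  obtain ⟨b, hb, hb'⟩ := exists_not_mem i1
  have eD : E ⊓ R ≤ T ⊔ Ph E := by
    by_contra e
    have l2 : ⁅E ⊓ R, (⊤ : Subgroup G)⁆ ⊔ (T ⊔ Ph E) ≤ E ⊓ R := sup_le (commutator_le_left _ _) (sup_le hT l1)
    exact h.not_flag_Ph hx (le_sup_right.trans le_sup_right) l2 inf_le_left (inv _ (le_sup_left.trans le_sup_right)
      (l2.trans inf_le_left)) iD (fun y hy => commutator_le.1 (comm_top_le hG ((relIndex_le_left hG
        (le_sup_right.trans le_sup_right) l2 (not_le_comm_sup hG e) (relIndex_le_left hG l1 inf_le_left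
          (not_le_of_relIndex i1) (hsr.relIndex_Ph h.pgE))).trans_eq (pow_one p))) y hy x trivial)
      (fun y hy => mem_sup_left (commutator_mem_commutator hy trivial))
      fun y _ => ⟨comm_mem_of_index hG h.index y x, comm_mem_of_index hG h'.index y x⟩
  have l3 : T ⊔ zpowers b ≤ E := sup_le (hT.trans inf_le_left) (zpowers_le_of_mem hb)
  have eE : E ≤ T ⊔ zpowers b := le_of_le_sup_Ph l3 ((eq_sup_zpowers inf_le_left i1 hb hb').ge.trans
    (sup_le (eD.trans (sup_le_sup_right le_sup_left _)) (le_sup_right.trans le_sup_left)))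
  have hTK : T ≤ cm T (Ph T) := le_cm.2 (comm_le_Ph (hG.to_subgroup T))
  have l4 : E ⊓ R ≤ R ⊓ cm T (Ph T) := le_inf inf_le_right (eD.trans (sup_le hTK ((Ph_le_iff h.pgE).2
    ⟨((commutator_mono eE eE).trans (comm_sup_zpowers_le (commutator_le_left _ _) fun a ha =>
      commutator_le_left _ ⊤ (commutator_mem_commutator ha trivial))).trans hTK,
        fun g _ => pow_mem_cm hG hsr hp2 g⟩)))
  rcases eq_or_eq (inf_comm E R ▸ relIndex_inf hG h'.index h.index hne.symm) l4 inf_le_left with e | e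
  · exact lemD hsr h h' hne iD (e ▸ autInv_inf (autInv_of_le A' le_rfl) (autInv_cm (hT.trans inf_le_right) hi'
      (autInv_Ph (hT.trans inf_le_right) (hG.to_subgroup T) hi')))
  · exact not_comm_le h h' iD hx fun y hy => commutator_le.1 (sup_comm_le ((le_cm.1 (e.ge.trans
      inf_le_right)).trans (Ph_mono hG (hT.trans inf_le_left)))
      (commutator_le_left _ _)) y (eD hy) x hxR

omit hsr in
theorem le_of_inf_le (nR : ¬ AutInv A' (E ⊓ R)) (hM : AutInv A' M) (h1 : E ⊓ R ≤ M) : R ≤ M :=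
  ((eq_or_eq (inf_comm E R ▸ relIndex_inf h.pgG h'.index h.index hne.symm) (le_inf inf_le_right h1)
    inf_le_left).resolve_left fun e => nR (e ▸ autInv_inf (autInv_of_le A' le_rfl) hM)).ge.trans inf_le_right

omit hsr in
theorem le_center_of_irr (hT : T ≤ E ⊓ R) (hi : AutInv A T) (hi' : AutInv A' T) (nR : ¬ AutInv A' (E ⊓ R))
    (hc : ⁅T, (⊤ : Subgroup G)⁆ ≤ Ph T) (irr : ∀ M, T ≤ M → M ≤ E → AutInv A M → M = T ∨ M = E) (h1 : Ph E ≤ T)
    (h2 : (Ph E).relIndex T ≤ p) : T ≤ center G := fun t ht => mem_center_iff.2 fun g =>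
  have h3 := h.le_cent_of_irr (hT.trans inf_le_left) hi hc irr h1 h2
  (sup_le h3 (le_of_inf_le h h' hne nR (autInv_centralizer (hT.trans inf_le_right) hi') (inf_le_left.trans h3))
    ((sup_eq_top h.index h'.index hne).ge (mem_top g)) t ht).symm

theorem eq_bot_of_X2 (hp2 : Odd p) (hT : T ≤ E ⊓ R) (hi : AutInv A T) (hi' : AutInv A' T) (nR : ¬ AutInv A' (E ⊓ R))
    (irr : ∀ M, T ≤ M → M ≤ E → AutInv A M → M = T ∨ M = E) (h1 : Ph E ≤ T) (h2 : T.relIndex E = p ^ 3)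
    (h3 : ¬ ⁅⁅E, (⊤ : Subgroup G)⁆, (⊤ : Subgroup G)⁆ ≤ T) : T = ⊥ := by
  have hG := h.pgG
  have := h.normalE
  have hTE := hT.trans inf_le_left
  have hTp := hG.to_subgroup T
  have := h.normal hTE hi
  have i0 := hsr.relIndex_Ph h.pgE
  have l0 : ⁅⁅E, (⊤ : Subgroup G)⁆, (⊤ : Subgroup G)⁆ ≤ E := (commutator_le_left _ _).trans (commutator_le_left _ _)
  have h4 : E ≤ cm T (Ph T) := ((irr _ (le_inf hTE (le_cm.2 (comm_le_Ph hTp))) inf_le_left (autInv_inf
    (autInv_of_le A le_rfl) (autInv_cm hTE hi (autInv_Ph hTE hTp hi)))).resolve_left fun e => h3 ((le_inf l0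
      ((commutator_mono (commutator_mono le_top le_rfl) le_rfl).trans (comm3_le_cm hG hsr))).trans e.le)).ge.trans
        inf_le_right
  obtain rfl : T = Ph E := le_antisymm (by_contra fun e => (pow_lt (by omega : 2 < 3)).not_ge
    (h2.ge.trans (relIndex_le_right hG h1 hTE e i0))) h1
  have hc := le_center_of_irr h h' hne hT hi hi' nR (le_cm.1 ((sup_eq_top h.index h'.index hne).ge.trans (sup_le h4
    (le_of_inf_le h h' hne nR (autInv_cm (hT.trans inf_le_right) hi' (autInv_Ph (hT.trans inf_le_right) hTp hi'))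
      (inf_le_left.trans h4))))) irr le_rfl ((relIndex_self _).trans_le hp.out.pos)
  have l1 : ⁅E, (⊤ : Subgroup G)⁆ ⊔ Ph E ≤ E := sup_le (commutator_le_left _ _) hTE
  have l2 : ⁅⁅E, (⊤ : Subgroup G)⁆ ⊔ Ph E, (⊤ : Subgroup G)⁆ ⊔ Ph E ≤ ⁅E, (⊤ : Subgroup G)⁆ ⊔ Ph E :=
    sup_le (commutator_le_left _ _) le_sup_right
  have n2 : ¬ ⁅⁅E, (⊤ : Subgroup G)⁆ ⊔ Ph E, (⊤ : Subgroup G)⁆ ⊔ Ph E ≤ Ph E := fun e =>
    h3 ((commutator_mono le_sup_left le_rfl).trans (le_sup_left.trans e))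
  have z : ∀ {X Y Z : Subgroup G}, X ≤ E → Y ≤ E → ⁅⁅X, Y⁆, Z⁆ ≤ ⊥ := fun h1 h2 =>
    comm_le_of_le_center (((commutator_mono h1 h2).trans (comm_le_Ph h.pgE)).trans hc)
  have c1 := commutator_eq_bot_iff_le_centralizer.1 (le_bot_iff.1 (comm_le_swap (sup_comm_le (HP.three_sub_le E ⊤ _ ⊥
    (comm_le_of_le_center ((comm_le_swap (chain3 hG hsr)).trans hc)) (z (l2.trans l1) le_rfl))
      (comm_le_of_le_center hc))))
  have c2 := comm_of_relIndex_le hG (le_inf l2 c1) ((relIndex_le_of_le_left le_sup_right index_ne_zero_of_finite).trans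
    ((relIndex_le_right hG le_sup_right l2 n2 (relIndex_le_left hG le_sup_right l1 (not_le_comm_sup hG fun e =>
      n2 (l2.trans (l1.trans e))) i0)).trans_eq (pow_one p)))
  have c3 := commutator_eq_bot_iff_le_centralizer.1 (le_bot_iff.1 (sup_comm_le (HP.three_sub_le _ ⊤ E ⊥
    ((commutator_mono ((comm_le_swap le_rfl).trans le_sup_left) le_rfl).trans
      (commutator_eq_bot_iff_le_centralizer.2 c2).le) (z le_rfl l1)) (comm_le_of_le_center hc)))
  have c4 := ((irr _ (le_inf hTE (hc.trans (center_le_centralizer _))) inf_le_left (autInv_inf (autInv_of_le A le_rfl)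
    (autInv_centralizer le_rfl (autInv_of_le A le_rfl)))).resolve_left fun e =>
      n2 ((le_inf (l2.trans l1) c3).trans e.le)).ge.trans inf_le_right
  exact le_bot_iff.1 ((Ph_le_iff h.pgE).2 ⟨(commutator_eq_bot_iff_le_centralizer.2 c4).le,
    h.exp_of_central hp2 hc irr⟩)

omit hsr hne h' in
theorem X1.not_inv (hx : center G = E ⊓ R) (hR : R.index = p) : ¬ AutInv A (E ⊓ R) := fun e =>
  have ⟨x, _, hxE⟩ := exists_not_mem h.idx
  h.not_flag hxE inf_le_left e (fun y _ => ⟨comm_mem_of_index h.pgG h.index y x, comm_mem_of_index h.pgG hR y x⟩)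
    fun _ hy => mem_center_iff.1 (hx.ge hy) x

omit hsr in
theorem X2.not_inv (hx : X2 p A R) : ¬ AutInv A' (E ⊓ R) := fun e =>
  have ⟨_, hxE, hxR⟩ := SetLike.not_le_iff_exists.1 (not_le_of_ne h.index h'.index hne)
  not_comm_le h' h (inf_comm E R ▸ e) hxR fun _ hy => commutatorElement_eq_one_iff_mul_comm.2
    (have := hx.2.2.1.1; setLike_mul_comm (s := E) hy.2 hxE) ▸ one_mem _

omit [Finite G] hsr h' hne in
theorem X2.card (hx : X2 p A R) : Nat.card E = p ^ 3 := Nat.eq_of_mul_eq_mul_right hp.out.pos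
  ((h.index ▸ card_mul_index E).trans (hx.1.trans (pow_succ p 3)))

omit hsr h' hne in
theorem X2.not_comm (hx : X2 p A R) : ¬ ⁅⁅E, (⊤ : Subgroup G)⁆, (⊤ : Subgroup G)⁆ ≤ ⊥ := fun e => by
  obtain ⟨x, -, hxE⟩ := exists_not_mem h.idx
  have h1 := EigC.card_le_mul (A := E) (T := center G) fun y hy => mem_center_iff.2 fun g =>
    (commutatorElement_eq_one_iff_mul_comm.1 (commutator_le.1 e _ (commutator_mem_commutator hy (mem_top x)) g
      trivial)).symm
  have h2 : centralizer {x} ⊓ E ≤ center G := fun y hy => mem_center_of h.index hxE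
    (le_centralizer_iff_isMulCommutative.2 hx.2.2.1.1 hy.2) (hy.1 x rfl)
  have := h1.trans (Nat.mul_le_mul_right _ (Subgroup.card_le_of_le h2))
  rw [hx.card h, hx.2.1, ← sq] at this
  exact (pow_lt (by omega : 2 < 3)).not_ge this

omit hsr h h' hne

/-- the first outcome modulo `T` -/
structure Y1 (p : ℕ) (T : Subgroup G) {E R : Subgroup G} (A : Subgroup (MulAut E)) (A' : Subgroup (MulAut R)) :
    Prop where
  comm : ⁅E ⊓ R, (⊤ : Subgroup G)⁆ ≤ T
  cent : ∀ g : G, (∀ y : G, ⁅y, g⁆ ∈ T) → g ∈ E ⊓ R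
  pow : ∀ y, y ^ p ∈ T
  nE : ¬ AutInv A (E ⊓ R)
  nR : ¬ AutInv A' (E ⊓ R)

variable {ι : Type*} {E : ι → Subgroup G} {A : ∀ i, Subgroup (MulAut (E i))}

omit hp in
theorem exists_max (E : ι → Subgroup G) (A : ∀ i, Subgroup (MulAut (E i))) : ∃ T, (∀ i, T ≤ E i ∧ AutInv (A i) T) ∧
    ∀ M, (∀ i, M ≤ E i ∧ AutInv (A i) M) → M ≤ T :=
  have ⟨T, _, h⟩ := Finite.exists_le_maximal (p := fun T => ∀ i, T ≤ E i ∧ AutInv (A i) T) (a := ⊥)
    fun _ => ⟨bot_le, autInv_bot _⟩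
  ⟨T, h.1, fun _ hM => le_sup_right.trans (h.2 (fun i => ⟨sup_le (h.1 i).1 (hM i).1,
    autInv_sup (h.1 i).1 (hM i).1 (h.1 i).2 (hM i).2⟩) le_sup_left)⟩

variable (hp2 : Odd p) (loc : ∀ i, Loc p ⊤ (E i) (A i))
include hp2 loc

theorem X1.pow_eq_one {i j : ι} (hx : X1 p (E i) (E j)) (max : ∀ M, (∀ i, M ≤ E i ∧ AutInv (A i) M) → M = ⊥)
    (y : G) : y ^ p = 1 := by
  obtain ⟨h1, ⟨a, ha, haR, ha'⟩, b, hb, hbE, hb'⟩ := hx
  have hG := (loc i).pgG
  have hne : E i ≠ E j := fun e => haR (e ▸ ha)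
  have i1 := relIndex_inf hG (loc i).index (loc j).index hne
  have c1 : ∀ a b : G, ⁅a, b⁆ ∈ center G := fun a b =>
    h1.ge ⟨comm_mem_of_index hG (loc i).index a b, comm_mem_of_index hG (loc j).index a b⟩
  obtain ⟨K, hK⟩ := exists_pk (X := ⊤) (M := Ph (center G)) hp2 (normalizer_eq_top _).ge
    (comm_le_swap (comm_le_of_le_center (commutator_le.2 fun a _ b _ => c1 a b))) fun a _ b _ =>
      comm_pow_eq_one (c1 a b) (h1.ge ⟨(loc i).pow_mem trivial, (loc j).pow_mem trivial⟩) ▸ one_mem _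
  have h2 : ∀ y, y ^ p ∈ Ph (center G) := fun y => ((hK y).1 (eq_top_of_not_mem (loc i).index (le_of_not_le i1
    inf_le_left (fun d hd => (hK d).2 ⟨trivial, pow_mem_Ph (hG.to_subgroup _) (h1.ge hd)⟩) ha (fun e => haR e.2)
    ((hK a).2 ⟨trivial, ha' ▸ one_mem _⟩)) hbE ((hK b).2 ⟨trivial, hb' ▸ one_mem _⟩) ▸ mem_top y)).2
  refine (max _ fun k => ⟨(Ph_le _).trans (loc k).center_le, ?_⟩).le (h2 y)
  have h3 : (center G).relIndex (E k) = p := Nat.eq_of_mul_eq_mul_right hp.out.pos (by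
    rw [← (loc k).index, relIndex_mul_index (loc k).center_le, h1, ← relIndex_mul_index inf_le_left, i1,
      (loc i).index, (loc k).index])
  exact (Ph_mono hG (loc k).center_le).antisymm ((Ph_le_iff (loc k).pgE).2 ⟨(commutator_eq_bot_iff_le_centralizer.2
    (comm_of_relIndex_le hG (le_inf (loc k).center_le (center_le_centralizer _)) ((relIndex_le_of_le_left le_sup_right
      index_ne_zero_of_finite).trans h3.le))).le.trans bot_le, fun g _ => h2 g⟩) ▸ autInv_map_of_char _ _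

theorem thmQ [Nontrivial ι] (hsr : SR p G) (inj : Function.Injective E) (hT : ∀ i, T ≤ E i ∧ AutInv (A i) T)
    (max : ∀ M, (∀ i, M ≤ E i ∧ AutInv (A i) M) → M ≤ T) :
    ∃ i j, i ≠ j ∧ ((Y1 p T (A i) (A j) ∧ ∀ k, E i ⊓ E j ≤ E k) ∨ X2 p (A i) (E j)) := by
  have := (loc (Classical.arbitrary ι)).normal (hT _).1 (hT _).2
  let π := QuotientGroup.mk' T
  have hφ := fun P => isHomOn_monoidHom P π
  have hk : ∀ y, π y = 1 ↔ y ∈ T := QuotientGroup.eq_one_iff
  have hc : ∀ {M}, T ≤ M → (M.map π).comap π = M := fun h => comap_map_eq_self ((QuotientGroup.ker_mk' T).le.trans h)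
  have hm : ∀ {M y}, T ≤ M → (π y ∈ M.map π ↔ y ∈ M) := fun h => SetLike.ext_iff.1 (hc h) _
  have loc' := fun i => (loc i).push (hφ ⊤) ((img_monoidHom π ⊤).trans (map_top_of_surjective π
    (QuotientGroup.mk'_surjective T))) (img_monoidHom π (E i)) (fun y _ => hk y) (hT i).1 (hT i).2
    (have ⟨j, hj⟩ := exists_ne i; good hsr (loc i) (loc j) (inj.ne hj.symm) hp2 (le_inf (hT i).1 (hT j).1)
      (hT i).2 (hT j).2)
  have inj' : Function.Injective fun i => (E i).map π := fun i j e =>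
    inj ((hc (hT i).1).symm.trans ((congrArg (comap π) e).trans (hc (hT j).1)))
  have max' : ∀ M, (∀ i, M ≤ (E i).map π ∧ AutInv (push (A i) π _ (img_monoidHom π (E i))) M) → M = ⊥ := fun M hM =>
    le_bot_iff.1 fun y hy => by
      obtain ⟨y, rfl⟩ := QuotientGroup.mk'_surjective T y
      exact (hk y).2 (max (M.comap π) (fun i => ⟨(comap_mono (hM i).1).trans (hc (hT i).1).le, autInv_of_push (hφ _) _
        (fun y _ => hk y) (hT i).2 (hM i).2 fun _ _ => .rfl⟩) hy)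
  have hi : ∀ i j, (E i ⊓ E j).map π = (E i).map π ⊓ (E j).map π := fun i j => le_antisymm (map_inf_le _ _ _)
    fun y hy => by
      obtain ⟨y, rfl⟩ := QuotientGroup.mk'_surjective T y
      exact mem_map_of_mem π ⟨(hm (hT i).1).1 hy.1, (hm (hT j).1).1 hy.2⟩
  have hp' : ∀ i {M}, M ≤ E i → AutInv (A i) M → AutInv (push (A i) π _ (img_monoidHom π (E i))) (M.map π) :=
    fun i M h1 h2 => img_monoidHom π M ▸ autInv_push (hφ _) _ h1 h2
  obtain ⟨i, j, hij, h | h⟩ := thmX hp2 (hsr.map (QuotientGroup.mk'_surjective T)) loc' inj' max'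
  · refine ⟨i, j, hij, .inl ⟨⟨commutator_le.2 fun a ha b _ => (hk _).1 ?_, fun g hg => (hm (le_inf (hT i).1
      (hT j).1)).1 ((h.1.trans (hi i j).symm).le (mem_center_iff.2 fun y => ?_)), fun y => (hk _).1 ((map_pow π y p).trans
        (h.pow_eq_one hp2 loc' max' _)), fun e => X1.not_inv (loc' i) h.1 (loc' j).index (hi i j ▸ hp' i inf_le_left e),
      fun e => X1.not_inv (loc' j) (h.1.trans (inf_comm _ _)) (loc' i).index (inf_comm ((E i).map π) _ ▸ hi i j ▸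
        hp' j inf_le_right e)⟩, fun k y hy => (hm (hT k).1).1 ((loc' k).center_le ((h.1.trans (hi i j).symm).ge
          (mem_map_of_mem π hy)))⟩⟩
    · rw [map_commutatorElement, commutatorElement_eq_one_iff_mul_comm]
      exact (mem_center_iff.1 ((h.1.trans (hi i j).symm).ge (mem_map_of_mem π ha)) _).symm
    · obtain ⟨y, rfl⟩ := QuotientGroup.mk'_surjective T y
      rw [← commutatorElement_eq_one_iff_mul_comm, ← map_commutatorElement]
      exact (hk _).2 (hg y)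
  have n3 : ¬ ⁅⁅E i, (⊤ : Subgroup G)⁆, (⊤ : Subgroup G)⁆ ≤ T := fun e => h.not_comm (loc' i) (by
    rw [← map_top_of_surjective π (QuotientGroup.mk'_surjective T), ← map_commutator, ← map_commutator]
    exact map_le_iff_le_comap.2 fun y hy => (hk y).2 (e hy))
  obtain rfl : T = ⊥ := eq_bot_of_X2 hsr (loc i) (loc j) (inj.ne hij) hp2 (le_inf (hT i).1 (hT j).1) (hT i).2 (hT j).2
    (fun e => h.not_inv (loc' i) (loc' j) (inj'.ne hij) (hi i j ▸ hp' j inf_le_right e))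
    (fun M h1 h2 h3 => or_iff_not_imp_left.2 fun e => (hc h1).symm.trans ((congrArg (comap π) (h.2.2.2.2.2 _
      (map_mono h2) (hp' i h2 h3) fun e' => e (h1.antisymm' fun y hy => (hk y).1 (e'.le (mem_map_of_mem π hy))))).trans
        (hc (hT i).1)))
    ((Ph_le_iff (loc i).pgE).2 ⟨commutator_le.2 fun a ha b hb => (hk _).1 (by
      have := h.2.2.1.1
      rw [map_commutatorElement, commutatorElement_eq_one_iff_mul_comm]
      exact setLike_mul_comm (s := (E i).map π) (mem_map_of_mem π ha) (mem_map_of_mem π hb)),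
      fun g hg => (hk _).1 ((map_pow π g p).trans (h.2.2.1.2 _ (mem_map_of_mem π hg)))⟩)
    (by rw [← h.card (loc' i), ← relIndex_ker, QuotientGroup.ker_mk']) n3
  obtain ⟨i', j', hij', h' | h'⟩ := thmX hp2 hsr loc inj fun M hM => le_bot_iff.1 (max M hM)
  · exact (n3 (comm_le_of_le_center (commutator_le.2 fun a _ b _ => h'.1.ge ⟨comm_mem_of_index (loc i).pgG
      (loc i').index a b, comm_mem_of_index (loc i).pgG (loc j').index a b⟩))).elim
  · exact ⟨i', j', hij', .inr h'⟩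

end CL.SR3
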