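import Mathlib
import Cfsg.Agent.FUS.SR3Q

/-!
# Sectional rank three: consequences of the first outcome
-/

set_option autoImplicit false

namespace CL.SR3
open Subgroup Cfsg Cfsg.FusionSystem CL.Fus CL.TV CL.EssSm
open scoped commutatorElement

variable {G : Type*} [Group G] {p : ℕ} {B C D E R M T V W X Z L₁ L₂ D₁ D₂ : Subgroup G}
  {A : Subgroup (MulAut E)} {A' : Subgroup (MulAut R)}

theorem mem_of_sq_mem (hp2 : Odd p) {y : G} (h1 : y * y ∈ M) (h2 : y ^ p ∈ M) : y ∈ M := by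
  obtain ⟨k, rfl⟩ := hp2
  rw [pow_succ, pow_mul, sq] at h2
  exact (M.mul_mem_cancel_left (pow_mem h1 k)).1 h2

/-- two local data in the first outcome -/
structure Two (p : ℕ) (T : Subgroup G) {E R : Subgroup G} (A : Subgroup (MulAut E)) (A' : Subgroup (MulAut R)) :
    Prop extends Y1 p T A A' where
  odd : Odd p
  sr : SR p G
  loc : Loc p ⊤ E A
  loc' : Loc p ⊤ R A'
  ne : E ≠ R
  le : T ≤ E ⊓ R
  inv : AutInv A T
  inv' : AutInv A' T

namespace Two
variable (h : Two p T A A') {x : G}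
include h

theorem symm : Two p T A' A :=
  ⟨⟨inf_comm E R ▸ h.comm, inf_comm E R ▸ h.cent, h.pow, inf_comm E R ▸ h.nR, inf_comm E R ▸ h.nE⟩, h.odd, h.sr,
    h.loc', h.loc, h.ne.symm, inf_comm E R ▸ h.le, h.inv', h.inv⟩

theorem leE : T ≤ E := h.le.trans inf_le_left

theorem not_le : ¬ E ⊓ R ≤ T := fun e => h.nE (e.antisymm' h.le ▸ h.inv)

variable [hp : Fact p.Prime] [Finite G]

theorem normal : T.Normal := h.loc.normal h.leE h.inv

theorem idx : (E ⊓ R).relIndex E = p := relIndex_inf h.loc.pgG h.loc.index h.loc'.index h.ne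

theorem mem_inf (x y : G) : ⁅x, y⁆ ∈ E ⊓ R :=
  ⟨comm_mem_of_index h.loc.pgG h.loc.index x y, comm_mem_of_index h.loc.pgG h.loc'.index x y⟩

theorem not_comm : ¬ _root_.commutator G ≤ T := fun e => not_le_of_relIndex h.idx fun g _ =>
  h.cent g fun y => e (commutator_mem_commutator (mem_top y) (mem_top g))

theorem comm_le : ⁅E, E⁆ ≤ T :=
  have := h.normal
  have ⟨_, ha, ha'⟩ := exists_not_mem h.idx
  have e := (eq_sup_zpowers inf_le_left h.idx ha ha').ge
  (commutator_mono e e).trans (comm_sup_zpowers_le (comm_le_top h.comm) fun y hy => commutator_le.1 h.comm y hy _ trivial)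

theorem Ph_le : Ph E ≤ T := (Ph_le_iff h.loc.pgE).2 ⟨h.comm_le, fun g _ => h.pow g⟩

theorem idx_Ph : (Ph E).relIndex T ≤ p := (relIndex_le_left h.loc.pgG h.Ph_le h.le h.not_le (relIndex_le_left h.loc.pgG
  (h.Ph_le.trans h.le) inf_le_left (not_le_of_relIndex h.idx) (h.sr.relIndex_Ph h.loc.pgE))).trans_eq (pow_one p)

theorem idx_le : T.relIndex (E ⊓ R) ≤ p ^ 2 := relIndex_le_left h.loc.pgG h.le inf_le_left (not_le_of_relIndex h.idx)
  ((relIndex_le_of_le_left h.Ph_le index_ne_zero_of_finite).trans (h.sr.relIndex_Ph h.loc.pgE))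

theorem cases : T.relIndex (E ⊓ R) = p ∨ T = Ph E := or_iff_not_imp_right.2 fun e => relIndex_eq h.loc.pgG
  ((relIndex_le_left h.loc.pgG h.le inf_le_left (not_le_of_relIndex h.idx) (relIndex_le_right h.loc.pgG h.Ph_le h.leE
    (fun e' => e (e'.antisymm h.Ph_le)) (h.sr.relIndex_Ph h.loc.pgE))).trans_eq (pow_one p)) h.not_le

theorem irr (i : T.relIndex (E ⊓ R) = p) (M : Subgroup G) (h1 : T ≤ M) (h2 : M ≤ E) (h3 : AutInv A M) :
    M = T ∨ M = E := or_iff_not_imp_right.2 fun e =>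
  have := h.normal
  have := h.loc.normal h2 h3
  have c := comm_top_le h.loc.pgG ((relIndex_le_left h.loc.pgG (k := 1) h1 h2 (fun e' => e (h2.antisymm e'))
    (by rw [← relIndex_mul_relIndex T _ E h.le inf_le_left, i, h.idx, ← sq])).trans_eq (pow_one p))
  (eq_or_eq i h1 fun g hg => h.cent g fun y => comm_mem_swap (commutator_le.1 c g hg y trivial)).resolve_right
    fun e' => h.nE (e' ▸ h3)

theorem le_center (i : T.relIndex (E ⊓ R) = p) : T ≤ center G :=
  have := h.normal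
  le_center_of_irr h.loc h.loc' h.ne h.le h.inv h.inv' h.nR (sl3 h.loc.pgG h.odd h.sr h.loc.index h.loc'.index h.ne
    h.le i h.inv h.inv' h.nE h.nR h.not_comm) (h.irr i) h.Ph_le h.idx_Ph

theorem fix (i : T.relIndex (E ⊓ R) = p) {β : MulAut E} (hβ : β ∈ A) {y : G} (hy : y ∈ T) : autFun β y = y :=
  (inv_mul_eq_one.1 (h.loc.triv_top (autInv_bot A) h.inv (comm_le_of_le_center (h.le_center i)) β hβ y
    (h.leE hy) hy)).symm

theorem mem_inn {β : MulAut E} (hβ : β ∈ A) (ht : ∀ y ∈ E, y⁻¹ * autFun β y ∈ T) : β ∈ Inn E := by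
  rcases h.cases with i | rfl
  · exact h.loc.mem_inn₂ hβ h.inv (fun _ _ hy => h.fix i hβ hy) ht
  · exact h.loc.mem_inn_Ph hβ le_rfl le_rfl h.inv h.inv (fun y hy _ => ht y hy) (fun y hy _ => ht y hy) ht

theorem tv (hx : x ∉ E) : ∃ L₁ D₁, TvS p A (cjAut E x (h.loc.norm trivial)) E T (E ⊓ R) L₁ D₁ :=
  h.loc.tvS_top hx le_rfl (autInv_of_le A le_rfl) h.inv h.le inf_le_left h.comm_le h.idx h.comm h.nE

theorem exists_w (t : TvS p A (cjAut E x (h.loc.norm trivial)) E T (E ⊓ R) L₁ D₁) : ∃ w ∈ A,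
    (∀ y ∈ L₁, y * autFun w y ∈ T) ∧ (∀ y ∈ D₁, y⁻¹ * autFun w y ∈ T) ∧ (cjAut E x (h.loc.norm trivial))⁻¹ *
      (w * cjAut E x (h.loc.norm trivial) * w⁻¹) ∈ Inn E := by
  obtain ⟨w, hw, w1, w2, -, w4⟩ := t.tor (-1) (-1) (by simp)
  have hu := h.loc.cj_mem (mem_top x)
  refine ⟨w, hw, by simpa using w1, w2, h.mem_inn (mul_mem (inv_mem hu) (Fus.cj_mem hw hu)) fun y hy => ?_⟩
  have := w4 y hy
  rw [neg_mul_neg, mul_one, zpow_one] at this
  have := h.inv _ (inv_mem hu) _ (h.leE this) this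
  rwa [(isHomOn_autFun _).map_mul (inv_mem (autFun_mem _ hy)) (autFun_mem _ hy), (isHomOn_autFun _).map_inv
    (autFun_mem _ hy), autFun_inv_autFun _ hy, ← autFun_mul _ _ hy] at this

theorem eq_L (hx : x ∉ E) (t : TvS p A (cjAut E x (h.loc.norm trivial)) E T (E ⊓ R) L₁ D₁) :
    L₁ = _root_.commutator G ⊔ T := by
  have := h.normal
  have : L₁.Normal := normal_of_comm_le (((commutator_mono (le_sup_left.trans t.sup.le) le_rfl).trans h.comm).trans t.le₁)
  have e := (top_eq_sup_zpowers h.loc.index hx).ge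
  have h1 := sup_le ((commutator_mono e e).trans (comm_sup_zpowers_le (h.comm_le.trans t.le₁) fun y hy =>
    inv_mul_cj_iff.1 (autFun_cjAut (h.loc.norm trivial) hy ▸ t.comm y hy))) t.le₁
  exact ((eq_or_eq t.idx le_sup_right h1).resolve_left fun e => h.not_comm (le_sup_left.trans e.le)).symm

theorem comm_le_Ph : ⁅E ⊓ R, (⊤ : Subgroup G)⁆ ≤ Ph E := by
  rcases h.cases with i | rfl
  swap
  · exact h.comm
  have := h.loc.normalE
  obtain ⟨x, -, hx⟩ := exists_not_mem h.loc.idx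
  obtain ⟨L₁, D₁, t⟩ := h.tv hx
  obtain ⟨w, hw, w1, -, w2⟩ := h.exists_w t
  obtain rfl := (eq_or_eq i t.le₁ (le_sup_left.trans t.sup.le)).resolve_left fun e => not_le_of_relIndex t.idx e.le
  refine comm_top_le_of h.loc.index hx ((commutator_mono inf_le_left le_rfl).trans (SR3.comm_le_Ph h.loc.pgE))
    fun l hl => inv_mul_cj_iff.1 ?_
  have hc := h.le_center i
  have hδ : l⁻¹ * cj x l ∈ T := inv_mul_cj_mem (comm_le_swap h.comm) (mem_top x) hl
  obtain ⟨g, hg, e⟩ := mem_inn_iff.1 w2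
  have hl' := autFun_mem w hl.1
  have h1 := inv_mul_cj_mem (SR3.comm_le_Ph h.loc.pgE) hg hl'
  have h2 := cj_mem_of_mem_normalizer (h.loc.norm (mem_top x)) hl.1
  rw [← e hl', autFun_mul _ _ hl', autFun_mul _ _ hl', autFun_mul _ _ (autFun_mem _ hl'), autFun_inv_autFun _ hl.1,
    autFun_cjAut _ hl.1] at h1
  have h3 := (inferInstance : (Ph E).Normal).conj_mem _ h1 x
  have h4 := autFun_cjAut (h.loc.norm (mem_top x)) (autFun_mem (cjAut E x (h.loc.norm (mem_top x)))⁻¹ (autFun_mem w h2))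
  rw [autFun_autFun_inv _ (autFun_mem w h2)] at h4
  have h5 : autFun w (cj x l) = autFun w l * (l⁻¹ * cj x l) := by
    rw [← h.fix i hw hδ, ← (isHomOn_autFun w).map_mul hl.1 (h.leE hδ), mul_inv_cancel_left]
  have h6 := mem_center_iff.1 (hc (w1 l hl))
  have h7 := mem_center_iff.1 (hc hδ)
  refine mem_of_sq_mem h.odd ?_ (pow_mem_Ph h.loc.pgE (h.leE hδ))
  convert h3 using 1
  calc _ = l * (l⁻¹ * cj x l) * l⁻¹ * (l⁻¹ * cj x l) := by rw [h7 l, mul_inv_cancel_right]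
    _ = x * (l * autFun w l) * (l * autFun w l)⁻¹ * l * x⁻¹ * l⁻¹ * (l⁻¹ * cj x l) := by rw [cj]; group
    _ = (l * autFun w l) * (x * (l * autFun w l)⁻¹ * l * x⁻¹ * l⁻¹) * (l⁻¹ * cj x l) := by rw [h6 x]; group
    _ = x * (autFun w l)⁻¹ * x⁻¹ * (autFun w l * (l⁻¹ * cj x l)) := by rw [← h6]; group
    _ = _ := (congrArg _ (h5.symm.trans h4)).trans (by rw [cj]; group)

theorem pearl (hr : (Ph E).relIndex E ≤ p ^ 2) : (IsElementaryAbelian p E ∧ Nat.card E = p ^ 2) ∨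
    (IsExtraspecial p E ∧ Nat.card E = p ^ 3 ∧ ∀ x ∈ E, x ^ p = 1) := by
  have hG := h.loc.pgG
  have i0 := (relIndex_le_left hG (h.Ph_le.trans h.le) inf_le_left (not_le_of_relIndex h.idx) hr).trans_eq (pow_one p)
  obtain rfl : T = Ph E := (eq_or_eq (relIndex_eq hG i0 fun e => h.not_le (e.trans h.Ph_le)) h.Ph_le h.le).resolve_right
    fun e => h.not_le e.ge
  have i := relIndex_eq hG i0 h.not_le
  have hc := h.le_center i
  have he := h.loc.exp_of_central h.odd hc (h.irr i)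
  have c1 := card_eq_of_relIndex (SR3.Ph_le E) ((relIndex_mul_relIndex _ _ E h.le inf_le_left).symm.trans
    (by rw [i, h.idx, ← sq]) : _ = p ^ 2)
  by_cases hab : IsMulCommutative E
  · refine .inl ⟨⟨hab, he⟩, ?_⟩
    rw [c1, le_bot_iff.1 ((Ph_le_iff h.loc.pgE).2 ⟨(commutator_eq_bot_iff_le_centralizer.2
      (le_centralizer_iff_isMulCommutative.2 hab)).le, he⟩), card_bot, mul_one]
  obtain ⟨d, hd, hd'⟩ := exists_not_mem i
  obtain ⟨a, ha, ha'⟩ := exists_not_mem h.idx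
  have hz := hc (commutator_le.1 h.comm d hd a trivial)
  have := normal_of_le_center (zpowers_le_of_mem hz)
  have e1 := (eq_sup_zpowers h.le i hd hd').ge
  have e2 := (eq_sup_zpowers inf_le_left h.idx ha ha').ge
  have k : ∀ c ∈ Ph E, ∀ y, ⁅c, y⁆ ∈ zpowers ⁅d, a⁆ := fun c hc' y =>
    commutatorElement_eq_one_iff_mul_comm.2 (mem_center_iff.1 (hc hc') y).symm ▸ one_mem _
  have c2 := Subgroup.card_le_of_le ((Ph_le_iff h.loc.pgE).2 ⟨(commutator_mono e2 e2).trans (comm_sup_zpowers_le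
    ((commutator_mono e1 e1).trans (comm_sup_zpowers_le (comm_le_of_le_center hc) fun c hc => k c hc d)) fun c hc =>
      comm_mem_of_sup (le_top.trans (normalizer_eq_top _).ge) ((normalizer_eq_top _).ge (mem_top d))
        (fun c hc => k c hc a) (mem_zpowers _) (e1 hc)), fun g hg => he g hg ▸ one_mem _⟩)
  have c3 : Nat.card E = p ^ 3 := by
    obtain ⟨k, hk⟩ := PG.card_eq_pow hG E
    have c3 := c1.trans_le (Nat.mul_le_mul_left _ (c2.trans ((Nat.card_zpowers _).trans_le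
      (orderOf_le_of_pow_eq_one hp.out.pos (he _ (h.mem_inf d a).1)))))
    have c4 : k ≠ 2 := fun e => hab (IsPGroup.isMulCommutative_of_card_eq_prime_sq (e ▸ hk))
    have c5 := (Nat.le_mul_of_pos_right _ Nat.card_pos).trans c1.ge
    rw [hk, ← pow_succ, Nat.pow_le_pow_iff_right hp.out.one_lt] at c3
    rw [hk, Nat.pow_le_pow_iff_right hp.out.one_lt] at c5
    rw [hk, show k = 3 by omega]
  exact .inr ⟨isExtraspecial_of_card c3 hab, c3, he⟩

theorem cent_of_aut (i : T.relIndex (E ⊓ R) = p) {σ : G → G} (hσ : IsHomOn ⊤ σ) (h1 : ∀ t ∈ T, σ t = t)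
    (h2 : ∀ d ∈ E ⊓ R, d * σ d ∈ T) {a : G} (h3 : a⁻¹ * σ a ∈ E ⊓ R) {d : G} (hd : d ∈ E ⊓ R) :
    a * d = d * a := by
  have hc := h.le_center i
  have hab := comm_of_relIndex_le h.loc.pgG (le_inf h.le (hc.trans (center_le_centralizer _)))
    ((relIndex_le_of_le_left le_sup_right index_ne_zero_of_finite).trans i.le)
  have h4 := commutator_le.1 h.comm d hd a trivial
  have h5 := h1 _ h4
  have h6 := mem_center_iff.1 (hc (h2 d hd))
  have h7 := mem_center_iff.1 (hc h4)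
  have h8 := hab hd _ h3
  refine (commutatorElement_eq_one_iff_mul_comm.1 (mem_of_sq_mem (M := ⊥) h.odd ?_
    (comm_pow_eq_one (hc h4) (hc (h.pow d))))).symm
  rw [hσ.map_commutator trivial trivial] at h5
  nth_rewrite 2 [← h5]
  calc _ = ⁅d, a⁆ * d⁻¹ * ((d * σ d) * (σ a * (d * σ d)⁻¹)) * d * (a⁻¹ * σ a)⁻¹ * a⁻¹ := by group
    _ = d⁻¹ * ⁅d, a⁆ * a * ((a⁻¹ * σ a) * d) * (a⁻¹ * σ a)⁻¹ * a⁻¹ := by rw [← h6, ← h7]; group
    _ = 1 := by rw [h8]; group

theorem center_eq_or (max : ∀ M ≤ E ⊓ R, AutInv A M → AutInv A' M → M ≤ T)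
    (ext : ∀ x ∉ E, ∀ w ∈ A, (cjAut E x (h.loc.norm trivial))⁻¹ * (w * cjAut E x (h.loc.norm trivial) * w⁻¹) ∈ Inn E →
      ∃ σ : G → G, IsHomOn ⊤ σ ∧ Set.EqOn σ (autFun w) E ∧ x⁻¹ * σ x ∈ E ∧ (∀ y ∈ R, σ y ∈ R) ∧
        ∀ k ∈ A', ∃ k' ∈ A', ∀ y ∈ R, autFun k (σ y) = σ (autFun k' y)) :
    T.relIndex (E ⊓ R) = p ∧ E ⊓ R ≤ centralizer (R : Set G) := by
  have := h.normal
  obtain ⟨x, hxR, hx⟩ := SetLike.not_le_iff_exists.1 (not_le_of_ne h.loc'.index h.loc.index h.ne.symm)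
  obtain ⟨x', -, hx'⟩ := exists_not_mem h.loc'.idx
  obtain ⟨L₁, D₁, t⟩ := h.tv hx
  obtain ⟨L₂, D₂, t'⟩ := h.symm.tv hx'
  obtain ⟨w, hw, w1, w2, w3⟩ := h.exists_w t
  obtain ⟨σ, s1, s2, s3, s4, s5⟩ := ext x hx w hw w3
  have e := (h.eq_L hx t).trans (h.symm.eq_L hx' t').symm
  subst e
  rw [inf_comm R E] at t'
  have l1 := le_sup_left.trans t.sup.le
  have l2 := le_sup_right.trans t'.sup.le
  have inv : ∀ {P : Subgroup G} {B : Subgroup (MulAut P)} {u D}, TvS p B u P T (E ⊓ R) L₁ D → AutInv B D :=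
    fun t β hβ y hy hy' => (t.memD _).2 ⟨autFun_mem β hy, fun k hk =>
      autFun_mul k β hy ▸ ((t.memD y).1 hy').2 _ (mul_mem hk hβ)⟩
  have i : T.relIndex (E ⊓ R) = p := by
    by_contra i
    have n1 : ¬ D₂ ≤ T := fun e => i (by rw [← t'.sup, sup_of_le_left (e.trans t.le₁), t.idx])
    have : D₂.Normal := normal_of_comm_le (((commutator_mono l2 le_rfl).trans h.comm).trans t'.leD)
    have : L₁.Normal := normal_of_comm_le (((commutator_mono l1 le_rfl).trans h.comm).trans t.le₁)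
    have l3 : D₂ ≤ D₁ := fun y hy => by
      obtain ⟨l, hl, d, hd, rfl⟩ := mem_sup_of_normal_left.1 (t.sup.ge (l2 hy))
      have hd' := le_sup_right.trans t.sup.le hd
      have h1 : σ (l * d) ∈ D₂ := (t'.memD _).2 ⟨s4 _ (l2 hy).2, fun k hk => by
        obtain ⟨k', hk', e⟩ := s5 k hk
        have := ((t'.memD _).1 hy).2 k' hk'
        exact e _ (l2 hy).2 ▸ ⟨s2 this.1 ▸ autFun_mem w this.1, s4 _ this.2⟩⟩
      rw [s1 trivial trivial, s2 (l1 hl).1, s2 hd'.1] at h1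
      have h2 : l * l ∈ D₂ := by
        convert D₂.mul_mem hy (D₂.inv_mem (D₂.mul_mem (D₂.inv_mem ((inferInstance : D₂.Normal).conj_mem' _
          (t'.leD (w1 l hl)) l)) (D₂.mul_mem h1 (D₂.inv_mem (t'.leD (w2 d hd)))))) using 1
        group
      exact mul_mem (t.leD (by_contra fun e => t'.notLe (le_of_not_le t.idx t.le₁ t'.leD hl e
        (mem_of_sq_mem h.odd h2 (t'.leD (h.pow l)))))) hd
    have l4 := le_sup_right.trans t.sup.le
    have e := (eq_or_eq (relIndex_eq h.loc.pgG ((relIndex_le_left h.loc.pgG t.leD l4 (fun e => t.notLe (l1.trans e))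
      h.idx_le).trans_eq (pow_one p)) fun e => n1 (l3.trans e)) t'.leD l3).resolve_left fun e => n1 e.le
    exact n1 (max _ l2 (e ▸ inv t) (inv t'))
  obtain rfl := (eq_or_eq i t.le₁ l1).resolve_left fun e => not_le_of_relIndex t.idx e.le
  refine ⟨i, fun d hd => centralizer_le (eq_sup_zpowers inf_le_left h.symm.idx hxR fun e => hx e.2).ge (mem_cent_sup
    (fun v hv => comm_of_relIndex_le h.loc.pgG (le_inf h.le ((h.le_center i).trans (center_le_centralizer _)))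
      ((relIndex_le_of_le_left le_sup_right index_ne_zero_of_finite).trans i.le) hd v ⟨hv.2, hv.1⟩)
    (h.cent_of_aut i s1 (fun t ht => (s2 (h.leE ht)).trans (h.fix i hw ht)) (fun d hd => s2 hd.1 ▸ w1 d hd)
      ⟨s3, R.mul_mem (R.inv_mem hxR) (s4 x hxR)⟩ hd))⟩

end Two

end CL.SR3
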