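import Mathlib
import Cfsg.Agent.FUS.SR3Y

/-!
# Sectional rank three: an eigenvalue computation excluding non-normal essential subgroups of rank three
-/

set_option autoImplicit false

namespace CL.SR3
open Subgroup Cfsg Cfsg.FusionSystem CL.Fus CL.TV CL.EssSm CL.EigC
open scoped commutatorElement

variable {G : Type*} [Group G] {p : ℕ} {B E L L₁ M N X : Subgroup G} {τ : MulAut G}

theorem apply_mem_iff [Finite G] (h : ∀ y ∈ B, τ y ∈ B) (y : G) : τ y ∈ B ↔ y ∈ B := by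
  have e : B.map τ.toMonoidHom = B := Subgroup.eq_of_le_of_card_ge (map_le_iff_le_comap.2 h)
    (card_map_of_injective τ.injective).ge
  exact ⟨fun hy => (mem_map_iff_mem τ.injective).1 (e.ge hy), h y⟩

theorem ev_mem {c : ℤ} (h : Ev τ X B c) (hB : B ≤ X) : ∀ y ∈ X, τ y ∈ X := fun y hy =>
  (X.mul_mem_cancel_left (inv_mem (zpow_mem hy c))).1 (hB (h y hy))

theorem ev_pow (hp2 : Odd p) (hn : X ≤ normalizer (M : Set G)) (h1 : ⁅X, ⁅X, X⁆⁆ ≤ M)
    (h2 : ∀ a ∈ ⁅X, X⁆, a ^ p ∈ M) {x : G} {n : ℤ} (hx : x ∈ X) (he : (x ^ n)⁻¹ * τ x ∈ X)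
    (he' : ((x ^ n)⁻¹ * τ x) ^ p ∈ M) : ((x ^ p) ^ n)⁻¹ * τ (x ^ p) ∈ M := by
  have hx' := zpow_mem hx n
  have hc := commutator_mem_commutator he hx'
  have := M.mul_mem he' (mul_pow_mem hp2 (hn hx') (hn he) (h1 (commutator_mem_commutator hx' hc))
    (h1 (commutator_mem_commutator he hc)) (h2 _ hc))
  rwa [mul_inv_cancel_left, mul_inv_rev, mul_assoc, mul_inv_cancel_left, ← map_pow, ← zpow_natCast, ← zpow_mul,
    mul_comm, zpow_mul, zpow_natCast] at this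

variable [hp : Fact p.Prime]

theorem cast_ne (hp5 : 5 ≤ p) {m n : ℤ} (h : n - m ∣ 6) : (m : ZMod p) ≠ n := fun e => by
  have h1 : p ∣ 2 * 3 := Int.natCast_dvd_natCast.1 (((ZMod.intCast_eq_intCast_iff_dvd_sub m n p).1 e).trans h)
  rcases (Nat.Prime.dvd_mul hp.out).1 h1 with h | h <;> have := Nat.le_of_dvd (by omega) h <;> omega

theorem lemZ [Finite G] (hG : IsPGroup p G) (hsr : SR p G) (hp5 : 5 ≤ p) [N.Normal] [L.Normal] (hN : N ≠ ⊤)
    (hEN : E ≤ N) (iE : E.relIndex N = p) (hn : normalizer (E : Set G) ≤ N) (hLE : L ≤ E) (iL : L.relIndex E = p)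
    (l1 : Ph E ≤ L₁) (l2 : L₁ ≤ L) (i1 : (Ph E).relIndex L₁ = p) (n2 : ¬ L ≤ L₁) (c1 : ⁅L, N⁆ ≤ Ph E)
    (c2 : ⁅N, N⁆ ≤ L₁) (cent : ∀ g ∈ N, (∀ y ∈ N, ⁅y, g⁆ ∈ Ph E) → g ∈ L)
    (tor : ∀ a b : ℤ, (a : ZMod p) * b = 1 → ∃ τ : MulAut G,
      Ev τ L₁ (Ph E) a ∧ Ev τ L L₁ 1 ∧ Ev τ E L b ∧ Ev τ N E (a * a)) : False := by
  have hp2 : Odd p := hp.out.odd_of_ne_two (by omega)
  have hE := hG.to_subgroup E
  have hnP : N ≤ normalizer (Ph E : Set G) := le_normalizer_iff_commutator_le_left.2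
    ((commutator_mono (l1.trans l2) le_rfl).trans c1)
  obtain ⟨b, hb⟩ : ∃ b : ℤ, ((2 : ℤ) : ZMod p) * b = 1 := by
    obtain ⟨s, t, h1, h2⟩ := exists_int_inv (p := p) (a := ((2 : ℤ) : ZMod p))
      (by simpa using cast_ne hp5 (m := 2) (n := 0) (by decide))
    exact ⟨t, h1 ▸ h2⟩
  have pE : ∀ y ∈ E, y ^ p ∈ Ph E := fun y hy => pow_mem_Ph hE hy
  have pN : ∀ x ∈ N, x ^ p ∈ Ph E := fun x hx => by
    have k : ∀ {τ : MulAut G} {n : ℤ}, Ev τ N E n → ((x ^ p) ^ n)⁻¹ * τ (x ^ p) ∈ Ph E := fun h =>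
      ev_pow hp2 hnP (comm_le_swap ((commutator_mono (c2.trans l2) le_rfl).trans c1))
        (fun a ha => pE a (hLE (l2 (c2 ha)))) hx (hEN (h x hx)) (pE _ (h x hx))
    have hz : x ^ p ∈ E := PG.pow_mem_coatom (hG.to_subgroup N) (PG.isCoatom_of_index_eq_prime hp.out iE) ⟨x, hx⟩
    obtain ⟨τ, t1, -, t3, t4⟩ := tor (-1) (-1) (by simp)
    obtain ⟨τ', -, t2, -, t4'⟩ := tor 2 b hb
    by_contra h3
    by_cases h1 : x ^ p ∈ L₁
    · exact cast_ne hp5 (by decide) (t1.eq h1 h3 (pE _ hz) (k t4))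
    by_cases h2 : x ^ p ∈ L
    · exact cast_ne hp5 (by decide) (t2.eq h2 h1 (l1 (pE _ hz)) (l1 (k t4')))
    · exact cast_ne hp5 (by decide) (t3.eq hz h2 (l2 (l1 (pE _ hz))) (l2 (l1 (k t4))))
  obtain ⟨e, he, heL⟩ := exists_not_mem iL
  have eE := eq_sup_zpowers hLE iL he heL
  have hLN := hLE.trans hEN
  have : (Ph E).Normal := ⟨fun y hy g => by
    have hg := (inferInstance : N.Normal).conj_mem e (hEN he) g
    have h1 : img (cj g) E ≤ L ⊔ zpowers (g * e * g⁻¹) := img_le_iff.2 fun z hz => (sup_le (fun l hl => mem_sup_left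
      ((inferInstance : L.Normal).conj_mem l hl g)) (zpowers_le_of_mem (mem_sup_right (mem_zpowers _))) :
        L ⊔ zpowers e ≤ (L ⊔ zpowers (g * e * g⁻¹)).comap (MulAut.conj g).toMonoidHom) (eE.ge hz)
    exact (Ph_le_iff (hG.to_subgroup _)).2 ⟨(commutator_mono h1 h1).trans (comm_sup_self_le (hLN.trans hnP) (hnP hg)
      ((commutator_mono le_rfl hLN).trans c1) fun c hc => commutator_le.1 c1 c hc _ hg), fun z hz => pN z
        (sup_le hLN (zpowers_le_of_mem hg) (h1 hz))⟩ ((img_Ph hE (isHomOn_cj E g)).le (mem_img_of_mem (cj g) hy))⟩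
  have : L₁.Normal := ((eq_or_eq i1 le_sup_right (sup_le c2 l1)).resolve_left fun h => heL (cent e (hEN he)
    fun y hy => h.le (mem_sup_left (commutator_mem_commutator hy (hEN he))))) ▸ inferInstance
  have nE : ¬ E.Normal := fun h => hN (top_le_iff.1 ((normalizer_eq_top E).ge.trans hn))
  set L' := ⁅N, (⊤ : Subgroup G)⁆ ⊔ L with hL'
  have l3 : L ≤ L' := le_sup_right
  have l4 : L' ≤ N := sup_le (commutator_le_left _ _) hLN
  have n0 : ¬ ⁅N, (⊤ : Subgroup G)⁆ ≤ L := fun h =>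
    nE (normal_of_comm_le (((commutator_mono hEN le_rfl).trans h).trans hLE))
  have n3 : ¬ L' ≤ L := fun h => n0 (le_sup_left.trans h)
  have n4 : ¬ N ≤ L' := not_le_comm_sup hG fun h => n3 (l4.trans h)
  have i0 : L.relIndex N ≤ p ^ 2 := by rw [← relIndex_mul_relIndex L E N hLE hEN, iL, iE, sq]
  have i3 := relIndex_eq hG ((relIndex_le_left hG l3 l4 n4 i0).trans_eq (pow_one p)) n3
  have i4 := relIndex_eq hG ((relIndex_le_right hG l3 l4 n3 i0).trans_eq (pow_one p)) n4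
  have i2 := relIndex_eq hG ((relIndex_le_right hG l1 l2 (not_le_of_relIndex i1) (relIndex_le_left hG (l1.trans l2) hLE
    (not_le_of_relIndex iL) (hsr.relIndex_Ph hE))).trans_eq (pow_one p)) n2
  have iN : N.relIndex ⊤ = p := relIndex_eq hG ((relIndex_le_of_le_left ((le_normalizer_iff_commutator_le_left.2
    (((commutator_mono eE.ge le_rfl).trans (sup_comm_le (commutator_le_left _ _) (comm_le_swap (comm_zpowers_le
      fun c hc => mem_ce.1 hc)))).trans hLE)).trans hn) index_ne_zero_of_finite).trans ((relIndex_ce_le fun a _ =>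
        comm_mem_swap (mem_sup_left (commutator_mem_commutator (hEN he) (mem_top a)))).trans i3.le))
    fun h => hN (top_le_iff.1 h)
  obtain ⟨y, hy, hyL⟩ := exists_not_mem i3
  have eL := eq_sup_zpowers l3 i3 hy hyL
  have hyE : y ∉ E := fun h => nE ((eq_or_eq iL l3 (eL.ge.trans (sup_le hLE (zpowers_le_of_mem h)))).resolve_left
    (fun h => n3 h.le) ▸ inferInstance)
  have heL' : e ∉ L' := fun h => hyE ((eq_of_le_of_relIndex iE i4 (eE.ge.trans (sup_le l3 (zpowers_le_of_mem h)))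
    l4).le hy)
  have d1 := comm_top_le hG i1.le
  have d2 := comm_top_le hG i2.le
  have d3 := comm_top_le hG i3.le
  have tor' : ∀ a b : ℤ, (a : ZMod p) * b = 1 → ∃ τ : MulAut G, Ev τ L₁ (Ph E) a ∧ Ev τ L L₁ 1 ∧ Ev τ L' L (a * a) ∧
      Ev τ ⊤ N (a * a * a) ∧ ∀ c ∈ cm L' (Ph E), τ c ∈ cm L' (Ph E) := fun a b hab => by
    obtain ⟨τ, t1, t2, t3, t4⟩ := tor a b hab
    have m1 := ev_mem t4 hEN
    have m2 := ev_mem t2 l2
    have m3 : ∀ y ∈ L', τ y ∈ L' := fun y hy => (sup_le (commutator_le.2 fun u hu v _ => mem_comap.2 (by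
      rw [map_commutatorElement]; exact mem_sup_left (commutator_mem_commutator (m1 u hu) trivial)))
      (fun l hl => l3 (m2 l hl)) : L' ≤ L'.comap τ.toMonoidHom) hy
    obtain ⟨c, -, hc⟩ := exists_ev i3 m3 (apply_mem_iff m2)
    have t5 := hc.congr (fun z hz => l2 (l1 (pN z (l4 hz)))) (t4.eq (l4 hy) hyE (Ph_le E (pN y (l4 hy)))
      (hLE (hc y hy))).symm
    have t6 := Ev.of_elt i4 m1 (apply_mem_iff m3) (hEN he) heL' (l3 (t3 e he))
    obtain ⟨c', -, hc'⟩ := exists_ev iN (fun _ _ => trivial) (apply_mem_iff m1)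
    have := Ev.rel t6 hc' t5 le_top le_sup_left d3 d3 (c2.trans l2) (fun z hz => l2 (l1 (pN z (l4 hz)))) n0
    refine ⟨τ, t1, t2, t5, hc'.congr (fun z _ => iN ▸ pow_relIndex_mem N (mem_top z)) ?_, fun c hc m hm => ?_⟩
    · push_cast at this ⊢
      linear_combination (-c' : ZMod p) * hab - a * this
    · obtain ⟨m, rfl⟩ := τ.surjective m
      rw [← map_commutatorElement]
      exact Ph_mono hG (img_le_iff.2 (ev_mem t3 hLE)) ((img_Ph hE (isHomOn_monoidHom E τ.toMonoidHom)).le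
        (mem_img_of_mem _ (hc m ((apply_mem_iff m3 m).1 hm))))
  obtain ⟨τ, t1, t2, t3, t4, t5⟩ := tor' (-1) (-1) (by simp)
  obtain ⟨τ', s1, s2, s3, s4, s5⟩ := tor' 2 b hb
  have d4 : ⁅L, (⊤ : Subgroup G)⁆ ≤ Ph E := by_contra fun h => cast_ne hp5 (m := 2) (n := 1 * (2 * 2 * 2)) (by decide)
    ((Ev.rel s2 s4 s1 le_top d2 d1 d1 c1 (fun z hz => pE z (hLE (l2 hz))) h).trans (Int.cast_mul _ _).symm)
  have d5 : ⁅L', (⊤ : Subgroup G)⁆ ≤ L₁ := by_contra fun h => cast_ne hp5 (m := 1) (n := -1 * -1 * (-1 * -1 * -1))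
    (by decide) ((Ev.rel t3 t4 t2 le_top d3 d2 d2 ((commutator_mono l4 le_rfl).trans c2)
      (fun z hz => l1 (pE z (hLE hz))) h).trans (Int.cast_mul _ _).symm)
  have l5 : L' ≤ cm L' (Ph E) := le_cm.2 (eL ▸ comm_sup_zpowers_le (comm_le_top d4) fun a ha =>
    commutator_le.1 d4 a ha y trivial)
  have n5 : ¬ N ≤ cm L' (Ph E) := fun h => hyL (cent y (l4 hy) fun z hz => comm_mem_swap (h hz y hy))
  have i5 : (cm L' (Ph E)).relIndex ⊤ ≤ p := (relIndex_le_of_le_left (le_cm.2 ((commutator_mono eL.ge le_rfl).trans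
    (sup_comm_le (comm_le_top d4) (comm_le_swap (comm_zpowers_le fun c hc => mem_ce.1 hc))))) index_ne_zero_of_finite).trans
    ((relIndex_ce_le fun a _ => comm_mem_swap (commutator_le.1 d5 y hy a trivial)).trans i1.le)
  obtain ⟨c, hc, hcN⟩ := SetLike.not_le_iff_exists.1 fun h : cm L' (Ph E) ≤ N => n5 (eq_of_le_of_relIndex
    (relIndex_eq hG i5 fun h => n5 (le_top.trans h)) iN h le_top).le
  have e5 := (eq_or_eq i4 (le_inf l5 l4) inf_le_right).resolve_right fun h => n5 (h.ge.trans inf_le_left)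
  have i6 : L'.relIndex (cm L' (Ph E)) = p := (congrArg (relIndex · _) e5.symm).trans ((inf_relIndex_left _ _).trans
    (relIndex_of_not_le hG (relIndex_top_right N ▸ iN) fun h => hcN (h hc)))
  have eC := (eq_sup_zpowers l5 i6 hc fun h => hcN (l4 h)).ge
  have c3 : ⁅cm L' (Ph E), cm L' (Ph E)⁆ ≤ Ph E := (commutator_mono eC eC).trans
    (comm_sup_zpowers_le (le_cm.1 l5) hc)
  have hz : c ^ p ∈ L' := i6 ▸ pow_relIndex_mem L' hc
  have h3 : c ^ p ∉ Ph E := fun h => hp.out.one_lt.not_ge (i6.ge.trans (relIndex_le_right hG l3 l5 n3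
    (relIndex_le_right hG l2 (l3.trans l5) n2 (relIndex_le_right hG l1 (l2.trans (l3.trans l5)) (not_le_of_relIndex i1)
      (hsr _ _ c3 fun z hz => pow_mem_sup (le_cm.1 (zpowers_le_of_mem hc)) (fun a ha => pN a (l4 ha))
        (pow_mem_zpowers h) (le_cm.1 l5) comm_zpowers_self z (eC hz))))))
  have k : ∀ {τ : MulAut G} {n : ℤ}, Ev τ ⊤ N n → (∀ c ∈ cm L' (Ph E), τ c ∈ cm L' (Ph E)) →
      ((c ^ p) ^ n)⁻¹ * τ (c ^ p) ∈ Ph E := fun h h' =>
    ev_pow hp2 (le_top.trans (normalizer_eq_top _).ge) ((commutator_mono le_rfl c3).trans (commutator_le_right _ _))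
      (fun a ha => pow_mem (c3 ha) p) hc (mul_mem (inv_mem (zpow_mem hc _)) (h' c hc)) (pN _ (h c trivial))
  have pz := pN _ (l4 hz)
  by_cases h1 : c ^ p ∈ L₁
  · exact cast_ne hp5 (by decide) (s1.eq h1 h3 pz (k s4 s5))
  by_cases h2 : c ^ p ∈ L
  · exact cast_ne hp5 (by decide) (t2.eq h2 h1 (l1 pz) (l1 (k t4 t5)))
  · exact cast_ne hp5 (by decide) (t3.eq hz h2 (l2 (l1 pz)) (l2 (l1 (k t4 t5))))

end CL.SR3
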