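import Mathlib
import Cfsg.Agent.FUS.SR3Z
import Cfsg.Agent.FUS.DStarFus
import Cfsg.Agent.S5265

/-!
# Sectional rank three: essential subgroups
-/

set_option autoImplicit false

namespace CL.SR3
open Subgroup Cfsg Cfsg.FusionSystem CL.Fus CL.TV CL.EssSm CL.EigC
open scoped commutatorElement

variable {G : Type*} [Group G] [Finite G] {p : ℕ} [hp : Fact p.Prime] {E E' M N R T : Subgroup G}

omit [Finite G] in
theorem Ph_subgroupOf [Finite N] (hN : IsPGroup p N) (h : E ≤ N) : Ph (E.subgroupOf N) = (Ph E).subgroupOf N := by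
  have := img_Ph (hN.to_subgroup (E.subgroupOf N)) (isHomOn_monoidHom _ N.subtype)
  rw [img_monoidHom, img_monoidHom, map_subgroupOf_eq_of_le h] at this
  exact (comap_map_eq_self_of_injective N.subtype_injective _).symm.trans (congrArg (comap N.subtype) this)

theorem exists_transv (hG : IsPGroup p G) (hsr : SR p G) [E.Normal] (h : ¬ E.index ≤ p) (hE : E ≠ ⊥) :
    ∃ L x, Ph E ≤ L ∧ L ≤ E ∧ L.relIndex E = p ∧ x ∉ E ∧ ∀ y ∈ L, ⁅y, x⁆ ∈ Ph E := by
  obtain ⟨L, _, l1, l2, i⟩ := PN.exists_normal_index_prime_between hG (Ph E) E (lt_of_le_not_ge (Ph_le E) fun e =>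
    hE (le_bot_iff.1 (le_of_le_sup_Ph bot_le (e.trans le_sup_right))))
  replace i := relIndex_eq_of_card l2 i
  by_cases c : ⁅L, (⊤ : Subgroup G)⁆ ≤ Ph E
  · obtain ⟨x, -, hx⟩ := SetLike.not_le_iff_exists.1 fun e : ⊤ ≤ E => h ((index_eq_one.2 (top_le_iff.1 e)).trans_le hp.out.pos)
    exact ⟨L, x, l1, l2, i, hx, fun y hy => commutator_le.1 c y hy x trivial⟩
  have l3 : ⁅L, (⊤ : Subgroup G)⁆ ⊔ Ph E ≤ L := sup_le (commutator_le_left _ _) l1
  have n1 : ¬ ⁅L, (⊤ : Subgroup G)⁆ ⊔ Ph E ≤ Ph E := fun e => c (le_sup_left.trans e)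
  have n2 := not_le_comm_sup hG fun e => n1 (l3.trans e)
  have i0 := relIndex_le_left hG l1 l2 (not_le_of_relIndex i) (hsr.relIndex_Ph (hG.to_subgroup E))
  have i1 := (relIndex_le_left hG le_sup_right l3 n2 i0).trans_eq (pow_one p)
  have i2 := relIndex_eq hG ((relIndex_le_right hG le_sup_right l3 n1 i0).trans_eq (pow_one p)) n2
  obtain ⟨l, hl, hl'⟩ := exists_not_mem i2
  obtain ⟨x, hx, hxE⟩ := SetLike.not_le_iff_exists.1 fun e : ce l (Ph E) ≤ E => h ((index_antitone e).trans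
    ((relIndex_top_right _).ge.trans ((relIndex_ce_le fun a _ => comm_mem_swap (mem_sup_left
      (commutator_mem_commutator hl (mem_top a)))).trans i1)))
  exact ⟨L, x, l1, l2, i, hxE, fun y hy => comm_mem_of_sup (le_top.trans (normalizer_eq_top _).ge)
    ((normalizer_eq_top _).ge (mem_top l)) (fun c hc => commutator_le.1 (comm_top_le hG i1) c hc x trivial)
    (comm_mem_swap (mem_ce.1 hx)) ((eq_sup_zpowers l3 i2 hl hl').ge hy)⟩

omit [Finite G] in
theorem X2.card' {A : Subgroup (MulAut E)} (hx : X2 p A R) (hR : R.index = p) : Nat.card R = p ^ 3 :=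
  Nat.eq_of_mul_eq_mul_right hp.out.pos ((hR ▸ card_mul_index R).trans (hx.1.trans (pow_succ p 3)))

omit [Finite G] in
theorem X2.na {A : Subgroup (MulAut E)} (hx : X2 p A R) (hR : R.index = p) : ¬ IsMulCommutative R := fun e => by
  have := hx.2.2.2.1.2
  rw [center_eq_top, card_top, hx.card' hR] at this
  exact (pow_lt (by omega : 1 < 3)).ne' (this.trans (pow_one p).symm)

variable {F : FusionSystem (⊤ : Subgroup G)}

theorem not_center_index (hG : IsPGroup p G) (hp2 : Odd p) (hF : F.IsSaturated p) (hc : F.core = ⊥)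
    (h2 : ¬ SectionalPRankLE p 2 G) : ¬ (center G).index ≤ p ^ 2 := fun h => by
  cases subsingleton_or_nontrivial G
  · exact h2 fun H N _ A _ _ => (card_le_card_group A).trans ((Nat.le_of_dvd Nat.card_pos
      (card_quotient_dvd_card N)).trans (Nat.card_unique.trans_le (pow_pos hp.out.pos 2)))
  have h3 := Cfsg.Agent.S5265.hyp_of hG hF hc h
  exact h2 (not_sectional_two hG (h3.odd fun e => absurd (e ▸ hp2) (by decide)).2.1 h3.na)

/-- `O^{p'}(Aut_F(E))` -/
abbrev AE (F : FusionSystem (⊤ : Subgroup G)) (E : Subgroup G) : Subgroup (MulAut E) :=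
  opA (F.autGroup E) (autInducedBy ⊤ E)

omit [Finite G] hp in
theorem AE_le : AE F E ≤ F.autGroup E := opA_le (autInducedBy_le_autGroup F le_top)

omit [Finite G] hp in
theorem autInducedBy_normalizer : autInducedBy (normalizer (E : Set G)) E = autInducedBy ⊤ E := by
  ext α
  simp only [mem_autInducedBy_iff_cjAut]
  exact ⟨fun ⟨g, _, h⟩ => ⟨g, trivial, h⟩, fun ⟨g, _, h, e⟩ => ⟨g, h, h, e⟩⟩

omit hp in
theorem essential_img (hE : F.IsEssential p E) {g : G → G} (hg : Mor F R g) (h : normalizer (E : Set G) ≤ R) :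
    F.IsEssential p (img g E) ∧ img g (normalizer (E : Set G)) = normalizer (img g E : Set G) := by
  have hN := (normalizerIn_top E).le.trans h
  have hm := hg.mono (Subgroup.le_normalizer.trans h)
  have e := hg.img_normalizerIn_eq hE.2.1 hN
  rw [normalizerIn_top, normalizerIn_top] at e
  obtain ⟨h1, h2, h3, P, hP⟩ := hE
  let φ : F.autGroup E ≃* F.autGroup (img g E) :=
    subgroupEquivOfMemIff (hm.conjAut rfl) fun _ => hm.conjAut_mem_autGroup_iff rfl
  refine ⟨⟨isCentric_of_isConj h1 hm.isConj, hg.fullyNormalized_img h2 hN, inn_normal_in_autGroup F _, _,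
    isStronglyPEmbedded_map_equiv (QuotientGroup.congr _ _ φ ?_) hP⟩, e⟩
  ext β
  obtain ⟨α, rfl⟩ := φ.surjective β
  rw [Subgroup.mem_subgroupOf, ← hm.map_conjAut_inn rfl]
  exact (mem_map_iff_mem (f := φ.toMonoidHom) φ.injective).trans
    (mem_map_iff_mem (f := (hm.conjAut rfl).toMonoidHom) (K := Inn E) (x := α.1) (hm.conjAut rfl).injective).symm

omit hp in
theorem exists_AE {g : G → G} (hg : Mor F ⊤ g) (h : img g E = E') {β : MulAut E'} (hβ : β ∈ AE F E') :
    ∃ α ∈ AE F E, ∀ y ∈ E, autFun β (g y) = g (autFun α y) := by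
  have hm := hg.mono (le_top : E ≤ ⊤)
  have h1 : autInducedBy ⊤ E' ≤ (autInducedBy ⊤ E).map (hm.conjAut h).toMonoidHom := fun t ht => by
    obtain ⟨s, hs, e⟩ := mem_autInducedBy_iff.1 ht
    obtain ⟨s, -, rfl⟩ := hg.mem_img.1 (hg.img_top.ge hs)
    refine ⟨(hm.conjAut h).symm t, mem_autInducedBy_iff.2 ⟨s, trivial, fun y hy => hg.injOn trivial trivial ?_⟩,
      MulEquiv.apply_symm_apply _ _⟩
    rw [hm.autFun_conjAut_symm h t hy, e (h ▸ mem_img_of_mem g hy), hg.map_cj trivial trivial]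
  obtain ⟨α, hα, rfl⟩ : β ∈ (AE F E).map (hm.conjAut h).toMonoidHom := by
    rw [map_opA, hm.map_conjAut_autGroup h]
    refine Subgroup.closure_mono (fun _ h => ?_) hβ
    obtain ⟨g, hg, t, ht, e⟩ := h
    exact ⟨g, hg, t, h1 ht, e⟩
  exact ⟨α, hα, fun y hy => hm.autFun_conjAut h α hy⟩

variable (hG : IsPGroup p G) (hsr : SR p G) (hF : F.IsSaturated p)
include hG hsr hF

theorem idx_ess (hE : F.IsEssential p E) : E.relIndex (normalizer (E : Set G)) = p := by
  have hT := hG.to_subgroup ⊤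
  have hC := centralizer_le_of_centric hE.1
  have hlt := lt_of_essential hT hF hE
  have hlt' := normalizerIn_top E ▸ lt_normalizerIn hT hlt
  refine relIndex_eq hG (by_contra fun h => ?_) hlt'.not_ge
  obtain ⟨L, x, l1, l2, i, hx, c⟩ := exists_transv (E := E.subgroupOf (normalizer (E : Set G))) (hG.to_subgroup _)
    (hsr.comap (subtype_injective _)) h fun e => hlt.not_ge fun g _ => hC fun y hy => by
      rw [show y = 1 from congrArg Subtype.val (e.le (x := ⟨y, Subgroup.le_normalizer hy⟩) hy), one_mul, mul_one]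
  rw [Ph_subgroupOf (hG.to_subgroup _) Subgroup.le_normalizer] at l1 c
  have hr := rad_of_essential hT hF hE trivial x.2 hx
  have hI : ∀ α ∈ F.autGroup E, (∀ y ∈ E, y⁻¹ * autFun α y ∈ Ph E) ↔ α ∈ Inn E := fun α hα =>
    ⟨fun h => have k : ∀ y : E, y⁻¹ * α y ∈ frattini E := fun y =>
        (mem_map_iff_mem E.subtype_injective).1 (autFun_coe α y ▸ h y y.2 :)
      hr.mem_inn le_rfl le_rfl (inv_of_char _ _) (inv_of_char _ _) hα (fun y _ => k y) (fun y _ => k y) k,
      fun h y hy => have ⟨_, hg, e⟩ := mem_inn_iff.1 h; e hy ▸ inv_mul_cj_mem (comm_le_Ph (hG.to_subgroup E)) hg hy⟩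
  have l3 : L.map (Subgroup.subtype _) ≤ E := map_le_iff_le_comap.2 l2
  obtain ⟨⟨h1, h2⟩, -⟩ := exists_tvS (L := L.map (Subgroup.subtype _)) (hG.to_subgroup E) (sylIn_of_fullyNormalized hT hF
    hE.2.1) (cjAut_mem_autInducedBy (mem_top x.1) x.2) le_rfl (autInv_of_le _ le_rfl) (autInv_map_of_char _ _)
    (fun y hy => ⟨⟨y, Subgroup.le_normalizer (Ph_le E hy)⟩, l1 hy, rfl⟩) l3 (comm_le_Ph (hG.to_subgroup E))
    (by rwa [← relIndex_subgroupOf Subgroup.le_normalizer, subgroupOf,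
      comap_map_eq_self_of_injective (subtype_injective _)])
    (by
      rintro _ ⟨y, hy, rfl⟩
      have : ((Ph E).subgroupOf (normalizer (E : Set G))).Normal :=
        Ph_subgroupOf (hG.to_subgroup _) (Subgroup.le_normalizer (H := E)) ▸ inferInstance
      exact autFun_cjAut x.2 (l2 hy) ▸ (inv_mul_cj_iff.2 (c y hy) :))
    (fun e => hr.notMem ((hI _ hr.mem).1 e))
    fun ψ ρ _ _ _ hker => ⟨_, relSPE_map (relSPE_extAut_of_essential hT hF hE) (autInducedBy_le_autGroup F le_top) ρ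
      fun α => (hker α).trans (hI α α.2)⟩
  have k : ∀ {g} (hg : g ∈ normalizer (E : Set G)), (∀ y ∈ E, y⁻¹ * autFun (cjAut E g hg) y ∈ Ph E) → g ∈ E :=
    fun hg h => (cjAut_mem_inn_iff le_top (centralizerIn_le_of_isCentric hE.1) trivial hg).1
      ((hI _ (cjAut_mem_autGroup F le_top trivial hg)).1 h)
  refine h ((relIndex_le_of_le_right (fun g hg => ?_) index_ne_zero_of_finite).trans (Nat.le_of_dvd hp.out.pos
    (MC.relIndex_sup_zpowers_dvd_of_pow_mem x.2 (k (pow_mem x.2 p) (cjAut_pow x.2 p ▸ h1)))))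
  obtain ⟨n, hn⟩ := h2 _ (cjAut_mem_autInducedBy (mem_top g) hg)
  have h3 := k ((x ^ n)⁻¹ * ⟨g, hg⟩).2 (by
    rwa [show cjAut E _ ((x ^ n)⁻¹ * ⟨g, hg⟩).2 = _ from (map_mul E.normalizerMonoidHom _ _).trans
      (by rw [map_inv, map_zpow])])
  have h4 := zpow_mem (mem_sup_right (S := E) (mem_zpowers x.1)) n
  exact (Subgroup.mul_mem_cancel_left _ (Subgroup.inv_mem _ h4)).1 (mem_sup_left h3)

theorem locE (hE : F.IsEssential p E) : Loc p (normalizer (E : Set G)) E (AE F E) :=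
  have hT := hG.to_subgroup ⊤
  show Loc p _ E (opA _ _) from autInducedBy_normalizer (E := E) ▸ Loc.of (hG.to_subgroup _) Subgroup.le_normalizer
    (idx_ess hG hsr hF hE) (autInducedBy_normalizer (E := E) ▸ sylIn_of_fullyNormalized hT hF hE.2.1)
    (autInducedBy_normalizer (E := E) ▸ not_le_normalizer_of_essential hT hF hE)

theorem locE_top (hE : F.IsEssential p E) (hn : normalizer (E : Set G) = ⊤) : Loc p ⊤ E (AE F E) :=
  hn ▸ locE hG hsr hF hE

theorem exists_X2 (hp2 : Odd p) (hc : F.core = ⊥) (hZ : ¬ (center G).index ≤ p ^ 2)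
    (hn : ∀ E, F.IsEssential p E → normalizer (E : Set G) = ⊤) :
    ∃ E R, F.IsEssential p E ∧ F.IsEssential p R ∧ E ≠ R ∧ X2 p (AE F E) R := by
  have hT := hG.to_subgroup ⊤
  obtain ⟨T, h1, h2⟩ := exists_max (fun E : {E // F.IsEssential p E} => E.1) fun E => AE F E
  have h3 : ∀ g, Mor F ⊤ g → ∀ y ∈ T, g y ∈ T := fun g hg => img_le_iff.1 (h2 _ fun E => by
    obtain ⟨g', hg', -, e⟩ := hg.exists_inv
    rw [hg.img_top] at hg' e
    have e1 : img g (img g' E) = E := by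
      rw [← (hg'.mono le_top).isHomOn.img_comp, img_congr (f := g ∘ g') (g := id) fun y _ => (e y trivial).2, img_id]
    have := h1 ⟨_, (essential_img E.2 hg' le_top).1⟩
    refine ⟨(img_mono g this.1).trans e1.le, autInv_of_forall fun β hβ y hy => ?_⟩
    obtain ⟨t, ht, rfl⟩ := (hg.mono le_top).mem_img.1 hy
    obtain ⟨α, hα, e⟩ := exists_AE hg e1 hβ
    exact e t (this.1 ht) ▸ mem_img_of_mem g (this.2 α hα t (this.1 ht) ht))
  obtain rfl : T = ⊥ := le_bot_iff.1 ((le_core (normal_of_essential hT hF fun R hR => by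
    rcases hR with rfl | hR
    · exact ⟨le_top, fun g hg _ => hg.img_eq_self_of_le le_top (h3 g hg)⟩
    refine ⟨(h1 ⟨R, hR⟩).1, fun g hg e => hg.img_eq_self_of_le (h1 ⟨R, hR⟩).1 fun t ht => ?_⟩
    have htR := (h1 ⟨R, hR⟩).1 ht
    obtain ⟨α, hα, e'⟩ := hg.exists_aut e
    obtain ⟨κ, hκ, hκ'⟩ := exists_opA_mul (sylIn_of_fullyNormalized hT hF hR.2.1) hα
    have hm := mul_mem (AE_le hκ) hα
    obtain ⟨f, hf, e''⟩ := exists_extend_of_isCentric hT hF (mor_autFun le_top hm) hR.1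
    have := (h1 ⟨R, hR⟩).2 _ (inv_mem hκ) _ (autFun_mem _ htR) (e'' htR ▸ h3 f (hf.mono fun s _ =>
      (mem_Nphi_autFun_iff le_top hm).2 ⟨trivial, (hn R hR).ge trivial, (mem_normalizer_iff.1 hκ' _).1
        (cjAut_mem_autInducedBy (mem_top s) _)⟩) t ht)
    rwa [autFun_mul _ _ htR, autFun_inv_autFun _ (autFun_mem _ htR), e' htR] at this)).trans hc.le)
  cases isEmpty_or_nonempty {E // F.IsEssential p E}
  · exact (hZ ((index_eq_one.2 (top_le_iff.1 ((h2 ⊤ isEmptyElim).trans bot_le))).trans_le (pow_pos hp.out.pos 2))).elim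
  have loc := fun E : {E // F.IsEssential p E} => locE_top hG hsr hF E.2 (hn _ E.2)
  obtain ⟨i, j, hij, h | h⟩ := thmX hp2 hsr loc Subtype.val_injective fun M hM => le_bot_iff.1 (h2 M hM)
  · exact (hZ (by rw [h.1, ← relIndex_mul_index inf_le_left, relIndex_inf hG (loc i).index (loc j).index
      (Subtype.val_injective.ne hij), (loc i).index, sq])).elim
  · exact ⟨i, j, i.2, j.2, Subtype.val_injective.ne hij, h⟩

theorem X2_of_two (hp2 : Odd p) (hZ : ¬ (center G).index ≤ p ^ 2) (E : Bool → Subgroup G)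
    (inj : Function.Injective E) (hE : ∀ i, F.IsEssential p (E i)) (hc : ∀ i g, Mor F ⊤ g → img g (E i) = E i) :
    ∃ i j, i ≠ j ∧ X2 p (AE F (E i)) (E j) := by
  have hT := hG.to_subgroup ⊤
  have loc := fun i => locE_top hG hsr hF (hE i) (top_le_iff.1 fun g _ => mem_normalizer_iff_img_cj.2
    (hc i _ (mor_cj F le_rfl trivial)))
  obtain ⟨T, h1, h2⟩ := exists_max E fun i => AE F (E i)
  obtain ⟨i, j, hij, ⟨h, -⟩ | h⟩ := thmQ hp2 loc hsr inj h1 h2
  swap
  · exact ⟨i, j, hij, h⟩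
  have key : ∀ {i j}, i ≠ j → Two p T (AE F (E i)) (AE F (E j)) → E i ⊓ E j ≤ centralizer (E j : Set G) :=
    fun {i j} hij h => (h.center_eq_or (fun M hM e1 e2 => h2 M fun k => by
      rcases (by decide : ∀ i j k : Bool, i ≠ j → k = i ∨ k = j) i j k hij with rfl | rfl
      exacts [⟨hM.trans inf_le_left, e1⟩, ⟨hM.trans inf_le_right, e2⟩]) fun x hx w hw e => by
        obtain ⟨f, hf, e1, e2⟩ := exists_extend_elt hT hF (hE i).1 (AE_le hw) trivial trivial _ _ e
        rw [top_eq_sup_zpowers (loc i).index hx] at hf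
        exact ⟨f, hf.isHomOn, e1, e2, img_le_iff.1 (hc j f hf).le, fun k hk => exists_AE hf (hc j f hf) hk⟩).2
  have t : Two p T (AE F (E i)) (AE F (E j)) := ⟨h, hp2, hsr, loc i, loc j, inj.ne hij, le_inf (h1 i).1 (h1 j).1,
    (h1 i).2, (h1 j).2⟩
  refine (hZ ((index_antitone fun y hy => mem_center_iff.2 fun g => (le_centralizer_iff.1 (sup_le
    (le_centralizer_iff.1 (inf_comm (E i) _ ▸ key hij.symm t.symm)) (le_centralizer_iff.1 (key hij t))) hy g
      ((sup_eq_top (loc i).index (loc j).index t.ne).ge trivial))).trans_eq ?_)).elim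
  rw [← relIndex_mul_index inf_le_left, t.idx, (loc i).index, sq]

omit hG hsr hF in
/-- data attached to a non-normal essential subgroup -/
structure NN (p : ℕ) (F : FusionSystem (⊤ : Subgroup G)) (E N L : Subgroup G) : Prop where
  ess : F.IsEssential p E
  eq : normalizer (E : Set G) = N
  fn : F.IsFullyNormalized N
  ne : N ≠ ⊤
  le : L ≤ E
  idx : L.relIndex E = p
  comm : ⁅L, N⁆ ≤ Ph E
  cent : ∀ g ∈ N, (∀ y ∈ N, ⁅y, g⁆ ∈ Ph E) → g ∈ L
  ph : Ph N ≤ L
  nE : ¬ AutInv (AE F E) L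
  inv : AutInv (F.autGroup N) L
  pearl : (Ph E).relIndex E ≤ p ^ 2 → (IsElementaryAbelian p E ∧ Nat.card E = p ^ 2) ∨
    (IsExtraspecial p E ∧ Nat.card E = p ^ 3 ∧ ∀ x ∈ E, x ^ p = 1)

omit hsr hF in
theorem relIndex_Ph_img {g : G → G} (hg : Mor F E g) : (Ph (img g E)).relIndex (img g E) = (Ph E).relIndex E :=
  relIndex_eq_of_card (Ph_le _) (by
    rw [← img_Ph (hG.to_subgroup E) hg.isHomOn, hg.card_img, (hg.mono (Ph_le E)).card_img]
    exact card_eq_of_relIndex (Ph_le E) rfl)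

theorem exists_NN' (hp2 : Odd p) (hE : F.IsEssential p E) (hN : normalizer (E : Set G) = N) (hn : N ≠ ⊤)
    (fn : F.IsFullyNormalized N) : ∃ E' L, NN p F E' N L ∧ (Ph E').relIndex E' = (Ph E).relIndex E := by
  classical
  have hT := hG.to_subgroup ⊤
  have hEN : E ≤ N := hN ▸ Subgroup.le_normalizer
  let ι := {E' // ∃ g, Mor F N g ∧ img g N = N ∧ img g E = E'}
  have ess : ∀ i : ι, F.IsEssential p i ∧ normalizer (i.1 : Set G) = N := fun ⟨_, g, hg, e, rfl⟩ =>
    have := essential_img hE hg hN.le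
    ⟨this.1, this.2.symm.trans ((congrArg _ hN).trans e)⟩
  have le : ∀ i : ι, i.1 ≤ N := fun i => Subgroup.le_normalizer.trans (ess i).2.le
  let φ : G → N := fun g => if h : g ∈ N then ⟨g, h⟩ else 1
  have he : ∀ x : N, φ x = x := fun x => dif_pos x.2
  have hφ : IsHomOn N φ := fun x hx y hy => (he (⟨x, hx⟩ * ⟨y, hy⟩)).trans (by rw [he ⟨x, hx⟩, he ⟨y, hy⟩])
  have loc0 : ∀ i : ι, Loc p N i (AE F i) := fun i => by
    have := locE hG hsr hF (ess i).1
    rwa [(ess i).2] at this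
  have loc := fun i : ι => (loc0 i).push (T := ⊥) hφ ((img_eq_subgroupOf he le_rfl).trans (subgroupOf_self N))
    (img_eq_subgroupOf he (le i)) (fun y hy => by rw [he ⟨y, hy⟩, mem_bot, Subtype.ext_iff]; rfl) bot_le
    (autInv_bot _) fun e => (loc0 i).nn (le_trans (fun α hα => have ⟨g, hg, e⟩ := e α hα
      mem_autInducedBy_iff.2 ⟨g, hg, fun y hy => (inv_mul_eq_one.1 (e y hy)).symm⟩) Subgroup.le_normalizer)
  have inj : Function.Injective fun i : ι => i.1.subgroupOf N := fun i j e => Subtype.ext ((map_subgroupOf_eq_of_le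
    (le i)).symm.trans ((congrArg (map N.subtype) e).trans (map_subgroupOf_eq_of_le (le j))))
  obtain ⟨s, hs, hsN⟩ := SetLike.exists_of_lt (lt_normalizerIn hT (lt_top_iff_ne_top.2 hn))
  have : Nontrivial ι := ⟨⟨E, id, mor_id F le_top, img_id N, img_id E⟩, ⟨_, cj s, mor_cj F le_top trivial,
    mem_normalizer_iff_img_cj.1 hs.2, rfl⟩, fun e => hsN (hN.le (mem_normalizer_iff_img_cj.2
      (congrArg Subtype.val e).symm))⟩
  have hsr' := hsr.comap N.subtype_injective
  obtain ⟨T, h1, h2⟩ := exists_max _ fun i : ι => push (AE F i) φ _ (img_eq_subgroupOf he (le i))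
  obtain ⟨i, j, hij, ⟨h, h'⟩ | h⟩ := thmQ hp2 loc hsr' inj h1 h2
  swap
  · obtain ⟨g, hg, -, e1⟩ := i.2
    obtain ⟨g', hg', -, e2⟩ := j.2
    have e := (((subgroupOfEquivOfLe (le i)).trans ((hg.mono hEN).equiv e1).symm).trans
      ((hg'.mono hEN).equiv e2)).trans (subgroupOfEquivOfLe (le j)).symm
    exact (h.na (loc _).index (Function.Surjective.mul_comm (f := e.toMulHom) e.surjective h.2.2.1.1)).elim
  have t : Two p T _ _ := ⟨h, hp2, hsr', loc i, loc j, inj.ne hij, le_inf (h1 i).1 (h1 j).1, (h1 i).2, (h1 j).2⟩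
  have eP := Ph_subgroupOf (hG.to_subgroup _) (le i)
  have inv : ∀ k : ι, ∀ β ∈ F.autGroup N, ∀ y ∈ i.1 ⊓ j.1, autFun β y ∈ k.1 := fun ⟨_, g, hg, e, rfl⟩ β hβ y hy => by
    have hm := mor_autFun le_top (inv_mem hβ)
    obtain ⟨z, hz, rfl⟩ := (hm.mono ((img_mono g hEN).trans e.le)).mem_img.1 (h' ⟨_, _, hm.comp hg (img_le_iff.1 e.le),
      (hg.isHomOn.img_comp _).trans (e.symm ▸ img_autFun _), (hg.mono hEN).isHomOn.img_comp _⟩
      (x := ⟨y, le i hy.1⟩) hy)
    exact (autFun_autFun_inv β ((img_mono g hEN).trans e.le hz)).symm ▸ hz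
  refine ⟨i, i ⊓ j, ⟨(ess i).1, (ess i).2, fn, hn, inf_le_left, (relIndex_subgroupOf (le i)).symm.trans t.idx,
    commutator_le.2 fun a ha b hb => (eP ▸ commutator_le.1 t.comm_le_Ph ⟨a, le i ha.1⟩ ha ⟨b, hb⟩ trivial :),
    fun g hg e => t.cent ⟨g, hg⟩ fun y => t.Ph_le (eP.ge (e y y.2)), (Ph_le_iff (hG.to_subgroup N)).2
      ⟨commutator_le.2 fun a ha b hb => t.mem_inf ⟨a, ha⟩ ⟨b, hb⟩, fun g hg => t.le (t.pow ⟨g, hg⟩)⟩,
    fun e => t.nE ((img_eq_subgroupOf he (inf_le_left.trans (le i))).trans (comap_inf _ _ _) ▸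
      autInv_push (hφ.mono (le i)) _ inf_le_left e), autInv_of_forall fun β hβ y hy =>
        ⟨inv i β hβ y hy, inv j β hβ y hy⟩, fun hr => ?_⟩, ?_⟩
  · have e := subgroupOfEquivOfLe (le i)
    have c := Nat.card_congr e.toEquiv
    rcases t.pearl (by rwa [eP, relIndex_subgroupOf (le i)]) with ⟨⟨h3, h4⟩, h5⟩ | ⟨h3, h4, h5⟩
    · exact .inl ⟨⟨Function.Surjective.mul_comm (f := e.toMulHom) e.surjective h3, fun y hy =>
        congrArg Subtype.val (h4 ⟨y, le i hy⟩ hy)⟩, c ▸ h5⟩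
    · exact .inr ⟨isExtraspecial_congr e h3, c ▸ h4, fun y hy => congrArg Subtype.val (h5 ⟨y, le i hy⟩ hy)⟩
  · obtain ⟨g, hg, -, e⟩ := i.2
    exact e ▸ relIndex_Ph_img hG (hg.mono hEN)

theorem exists_NN (hp2 : Odd p) (hE : F.IsEssential p E) (hn : normalizer (E : Set G) ≠ ⊤) :
    ∃ E' N L, NN p F E' N L ∧ (Ph E').relIndex E' = (Ph E).relIndex E := by
  obtain ⟨g, hg, fn⟩ := exists_mor_normalizer_fullyNormalized (hG.to_subgroup ⊤) hF
    (le_top : normalizer (E : Set G) ≤ ⊤)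
  have hN := le_normalizerIn (le_top : normalizer (E : Set G) ≤ ⊤)
  obtain ⟨h1, h2⟩ := essential_img hE hg hN
  obtain ⟨E', L, h3, h4⟩ := exists_NN' hG hsr hF hp2 h1 h2.symm (fun e => hn (Subgroup.eq_top_of_card_eq _
    ((hg.mono hN).card_img.symm.trans (e ▸ card_top)))) fn
  exact ⟨E', _, L, h3, h4.trans (relIndex_Ph_img hG (hg.mono (Subgroup.le_normalizer.trans hN)))⟩

omit hG hsr hF hp in
theorem not_conj_stab (hE : F.IsFullyNormalized E) (hN : normalizer (E : Set G) = N) {s : G}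
    (hs : s ∈ normalizer (N : Set G)) (hsN : s ∉ N) {γ : MulAut N} (hγ : γ ∈ F.autGroup N) :
    ¬ ∀ x ∈ E.subgroupOf N, γ (cjAut N s hs (γ⁻¹ x)) ∈ E.subgroupOf N := fun h3 => by
  have hEN : E ≤ N := Subgroup.le_normalizer.trans hN.le
  have hm := mor_autFun le_top (inv_mem hγ)
  have key : ∀ t, (∀ x ∈ E, autFun γ (cj t (autFun γ⁻¹ x)) ∈ E) → t ∈ normalizer (N : Set G) →
      t ∈ normalizerIn ⊤ (img (autFun γ⁻¹) E) := fun t h4 hn => ⟨trivial, mem_normalizer_of_cj_mem fun y hy => by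
    obtain ⟨x, hx, rfl⟩ := (hm.mono hEN).mem_img.1 hy
    rw [← autFun_inv_autFun γ (cj_mem_of_mem_normalizer hn (autFun_mem γ⁻¹ (hEN hx)))]
    exact mem_img_of_mem _ (h4 x hx)⟩
  have h5 : normalizerIn ⊤ E < normalizerIn ⊤ (img (autFun γ⁻¹) E) := ((normalizerIn_top E).trans hN).trans_lt <| lt_of_le_of_ne
    (fun t ht => key t (fun x hx => by
      rw [(isHomOn_autFun γ).map_cj ht (autFun_mem _ (hEN hx)), autFun_autFun_inv γ (hEN hx)]
      exact cj_mem_of_mem_normalizer (hN.ge (autFun_mem γ ht)) hx) (Subgroup.le_normalizer ht)) fun e => hsN (e.ge (key s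
      (fun x hx => by
        have := h3 ⟨x, hEN hx⟩ hx
        rwa [mem_subgroupOf, ← autFun_coe, cjAut_apply, ← autFun_coe] at this) hs))
  exact (Fus.card_lt_of_lt h5 le_top).not_ge (hE.2 _ (hm.mono hEN).isConj)

theorem NN.not_rank_three {L : Subgroup G} (h : NN p F E N L) (hp5 : 5 ≤ p) : (Ph E).relIndex E ≠ p ^ 3 := fun hr => by
  have hT := hG.to_subgroup ⊤
  have loc := h.eq ▸ locE hG hsr hF h.ess
  have hEN := loc.le
  have hLN := h.le.trans hEN
  have hc := isCentric_of_le h.ess.1 hEN le_top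
  have l0 := (Ph_mono hG hEN).trans h.ph
  by_cases hO : (pCore p (F.autGroup N)).map (F.autGroup N).subtype ≤ Inn N
  · obtain ⟨s, hs, hsN⟩ := SetLike.exists_of_lt (lt_normalizerIn hT (lt_top_iff_ne_top.2 h.ne))
    have : (L.subgroupOf N).Normal := (normal_subgroupOf_iff_le_normalizer hLN).2
      (le_normalizer_iff_commutator_le_left.2 (h.comm.trans l0))
    obtain ⟨γ, hγ, h3⟩ := Rad.exists_conj_stab (A := L.subgroupOf N) ⟨hG.to_subgroup N, cjAut_mem_autGroup F le_top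
      trivial hs.2, isPGroup_zpowers_cjAut hT trivial hs.2, fun e => hsN ((cjAut_mem_inn_iff le_top
        (centralizerIn_le_of_isCentric hc) trivial hs.2).1 e), hO.antisymm (inn_le_map_pCore F le_top loc.pg)⟩
      (map_le_iff_le_comap.1 h.ph) (fun g a ha => mem_subgroupOf.2 (autFun_coe g.1 a ▸ h.inv g g.2 a a.2 ha))
      (by
        rw [← comap_map_eq_self_of_injective N.subtype_injective (frattini N)]
        exact (relIndex_subgroupOf hLN).symm ▸ relIndex_dvd hG ((relIndex_le_left hG h.ph h.le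
          (not_le_of_relIndex h.idx) (relIndex_le_left hG (h.ph.trans h.le) hEN (not_le_of_relIndex loc.idx)
            (hsr.relIndex_Ph loc.pg))).trans_eq (pow_one p)))
      ((relIndex_mul_relIndex L E N h.le hEN).symm.trans (by rw [h.idx, loc.idx, sq])) (comap_mono h.le)
      ((relIndex_subgroupOf hEN).trans h.idx)
    exact not_conj_stab h.ess.2.1 h.eq hs.2 hsN hγ h3
  obtain ⟨κ, hκ, hκ'⟩ := SetLike.not_le_iff_exists.1 hO
  obtain ⟨s, -, hs, rfl⟩ := mem_autInducedBy_iff_cjAut.1 ((sylIn_of_fullyNormalized hT hF h.fn).map_pCore_le hκ)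
  set H := kNorm ⊤ N ((pCore p (F.autGroup N)).map (F.autGroup N).subtype) with hH
  have hNH : N ≤ H := fun g hg => ⟨trivial, _, inn_le_map_pCore F le_top loc.pg (inn_eq_autInducedBy N ▸
    cjAut_mem_autInducedBy hg (Subgroup.le_normalizer hg)), autFun_cjAut _⟩
  have hHN : H ≤ normalizer (N : Set G) := fun g hg => (kNorm_le_normalizerIn _ _ _ hg).2
  have hEH := hEN.trans hNH
  obtain ⟨x, hx, hxE⟩ := exists_not_mem loc.idx
  have eN := eq_sup_zpowers hEN loc.idx hx hxE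
  obtain ⟨L₁, D, t⟩ := loc.tvS hx hxE le_rfl (autInv_of_le _ le_rfl) (autInv_map_of_char _ _) l0 h.le
    (fun _ hg _ hy => inv_mul_cj_mem (comm_le_Ph loc.pgE) hg hy) h.idx
    (fun _ hy => inv_mul_cj_mem (comm_le_swap h.comm) hx hy) h.nE
  have l2 := le_sup_left.trans t.sup.le
  have n1 : N ≤ normalizer (L₁ : Set G) := le_normalizer_iff_commutator_le_left.2
    (((commutator_mono l2 le_rfl).trans h.comm).trans t.le₁)
  have c2 : ⁅N, N⁆ ≤ L₁ := eN ▸ comm_sup_self_le (hEN.trans n1) (n1 hx) ((comm_le_Ph loc.pgE).trans t.le₁) fun y hy => by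
    have := t.comm _ (inv_mem hy)
    rwa [autFun_cjAut _ (inv_mem hy), inv_inv, cj, ← mul_assoc, ← mul_assoc] at this
  have : (N.subgroupOf H).Normal := (normal_subgroupOf_iff_le_normalizer hNH).2 hHN
  have : (L.subgroupOf H).Normal := (normal_subgroupOf_iff_le_normalizer (hLN.trans hNH)).2 fun g hg =>
    mem_normalizer_of_cj_mem fun y hy => autFun_cjAut (hHN hg) (hLN hy) ▸ h.inv _
      (cjAut_mem_autGroup F le_top trivial (hHN hg)) y (hLN hy) hy
  have eP := Ph_subgroupOf (hG.to_subgroup _) hEH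
  refine lemZ (N := N.subgroupOf H) (E := E.subgroupOf H) (L := L.subgroupOf H) (L₁ := L₁.subgroupOf H)
    (hG.to_subgroup H) (hsr.comap H.subtype_injective) hp5 (fun e => hκ' (inn_eq_autInducedBy N ▸
      cjAut_mem_autInducedBy (mem_subgroupOf.1 (e.ge (mem_top ⟨s, trivial, _, hκ, autFun_cjAut hs⟩))) hs)) (comap_mono hEN)
    ((relIndex_subgroupOf hNH).trans loc.idx) ((subgroupOf_normalizer_eq hEH).ge.trans (comap_mono h.eq.le))
    (comap_mono h.le) ((relIndex_subgroupOf hEH).trans h.idx) (eP.le.trans (comap_mono t.le₁)) (comap_mono l2)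
    (eP ▸ (relIndex_subgroupOf (l2.trans (h.le.trans hEH))).trans t.idx) (fun e => ?_)
    (eP ▸ commutator_le.2 fun a ha b hb => commutator_le.1 h.comm a ha b hb)
    (commutator_le.2 fun a ha b hb => commutator_le.1 c2 a ha b hb)
    (fun g hg e => h.cent g hg fun y hy => eP.le (e ⟨y, hNH hy⟩ hy)) fun a b hab => ?_
  · rw [← relIndex_mul_relIndex _ L E l0 h.le, h.idx, ← l2.antisymm fun y hy => e (x := ⟨y, hEH (h.le hy)⟩) hy,
      t.idx, ← sq] at hr
    exact (pow_lt (by omega : 2 < 3)).ne hr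
  obtain ⟨w, hw, w1, w2, w3, w4⟩ := t.tor a b hab
  have hu := zpow_mem (loc.cj_mem hx) (a * a)
  have i0 := autInv_map_of_char (AE F E) (frattini E)
  have k : ∀ y ∈ E, y⁻¹ * autFun ((cjAut E x (loc.norm hx) ^ (a * a))⁻¹ * (w * cjAut E x (loc.norm hx) * w⁻¹)) y ∈ Ph E :=
    fun y hy => by
      have := i0 _ (inv_mem hu) _ (Ph_le E (w4 y hy)) (w4 y hy)
      rwa [(isHomOn_autFun _).map_mul (inv_mem (autFun_mem _ hy)) (autFun_mem _ hy), (isHomOn_autFun _).map_inv
        (autFun_mem _ hy), autFun_inv_autFun _ hy, ← autFun_mul _ _ hy] at this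
  obtain ⟨f, hf, e1, e2⟩ := exists_extend_elt hT hF h.ess.1 (AE_le hw) (y := x ^ (a * a)) trivial trivial (loc.norm hx)
    (zpow_mem (loc.norm hx) _) (by
      rw [show cjAut E _ (zpow_mem (loc.norm hx) (a * a)) = _ from map_zpow E.normalizerMonoidHom ⟨x, loc.norm hx⟩ _]
      exact loc.mem_inn_Ph (mul_mem (inv_mem hu) (Fus.cj_mem hw (loc.cj_mem hx))) le_rfl le_rfl i0 i0
        (fun y hy _ => k y hy) (fun y hy _ => k y hy) k)
  have e3 : img f N = N := by
    have := hf.isHomOn.img_sup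
    rw [(hf.isHomOn.mono le_sup_right).img_zpowers, img_congr e1, img_autFun, eN] at this
    exact (eN ▸ hf).img_eq_self (img_le_iff.1 (this.le.trans (sup_le hEN (zpowers_le_of_mem
      ((N.mul_mem_cancel_left (inv_mem (zpow_mem hx _))).1 (hEN e2))))))
  rw [eN] at hf
  obtain ⟨α, hα, e4⟩ := hf.exists_aut e3
  obtain ⟨g, hg, e5⟩ := exists_extend_of_isCentric hT hF hf hc
  replace hg := hg.mono (kNorm_pCore_le_Nphi hT hF h.fn hf e3)
  obtain ⟨τ, -, e6⟩ := hg.exists_aut (hg.img_eq_self fun y ⟨_, l, hl, e⟩ => ⟨trivial, α * l * α⁻¹,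
    (mem_normalizer_iff.1 (le_normalizer_map_pCore _ hα) l).1 hl, fun z hz => by
      have h1 := autFun_mem α⁻¹ hz
      rw [autFun_mul _ _ hz, autFun_mul _ _ h1, e4 (autFun_mem l h1), ← e5 (autFun_mem l h1), e h1,
        hg.map_cj ⟨trivial, l, hl, e⟩ (hNH h1), e5 h1, ← e4 h1, autFun_autFun_inv α hz]⟩)
  have e7 : ∀ y : H, y.1 ∈ N → (τ y : G) = f y := fun y hy => (autFun_coe τ y).symm.trans ((e6 y.2).trans (e5 hy))
  have e8 : ∀ y : H, y.1 ∈ E → (τ y : G) = autFun w y := fun y hy => (e7 y (hEN hy)).trans (e1 hy)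
  have k2 : ∀ {B : Subgroup G} {y : H} {n : ℤ} {z}, (τ y : G) = z → (y.1 ^ n)⁻¹ * z ∈ B →
      (y ^ n)⁻¹ * τ y ∈ B.subgroupOf H := fun e h => by
    simpa only [mem_subgroupOf, Subgroup.coe_mul, Subgroup.coe_inv, Subgroup.coe_zpow, e] using h
  refine ⟨τ, eP ▸ fun y hy => k2 (e8 y (h.le (l2 hy))) (w1 y hy), fun y hy => k2 (e8 y (h.le hy)) ?_,
    fun y hy => k2 (e8 y hy) (w3 y hy), fun y hy => k2 (e7 y hy) ?_⟩
  · obtain ⟨l, hl, d, hd, e⟩ := (coe_mul_of_right_le_normalizer_left L₁ D ((le_sup_right.trans t.sup.le).trans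
      (hLN.trans n1))).le (t.sup.ge hy)
    have hd' := h.le (t.sup.le (mem_sup_right hd))
    rw [show (y : G) = l * d from e.symm, zpow_one, (isHomOn_autFun w).map_mul (h.le (l2 hl)) hd']
    convert L₁.mul_mem (cj_mem_of_mem_normalizer (n1 (hEN (inv_mem hd'))) (L₁.mul_mem (L₁.mul_mem (inv_mem hl)
      (zpow_mem hl a)) (t.le₁ (w1 l hl)))) (t.le₁ (w2 d hd)) using 1
    rw [cj]; group
  · have : (E.subgroupOf N).Normal := (normal_subgroupOf_iff_le_normalizer hEN).2 loc.norm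
    have e9 : ∀ y : N, (α y : G) = f y := fun y => (autFun_coe α y).symm.trans (e4 y.2)
    have := Ev.of_elt (τ := α) (A := ⊤) (b := a * a) ((relIndex_top_right _).trans loc.idx) (fun _ _ => trivial)
      (apply_mem_iff fun y hy => mem_subgroupOf.2 (e9 y ▸ e1 hy ▸ autFun_mem w hy)) (mem_top ⟨x, hx⟩) hxE
      (by simpa only [mem_subgroupOf, Subgroup.coe_mul, Subgroup.coe_inv, Subgroup.coe_zpow, e9] using e2)
      ⟨y, hy⟩ trivial
    simpa only [mem_subgroupOf, Subgroup.coe_mul, Subgroup.coe_inv, Subgroup.coe_zpow, e9] using this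

end CL.SR3
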