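import Mathlib
import Cfsg.Agent.FUS.SR3Fus
import Cfsg.Agent.CLAS.SpForm

/-!
# Recognition of the Sylow `p`-subgroup of `Sp₄(p)`
-/

set_option autoImplicit false

namespace CL.SR3
open Subgroup Cfsg Cfsg.FusionSystem CL.Fus CL.TV CL.EssSm Matrix
open scoped commutatorElement

section mat
variable (F : Type*) [CommRing F]

/-- the unipotent radical of the Siegel parabolic -/
def nS : Multiplicative (F × F × F) →* symplecticGroup (Fin 2) F := MonoidHom.mk' (fun v =>
  ⟨fromBlocks 1 !![v.toAdd.1, v.toAdd.2.1; v.toAdd.2.1, v.toAdd.2.2] 0 1, SymplecticGroup.fromBlocks_mem_iff.2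
    ⟨by simp, by ext i j; fin_cases i <;> fin_cases j <;> simp, by simp⟩⟩) fun v w => Subtype.ext (by
    simp [fromBlocks_multiply, add_comm])

/-- a unipotent subgroup of the Levi factor -/
def mS : Multiplicative F →* symplecticGroup (Fin 2) F := MonoidHom.mk' (fun t =>
  ⟨fromBlocks !![1, t.toAdd; 0, 1] 0 0 !![1, 0; -t.toAdd, 1], SymplecticGroup.fromBlocks_mem_iff.2
    ⟨by simp, by simp, by ext i j; fin_cases i <;> fin_cases j <;> simp [mul_apply]⟩⟩) fun v w => Subtype.ext (by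
    simp [fromBlocks_multiply, add_comm])

theorem mS_mul_nS (x y z : F) : mS F (.ofAdd 1) * nS F (.ofAdd (x, y, z)) * (mS F (.ofAdd 1))⁻¹ =
    nS F (.ofAdd (x + 2 * y + z, y + z, z)) := mul_inv_eq_iff_eq_mul.2 (Subtype.ext (by
  simp [mS, nS, fromBlocks_multiply]
  ring))

theorem nS_injective : Function.Injective (nS F) := (injective_iff_map_eq_one _).2 fun v hv => by
  have := congrArg (fun g => toBlocks₁₂ g.1) hv
  simp only [nS, MonoidHom.mk'_apply, toBlocks_fromBlocks₁₂, OneMemClass.coe_one, ← fromBlocks_one] at this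
  exact Multiplicative.ext (Prod.ext (congrFun (congrFun this 0) 0) (Prod.ext (congrFun (congrFun this 0) 1)
    (congrFun (congrFun this 1) 1)))

end mat

variable {p : ℕ} [hp : Fact p.Prime]

omit hp in
theorem card_dvd_four {X : Type*} [Group X] {a a₁ a₂ b : X} (h1 : b * a * b⁻¹ = a * a₁) (h2 : b * a₁ * b⁻¹ = a₁ * a₂)
    (h3 : b * a₂ * b⁻¹ = a₂) (c1 : Commute a a₁) (c2 : Commute a a₂) (c3 : Commute a₁ a₂) (p0 : a ^ p = 1)
    (p1 : a₁ ^ p = 1) (p2 : a₂ ^ p = 1) (p3 : b ^ p = 1) [Finite X] :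
    Nat.card (zpowers a₂ ⊔ zpowers a₁ ⊔ zpowers a ⊔ zpowers b : Subgroup X) ∣ p ^ 4 := by
  have k : ∀ {K : Subgroup X} {x : X} {n}, x ∈ normalizer (K : Set X) → x ^ p = 1 → Nat.card K ∣ p ^ n →
      Nat.card (K ⊔ zpowers x : Subgroup X) ∣ p ^ (n + 1) := fun hx e h => by
    rw [card_eq_of_relIndex le_sup_left rfl, pow_succ']
    exact mul_dvd_mul (MC.relIndex_sup_zpowers_dvd_of_pow_mem hx (e ▸ one_mem _)) h
  have z : ∀ {x y : X}, Commute x y → zpowers y ≤ centralizer {x} := fun h =>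
    zpowers_le_of_mem (mem_centralizer_singleton_iff.2 h.symm)
  have n : ∀ {K : Subgroup X} {x : X}, K ≤ centralizer {x} → x ∈ normalizer (K : Set X) := fun h =>
    centralizer_le_normalizer _ fun y hy => mem_centralizer_singleton_iff.1 (h hy)
  refine k (mem_normalizer_of_cj_mem fun y hy => (sup_le (sup_le (zpowers_le_of_mem ?_) (zpowers_le_of_mem ?_))
    (zpowers_le_of_mem ?_) : _ ≤ (zpowers a₂ ⊔ zpowers a₁ ⊔ zpowers a).comap (MulAut.conj b).toMonoidHom) hy) p3
    (k (n (sup_le (z c2) (z c1))) p0 (k (n (z c3)) p1 ?_))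
  · exact mem_comap.2 (show b * a₂ * b⁻¹ ∈ _ from h3.symm ▸ mem_sup_left (mem_sup_left (mem_zpowers a₂)))
  · exact mem_comap.2 (show b * a₁ * b⁻¹ ∈ _ from
      h2.symm ▸ mem_sup_left (mul_mem (mem_sup_right (mem_zpowers _)) (mem_sup_left (mem_zpowers _))))
  · exact mem_comap.2 (show b * a * b⁻¹ ∈ _ from
      h1.symm ▸ mul_mem (mem_sup_right (mem_zpowers _)) (mem_sup_left (mem_sup_right (mem_zpowers _))))
  · rw [pow_one, Nat.card_zpowers]
    exact orderOf_dvd_of_pow_eq_one p2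

theorem X2.sylow {G : Type*} [Group G] [Finite G] {E R : Subgroup G} {A : Subgroup (MulAut E)} (hp2 : Odd p)
    (h : Loc p ⊤ E A) (hR : R.index = p) (hne : E ≠ R) (hx : X2 p A R) :
    ∃ P : Sylow p (symplecticGroup (Fin 2) (ZMod p)), Nonempty (G ≃* P) := by
  have hG := h.pgG
  have := h.normalE
  have := PG.normal_of_index_eq hG hR
  have hab := le_centralizer_iff_isMulCommutative.2 hx.2.2.1.1
  have he := hx.2.2.1.2
  have i1 := relIndex_inf hG h.index hR hne
  obtain ⟨a, ha, ha'⟩ := exists_not_mem i1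
  obtain ⟨b, hb, hbE⟩ := SetLike.not_le_iff_exists.1 (not_le_of_ne hR h.index hne.symm)
  have m : ∀ x y : G, ⁅x, y⁆ ∈ E ⊓ R := fun x y => ⟨comm_mem_of_index hG h.index x y, comm_mem_of_index hG hR x y⟩
  have hZ : center G ≤ E ⊓ R := fun z hz => by
    have := om_le_of_normal (M := E ⊓ R) hG (Nat.card_congr (Equiv.setCongr (s := om p (⊤ : Subgroup G))
      (congrArg _ (om_top_le_center.antisymm fun z hz => mem_om_top hz (he z (h.center_le hz))))) |>.trans hx.2.1)
      fun e => hx.not_comm h ((commutator_mono (commutator_le.2 fun x _ y _ => e.le (m x y)) le_rfl).trans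
        (commutator_bot_left _).le)
    exact this (mem_om_top hz (he z (h.center_le hz)))
  have i2 : (center G).relIndex (E ⊓ R) = p := EigC.relIndex_of_card (k := 1) hZ (Nat.eq_of_mul_eq_mul_left hp.out.pos
    ((card_eq_of_relIndex inf_le_left i1).symm.trans ((hx.card h).trans (pow_succ' p 2)))) (hx.2.1.trans (pow_one p).symm)
  have c := comm_top_le hG i2.le
  have m1 : a⁻¹ * cj b a ∈ E ⊓ R := inv_mul_cj_iff.2 (m a b)
  have m2 : (a⁻¹ * cj b a)⁻¹ * cj b (a⁻¹ * cj b a) ∈ center G := inv_mul_cj_iff.2 (commutator_le.1 c _ m1 b trivial)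
  set a₁ := a⁻¹ * cj b a with e1
  set a₂ := a₁⁻¹ * cj b a₁ with e2
  have eE := eq_sup_zpowers inf_le_left i1 ha ha'
  have n1 : a₁ ∉ center G := fun e => hx.not_comm h (comm_le_of_le_center (comm_top_le_of h.index hbE
    ((commutator_eq_bot_iff_le_centralizer.2 hab).le.trans bot_le) fun y hy => comm_mem_of_sup (le_top.trans
      (normalizer_eq_top _).ge) ((normalizer_eq_top _).ge (mem_top a)) (fun d hd => commutator_le.1 c d hd b trivial)
        (inv_mul_cj_iff.1 e) (eE.ge hy)))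
  have n2 : a₂ ≠ 1 := fun e => n1 (mem_center_of h.index hbE (hab m1.1) (cj_eq_self_iff.1 (inv_mul_eq_one.1 e).symm))
  have eZ : zpowers a₂ = center G := Subgroup.eq_of_le_of_card_ge (zpowers_le_of_mem m2) (by
    rw [hx.2.1, Nat.card_zpowers, orderOf_eq_prime (he _ (h.center_le m2)) n2])
  let v := fun x y z : ZMod p => nS (ZMod p) (.ofAdd (x, y, z))
  have pv : ∀ x y z, v x y z ^ p = 1 := fun x y z => by
    rw [← map_pow, ← ofAdd_nsmul, ← Nat.cast_smul_eq_nsmul (ZMod p), ZMod.natCast_self, zero_smul, ofAdd_zero, map_one]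
  have cv : ∀ {x y z x' y' z'}, v x y z * v x' y' z' = v x' y' z' * v x y z := by
    intros; rw [← map_mul, mul_comm, map_mul]
  have hv : ∀ {x y z x' y' z'}, x' = 2 * y + z → y' = z → z' = 0 →
      mS _ (.ofAdd 1) * v x y z * (mS _ (.ofAdd 1))⁻¹ = v x y z * v x' y' z' := by
    rintro x y z _ _ _ rfl rfl rfl
    rw [mS_mul_nS, ← map_mul, ← ofAdd_add, Prod.mk_add_mk, Prod.mk_add_mk, add_zero, add_assoc]
  have h4 := card_dvd_four (p := p) (a := (a, v 0 0 1)) (a₁ := (a₁, v 1 1 0)) (a₂ := (a₂, v 2 0 0))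
    (b := (b, mS _ (.ofAdd 1))) (Prod.ext (mul_inv_cancel_left _ _).symm (hv (by ring) rfl rfl))
    (Prod.ext (mul_inv_cancel_left _ _).symm (hv (by ring) rfl rfl)) (Prod.ext (by
      simp [mem_center_iff.1 m2 b]) ((hv (x' := 0) (by ring) rfl rfl).trans (by simp [v, ← Prod.zero_eq_mk])))
    (Prod.ext (hab m1.1 a ha) cv) (Prod.ext (mem_center_iff.1 m2 a) cv) (Prod.ext (mem_center_iff.1 m2 a₁) cv)
    (Prod.ext (he a ha) (pv _ _ _)) (Prod.ext (he _ m1.1) (pv _ _ _)) (Prod.ext (he _ (h.center_le m2)) (pv _ _ _))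
    (Prod.ext (hx.2.2.2.2.1 b hb) (by
      rw [Prod.pow_snd, ← map_pow, ← ofAdd_nsmul, nsmul_one, ZMod.natCast_self, ofAdd_zero, map_one]; rfl))
  set Γ := zpowers (a₂, v 2 0 0) ⊔ zpowers (a₁, v 1 1 0) ⊔ zpowers (a, v 0 0 1) ⊔ zpowers (b, mS (ZMod p) (.ofAdd 1))
    with hΓ
  have s1 : Function.Surjective ((MonoidHom.fst _ _).comp Γ.subtype) := by
    rw [← MonoidHom.range_eq_top, MonoidHom.range_comp, range_subtype, hΓ]
    simp only [Subgroup.map_sup, MonoidHom.map_zpowers, MonoidHom.coe_fst]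
    rw [eZ, eq_sup_zpowers hZ i2 m1 n1, eE, top_eq_sup_zpowers h.index hbE]
  let φ := MulEquiv.ofBijective _ (s1.bijective_of_nat_card_le (hx.1 ▸ Nat.le_of_dvd (pow_pos hp.out.pos 4) h4))
  let θ := ((MonoidHom.snd _ _).comp Γ.subtype).comp φ.symm.toMonoidHom
  have hθ : Function.Injective θ := (MonoidHom.ker_eq_bot_iff θ).1 (by_contra fun e => by
    obtain ⟨z, hz, hz', hz''⟩ := PN.exists_mem_center_orderOf_eq hG θ.ker e
    have h5 : a₂ ∈ θ.ker := (zpowers_le_of_mem hz) ((Subgroup.eq_of_le_of_card_ge (zpowers_le_of_mem hz')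
      (by rw [hx.2.1, Nat.card_zpowers, hz''])).ge m2)
    have h6 : φ.symm a₂ = ⟨(a₂, v 2 0 0), mem_sup_left (mem_sup_left (mem_sup_left (mem_zpowers _)))⟩ :=
      φ.symm_apply_eq.2 rfl
    have h7 := congrArg (fun x => x.toAdd.1) ((injective_iff_map_eq_one _).1 (nS_injective (ZMod p)) _
      ((congrArg (fun x : Γ => x.1.2) h6).symm.trans (MonoidHom.mem_ker.1 h5)))
    exact absurd hp2 ((Nat.prime_dvd_prime_iff_eq hp.out Nat.prime_two).1 ((ZMod.natCast_eq_zero_iff 2 p).1 h7) ▸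
      by decide))
  have c1 := (Nat.card_congr (MonoidHom.ofInjective hθ).toEquiv).symm.trans hx.1
  refine ⟨IsPGroup.toSylow (.of_card c1) fun e => ?_, ⟨MonoidHom.ofInjective hθ⟩⟩
  have c2 := θ.range.card_mul_index
  rw [c1, CL.Sp.card_symplecticGroup, Nat.card_zmod, Finset.prod_range_succ, Finset.prod_range_one] at c2
  rw [Nat.eq_of_mul_eq_mul_left (pow_pos hp.out.pos 4) c2] at e
  rcases (Nat.Prime.dvd_mul hp.out).1 e with e | e <;> exact hp.out.one_lt.ne' (Nat.dvd_one.1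
    ((Nat.dvd_sub_iff_right (Nat.one_le_pow _ _ hp.out.pos) (dvd_pow_self p (by decide))).1 e))

end CL.SR3
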