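import Cfsg.Agent.FUS.NormMap
import Cfsg.Agent.FUS.CRTools
import Cfsg.Agent.TECH.Crit4

/-!
Small exponent subgroups of the hyperfocal subgroup control fusion (Benson–Grodal–Henke).
-/

set_option autoImplicit false

namespace CL.Fus

open Cfsg Cfsg.FusionSystem CL.PG

variable {Ω : Type*} [Group Ω] {S : Subgroup Ω} {F : FusionSystem S} {p : ℕ}

/-- The `p'`-elements of `Aut_F(Q)` act faithfully on `A`. -/
def Detects (F : FusionSystem S) (p : ℕ) (Q A : Subgroup Ω) : Prop :=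
  ∀ α ∈ F.autGroup Q, (orderOf α).Coprime p → (∀ y ∈ A, autFun α y = y) → α = 1

theorem Detects.img {Q A : Subgroup Ω} (h : Detects F p Q A) (hA : A ≤ Q) {σ : Ω → Ω} (hσ : Mor F Q σ) :
    Detects F p (img σ Q) (img σ A) := fun β hβ hc hfix => by
  obtain ⟨α, rfl⟩ := (hσ.conjAut rfl).surjective β
  rw [h α ((hσ.conjAut_mem_autGroup_iff rfl).1 hβ) (by rwa [MulEquiv.orderOf_eq] at hc) fun y hy =>
    hσ.injOn (autFun_mem α (hA hy)) (hA hy) (by
      rw [← hσ.autFun_conjAut rfl α (hA hy), hfix _ (mem_img_of_mem σ hy)]), map_one]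

theorem Detects.stabStep {Q A : Subgroup Ω} (h : Detects F p Q A) (hA : A ≤ Q) (β : MulAut Q) :
    StabStep p (F.autGroup Q) β A Q :=
  .inr fun α hα hc hfix y hy _ => by rw [h α hα hc fun y hy => hfix y (hA hy) hy, autFun_one hy]

theorem small_of_mor {P : Subgroup Ω} {f : Ω → Ω} (hf : Mor F P f) {x : Ω} (hx : x ∈ P) (h : Small p x) :
    Small p (f x) :=
  h.imp (fun h => by rw [← hf.map_pow hx, h, hf.map_one]) (And.imp_right fun h => by rw [← hf.map_pow hx, h, hf.map_one])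

theorem card_zpowers_of_small [Fact p.Prime] {y : Ω} (h : Small p y) (h1 : y ≠ 1) :
    Nat.card (Subgroup.zpowers y) = p ∨ Nat.card (Subgroup.zpowers y) = 4 := by
  rw [Nat.card_zpowers]
  by_cases hp : y ^ p = 1
  · exact .inl (orderOf_eq_prime hp h1)
  · obtain ⟨rfl, h4⟩ := h.resolve_left hp
    exact .inr (orderOf_eq_prime_pow (p := 2) (n := 1) (by simpa using hp) h4)

variable [Finite S] [Fact p.Prime] (hS : IsPGroup p S) (hF : F.IsSaturated p)
include hS hF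

theorem exists_small_detects {Q : Subgroup Ω} (hQ : Q ≤ S) :
    ∃ D A : Subgroup Ω, D ≤ Q ∧ D ≤ F.hyperfocalSubgroup p ∧ AutInv (F.autGroup Q) D ∧ (∀ d ∈ D, Small p d) ∧
      A ≤ D ∧ (∀ x ∈ A, ∀ y ∈ A, x * y = y * x) ∧ Q ≤ Subgroup.normalizer (A : Set Ω) ∧ Detects F p Q A := by
  have := finite_of_le hQ
  have hp := isPGroup_of_le hS hQ
  obtain ⟨D, h1, h2, h3, h4, h5⟩ := exists_small_critical hp (Γ := F.autGroup Q)
    (fun g => inn_le_autGroup F hQ ⟨g, rfl⟩) (R := (F.hyperfocalSubgroup p).subgroupOf Q) fun α hα x hx => by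
      have := autInv_of_sc (sc_hyperfocal hS hF) hQ α hα x x.2 hx
      rwa [autFun_coe] at this
  obtain ⟨A, ⟨hA, hab⟩, hmax⟩ := (Set.toFinite {A : Subgroup Q | A ≤ D ∧ A ≤ Subgroup.centralizer A}).exists_maximal
    ⟨⊥, bot_le, bot_le⟩
  have hC : D ⊓ Subgroup.centralizer A ≤ A := fun c hc => by
    refine hmax (y := A ⊔ Subgroup.zpowers c) ⟨sup_le hA (Subgroup.zpowers_le.2 hc.1), ?_⟩ le_sup_left
      (Subgroup.mem_sup_right (Subgroup.mem_zpowers c))
    refine sup_le (Subgroup.le_centralizer_iff.1 (sup_le hab (Subgroup.zpowers_le.2 hc.2)))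
      (Subgroup.le_centralizer_iff.1 (sup_le (Subgroup.le_centralizer_iff.1 (Subgroup.zpowers_le.2 hc.2))
        (Subgroup.le_centralizer _)))
  have hn : A.Normal := Subgroup.commutator_top_right_le_iff.1 ((Subgroup.commutator_mono hA le_rfl).trans
    (h4.trans ((inf_le_inf_left D (Subgroup.centralizer_le hA)).trans hC)))
  refine ⟨D.map Q.subtype, A.map Q.subtype, Subgroup.map_subtype_le _, Subgroup.map_le_iff_le_comap.2 h1, ?_, ?_,
    Subgroup.map_mono hA, ?_, fun g hg => ?_, fun α hα hc hfix => mulAut_ext_autFun fun x hx => ?_⟩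
  · rintro α hα _ - ⟨y, hy, rfl⟩
    exact ⟨α y, h2 α hα y hy, (autFun_coe α y).symm⟩
  · rintro _ ⟨y, hy, rfl⟩
    exact (h3 y hy).map Q.subtype
  · rintro _ ⟨x, hx, rfl⟩ _ ⟨y, hy, rfl⟩
    exact congrArg Subtype.val (hab hy x hx)
  · have := finite_of_le ((Subgroup.map_subtype_le A).trans hQ)
    refine mem_normalizer_of_cj_mem ?_
    rintro _ ⟨y, hy, rfl⟩
    exact ⟨_, hn.conj_mem y hy ⟨g, hg⟩, rfl⟩
  · rw [autFun_one hx]
    refine autFun_eq_of_coprime hp hc (fun y hy hyU => (autFun_of_mem α hy).trans (congrArg Subtype.val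
      (h5 α hα hc (fun d hd => ?_) ⟨y, hy⟩ hyU))) hx (mem_hyperfocal_of_mem_Oup hQ (mem_Oup hα hc) hx)
    exact aut_fix_of_centralizer_le α hc (hp.to_subgroup A) (le_top.trans (Subgroup.normalizer_eq_top A).ge)
      (h2 α hα) hC (fun x hx => Subtype.ext ((autFun_coe α x).symm.trans (hfix _ ⟨x, hx, rfl⟩))) hd

omit hF in
theorem chain_itc {Q D : Subgroup Ω} (hQ : Q ≤ S) (hD : AutInv (F.autGroup Q) D) {β : MulAut Q}
    (hβ : β ∈ F.autGroup Q) (h : ∀ α ∈ F.autGroup Q, ∀ y ∈ Q, y ∈ D → ∃ g, Mor F S g ∧ g y = autFun α y)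
    (h' : ∀ y ∈ Q, y ∈ D → ∃ s ∈ S, cj s y = autFun β y) :
    Relation.ReflTransGen (StabStep p (F.autGroup Q) β) ⊥ D := by
  obtain ⟨n, hn⟩ := exists_itc_eq_bot hS le_rfl le_rfl
  have hinv : ∀ i, AutInv (F.autGroup Q) (D ⊓ itc S S i) := fun i α hα y hy hyD => ⟨hD α hα y hy hyD.1, by
    obtain ⟨g, hg, e⟩ := h α hα y hy hyD.1
    have := mem_img_of_mem g hyD.2
    rwa [hg.isHomOn.img_itc le_rfl le_rfl Subgroup.le_normalizer, hg.img_top, e] at this⟩
  have := reflTransGen_of_nat (r := StabStep p (F.autGroup Q) β) (fun i => D ⊓ itc S S i) (fun i =>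
    .inl ⟨hinv _, hinv _, fun y hy hyD => ⟨D.mul_mem (D.inv_mem hyD.1) (hD β hβ y hy hyD.1), by
      obtain ⟨s, hs, e⟩ := h' y hy hyD.1
      rw [← e]
      exact inv_mul_cj_mem (Subgroup.commutator_comm _ _).le hs hyD.2⟩⟩) n
  rw [hn, inf_bot_eq] at this
  exact this.tail (.inr fun α _ _ hfix y hy hyD => hfix y hy ⟨hyD, hQ hy⟩)

theorem isNormal_top_of_small_extend (h : ∀ P f, Mor F P f → ∀ y ∈ P, y ∈ F.hyperfocalSubgroup p → Small p y →
    ∃ g, Mor F S g ∧ g y = f y) : F.IsNormal S :=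
  isNormal_top_of_no_essential hS hF fun Q hQ => by
    obtain ⟨D, A, h1, h2, h3, h4, h5, -, -, h6⟩ := exists_small_detects hS hF hQ.1.1
    refine (lt_normalizerIn hS (lt_of_essential hS hF hQ)).not_ge fun x hx => mem_of_chain hS
      (centralizerIn_le_of_isCentric hQ.1) (isRadical_of_essential hS hF hQ) hx.1 hx.2 le_rfl ?_
    exact (chain_itc hS hQ.1.1 h3 (cjAut_mem_autGroup F hQ.1.1 hx.1 hx.2)
      (fun α hα y hy hyD => h _ _ (mor_autFun hQ.1.1 hα) y hy (h2 hyD) (h4 y hyD))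
      fun y hy _ => ⟨x, hx.1, (autFun_cjAut hx.2 hy).symm⟩).tail
        (Detects.stabStep (fun α hα hc hfix => h6 α hα hc fun y hy => hfix y (h5 hy)) h1 _)

theorem eq_inner_of_small_cj (h : ∀ P f, Mor F P f → ∀ y ∈ P, y ∈ F.hyperfocalSubgroup p → Small p y →
    ∃ s ∈ S, cj s y = f y) : F = innerFusionSystem S :=
  eq_inner_of_isPGroup hS hF fun Q hQ' => by
    have hQ := (frc_of_top_or_essential hS hF hQ').1.1
    have := finite_of_le hQ
    obtain ⟨D, A, h1, h2, h3, h4, h5, -, -, h6⟩ := exists_small_detects hS hF hQ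
    refine (isPGroup_pCore.map (F.autGroup Q).subtype).to_le fun β hβ =>
      mem_pCore_of_chain (isPGroup_of_le hS hQ) hβ le_rfl ?_
    refine (chain_itc hS hQ h3 hβ (fun α hα y hy hyD => ?_)
      fun y hy hyD => h _ _ (mor_autFun hQ hβ) y hy (h2 hyD) (h4 y hyD)).tail
        (Detects.stabStep (fun α hα hc hfix => h6 α hα hc fun y hy => hfix y (h5 hy)) h1 _)
    obtain ⟨s, hs, e⟩ := h _ _ (mor_autFun hQ hα) y hy (h2 hyD) (h4 y hyD)
    exact ⟨_, mor_cj F le_rfl hs, e⟩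

theorem isSubsystemOf_of_small {E : FusionSystem S} (hE : E.IsSaturated p) (hEF : E.IsSubsystemOf F)
    (h : ∀ A f, A ≤ F.hyperfocalSubgroup p → (∀ x ∈ A, ∀ y ∈ A, x * y = y * x) → (∀ x ∈ A, Small p x) →
      Mor F A f → Mor E A f) : F.IsSubsystemOf E := by
  refine isSubsystemOf_iff.2 fun Q f hf => induction_lt (motive := fun Q => ∀ f, Mor F Q f → Mor E Q f)
    (fun Q hQ ih f hf => ?_) Q hf.le f hf
  obtain ⟨D, A, h1, h2, -, h4, h5, h6, h7, h8⟩ := exists_small_detects hS hF hQ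
  have hA := h5.trans h1
  obtain ⟨ψ, hψ, hn⟩ := exists_mor_normalizer_fullyNormalized hS hE (hA.trans hQ)
  replace hψ := hψ.mono (le_inf hQ h7)
  have hψ' := hψ.of_subsystem hEF
  obtain ⟨g, hg, e1, e2⟩ := hψ.exists_inv
  suffices key : Mor E (img ψ Q) (f ∘ g) from
    (key.comp hψ fun x hx => mem_img_of_mem ψ hx).congr fun x hx => congrArg f (e1 x hx)
  have hf' : Mor F (img ψ Q) (f ∘ g) := hf.comp (hg.of_subsystem hEF) fun y hy => (e2 y hy).1
  have hAE : ∀ f, Mor F (img ψ A) f → Mor E (img ψ A) f := fun f => h _ f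
    (sc_img_le (sc_hyperfocal hS hF) (hψ'.mono hA) (h5.trans h2)) (fun x hx y hy => by
      obtain ⟨a, ha, rfl⟩ := (hψ.mono hA).mem_img.1 hx
      obtain ⟨b, hb, rfl⟩ := (hψ.mono hA).mem_img.1 hy
      exact (hψ.commute_iff (hA ha) (hA hb)).2 (h6 a ha b hb)) fun x hx => by
      obtain ⟨a, ha, rfl⟩ := (hψ.mono hA).mem_img.1 hx
      exact small_of_mor hψ (hA ha) (h4 a (h5 ha))
  have h7' : img ψ Q ≤ normalizerIn S (img ψ A) := img_le_iff.2 fun x hx => hψ.map_mem_normalizerIn hA hx (h7 hx)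
  have h8' := h8.img hA hψ'
  have hA' := img_mono ψ hA
  have hcard := hψ.card_img
  generalize img ψ A = A at hn hAE h7' h8' hA'
  generalize img ψ Q = Q' at hf' h7' h8' hA' hcard
  generalize f ∘ g = f at hf'
  have hc := fullyCentralized_of_fullyNormalized hS hE hn
  have hc' : F.IsFullyCentralized A := ⟨hc.1, fun B hB => by
    obtain ⟨k, hk, rfl⟩ := isConj_iff.1 hB
    exact hc.2 _ (hAE k hk).isConj⟩
  obtain ⟨k, hk, ek, e4, -⟩ := (hAE f (hf'.mono hA')).exists_inv' rfl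
  obtain ⟨k', hk', e5⟩ := exists_extend hS hE hk (ek.symm ▸ hc)
  have hm : ∀ x ∈ Q', f x ∈ Nphi S (img f A) k := fun x hx =>
    ⟨hf'.map_mem hx, hf'.map_mem_normalizer hA' hx (h7' hx).2, x, (h7' hx).1, fun y hy => by
      obtain ⟨a, ha, rfl⟩ := (hf'.mono hA').mem_img.1 hy
      rw [← hf'.map_cj hx (hA' ha), e4 _ (cj_mem_of_mem_normalizer (h7' hx).2 ha), e4 a ha]⟩
  refine hk'.of_comp_left hm ?_
  have hT := (kNorm_eq_normalizerIn (S := S) (Q := A) le_rfl).symm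
  have hG := kNormSys_saturated_of_le hS hF hc' le_rfl hT
  have hN := isPGroup_of_le hS (normalizerIn_le S A)
  have := finite_of_le (normalizerIn_le S A)
  refine alperin_ind hN hG (motive := fun η => Mor E Q' η) (mor_id E hf'.le) (fun _ _ => Mor.congr)
    (fun η R γ hη hηE hR hγ eγ hm => ?_) (mor_kNormSys.2 (KMor.of_ext (hT ▸ h7')
      ((hk'.of_subsystem hEF).comp hf' hm) le_rfl hA' (one_mem _) fun x hx =>
        ((e5 (mem_img_of_mem _ hx)).trans (e4 x hx)).trans (autFun_one hx).symm))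
  have hγF := (mor_kNormSys.1 hγ).mor
  refine Mor.comp ?_ hηE hm
  by_cases hlt : Nat.card Q < Nat.card R
  · exact ih R hγF.le hlt γ hγF
  have hηF := hηE.of_subsystem hEF
  obtain rfl := hηF.img_eq_of_le (img_le_iff.2 hm) hγF.le (hcard ▸ not_lt.1 hlt)
  have hηA : img η A = A := by
    obtain ⟨-, g', -, e6, κ, -, e7⟩ := mor_kNormSys.1 hη
    exact (img_congr fun x hx => (e6 (hA' hx)).symm.trans (e7 hx)).trans (img_autFun κ)
  have h9 := h8'.img hA' hηF
  rw [hηA] at h9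
  have := finite_mulAut hγF.le
  obtain ⟨α, hα, e⟩ := hγ.exists_aut eγ
  have hsyl := sylIn_of_fullyNormalized hN hG (frc_of_top_or_essential hN hG hR).1
  rw [hsyl.eq_of_le le_rfl (isPGroup_of_forall_coprime fun β hβ hcop => h9 β
    (autGroup_mono kNormSys_isSubsystemOf _ hβ) hcop fun y hy => ?_) hsyl.1] at hα
  · obtain ⟨t, ht, e'⟩ := mem_autInducedBy_iff.1 hα
    exact (mor_cj E hγF.le ht.1).congr fun x hx => (e' hx).symm.trans (e hx)
  · have hAR : A ≤ img η Q' := hηA ▸ img_mono η hA'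
    obtain ⟨-, g', -, e6, κ, hκ, e7⟩ := mor_kNormSys.1 (mor_autFun hγ.le hβ)
    obtain ⟨s, hs, e8⟩ := mem_autInducedBy_iff.1 hκ
    have e9 : Set.EqOn (autFun β) (cj s) A := fun x hx => (e6 (hAR hx)).symm.trans ((e7 hx).trans (e8 hx))
    have hsn := mem_normalizer_of_eqOn_autFun e8
    rw [e9 hy]
    refine cj_eq_of_mem_centralizer (mem_of_pow_mem_of_not_dvd hS hs
      ((Nat.Prime.coprime_iff_not_dvd Fact.out).1 hcop.symm) (mem_centralizer_iff_cj.2 fun x hx => ?_)) hy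
    have e10 : ∀ n : ℕ, cj (s ^ n) x = autFun (β ^ n) x := fun n => by
      induction n with
      | zero => rw [pow_zero, pow_zero, cj_one, autFun_one (hAR hx)]
      | succ n ih => rw [pow_succ', pow_succ', cj_mul, autFun_mul _ _ (hAR hx), ← ih,
          e9 (cj_mem_of_mem_normalizer (pow_mem hsn n) hx)]
    rw [e10, pow_orderOf_eq_one, autFun_one (hAR hx)]

end CL.Fus
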